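import Cfsg.Agent.H96.CritApi

/-!
# Small tools for groups given by power-conjugate tables
-/

set_option autoImplicit false

namespace Cfsg.Agent.H13.Pk

open Cfsg.Agent.H96 Subgroup

section Pres

variable {X : Type*} [Group X]

/-- The product of the listed generators. -/
def wl (xs : List X) : List ℕ → X
  | [] => 1
  | i :: l => xs.getD i 1 * wl xs l

/-- The same product on numbers. -/
noncomputable def fm (w m : ℕ) (L : List (ℕ × ℕ)) (l : List ℕ) : ℕ :=
  List.rec 0 (fun i _ r => mulL w m L (2 ^ i) r) l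

theorem fm_spec {w m : ℕ} {L : List (ℕ × ℕ)} {xs : List X} (hc : chkL w m L = true)
    (hr : RelL w m L xs) : ∀ l : List ℕ, l.all (fun i => Nat.blt i L.length) = true →
      fm w m L l < 2 ^ L.length ∧ word xs (fm w m L l) = wl xs l
  | [], _ => ⟨Nat.two_pow_pos _, word_zero xs⟩
  | i :: l, h => by
    rw [List.all_cons, Bool.and_eq_true, Nat.blt_eq] at h
    obtain ⟨a, b⟩ := fm_spec hc hr l h.2
    have c : 2 ^ i < 2 ^ L.length := Nat.pow_lt_pow_right (by omega) h.1
    have hi : i < xs.length := hr.length ▸ h.1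
    refine ⟨(mon_of_chk L hc L List.suffix_rfl).lt _ c _ a, ?_⟩
    change word xs (mulL w m L (2 ^ i) (fm w m L l)) = _
    rw [word_mul L xs hc hr _ c _ a, b, word_two_pow xs i hi, wl, List.getD_eq_getElem _ _ hi]

/-- The action of `x` on the elements `ys` is given by words. -/
def Act (x : X) (xs : List X) : List X → List (List ℕ) → Prop
  | [], _ => True
  | y :: ys, a :: as => x⁻¹ * y * x = wl xs a ∧ Act x xs ys as
  | _ :: _, [] => False

theorem Act.get {x : X} {xs : List X} : ∀ {ys : List X} {as : List (List ℕ)}, Act x xs ys as →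
    ∀ (i : ℕ) (h : i < ys.length), x⁻¹ * ys[i] * x = wl xs (as.getD i [])
  | _ :: _, _ :: _, h, 0, _ => h.1
  | _ :: _, _ :: _, h, i + 1, hi => Act.get h.2 i (by simpa using hi)

/-- A presentation with arbitrary words on the right. -/
def Pres : List X → List (List ℕ × List (List ℕ)) → Prop
  | [], [] => True
  | x :: xs, p :: ps => x * x = wl xs p.1 ∧ Act x xs xs p.2 ∧ Pres xs ps
  | _, _ => False

/-- The presentation agrees with the tables. -/
noncomputable def presChk (w m : ℕ) (L : List (ℕ × ℕ)) : List (List ℕ × List (List ℕ)) → Bool :=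
  List.rec (fun ps => ps.isEmpty) (fun cd L r ps => !ps.isEmpty &&
    (ps.headD ([], [])).1.all (fun i => Nat.blt i L.length) &&
    Nat.beq (look w m cd.2 0) (fm w m L (ps.headD ([], [])).1) &&
    allLt L.length (fun i => ((ps.headD ([], [])).2.getD i []).all (fun i => Nat.blt i L.length) &&
      Nat.beq (look w m cd.1 (2 ^ i)) (fm w m L ((ps.headD ([], [])).2.getD i []))) &&
    r ps.tail) L

theorem rel_of_pres {w m : ℕ} : ∀ (L : List (ℕ × ℕ)) (xs : List X)
    (ps : List (List ℕ × List (List ℕ))), chkL w m L = true → Pres xs ps →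
      presChk w m L ps = true → RelL w m L xs
  | [], [], [], _, _, _ => trivial
  | [], _ :: _, _ :: _, _, _, h => by simp [presChk] at h
  | _ :: _, [], [], _, _, h => by simp [presChk] at h
  | (C, D) :: L, x :: xs, p :: ps, hc, hp, h => by
    rw [chkL_cons, Bool.and_eq_true] at hc
    change (_ && _ && _ && _ && presChk w m L ps) = true at h
    simp only [Bool.and_eq_true, allLt_iff, Nat.beq_eq, List.headD_cons] at h
    obtain ⟨⟨⟨⟨-, h1⟩, h2⟩, h3⟩, h4⟩ := h
    have hr := rel_of_pres L xs ps hc.2 hp.2.2 h4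
    refine ⟨?_, fun i => ?_, hr⟩
    · rw [h2, (fm_spec hc.2 hr _ h1).2, hp.1]
    · have hi : i.val < xs.length := by rw [hr.length]; exact i.2
      rw [(h3 i i.2).2, (fm_spec hc.2 hr _ (h3 i i.2).1).2, ← hp.2.1.get i hi, word_two_pow xs i hi]
      group

end Pres

section Gen

variable {M : Type*} [Group M]

/-- The subgroup generated by `gs` is described by `P`. -/
def Gen (P : M → Prop) (gs : List M) : Prop := ∀ x, x ∈ closure {g | g ∈ gs} ↔ P x

theorem gen_of [Finite M] {P : M → Prop} {gs : List M} (rk : M → ℕ) (h0 : P 1)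
    (h1 : ∀ x, P x → ∀ g ∈ gs, P (x * g))
    (h2 : ∀ x, P x → x = 1 ∨ ∃ g ∈ gs, P (x * g⁻¹) ∧ rk (x * g⁻¹) < rk x) : Gen P gs := by
  refine fun x => ⟨fun hx => ?_, fun hx => ?_⟩
  · have hx' : x ∈ Submonoid.closure {g | g ∈ gs} := by
      rw [← Subgroup.closure_toSubmonoid_of_finite]; exact hx
    induction hx' using Submonoid.closure_induction_right with
    | one => exact h0
    | mul_right y hy g hg ih =>
      exact h1 y (ih (by rw [← Subgroup.closure_toSubmonoid_of_finite] at hy; exact hy)) g hg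
  · induction h : rk x using Nat.strong_induction_on generalizing x with
    | _ n ih =>
    rcases h2 x hx with rfl | ⟨g, hg, a, b⟩
    · exact one_mem _
    · have := mul_mem (ih _ (h ▸ b) _ a rfl) (subset_closure (k := {g | g ∈ gs}) hg)
      rwa [inv_mul_cancel_right] at this

variable {G : Type*} [Group G] {P : M → Prop} {gs : List M} {φ : M →* G}

theorem map_clo (φ : M →* G) (gs : List M) :
    (closure {g | g ∈ gs}).map φ = closure {g | g ∈ gs.map φ} := by
  rw [MonoidHom.map_closure]; congr 1; ext; simp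

theorem Gen.mem (h : Gen P gs) (hφ : Function.Injective φ) {H : Subgroup G}
    (e : H = closure {g | g ∈ gs.map φ}) (x : M) : φ x ∈ H ↔ P x := by
  rw [e, ← map_clo, mem_map_iff_mem hφ, h x]

theorem Gen.ex (h : Gen P gs) {H : Subgroup G} (e : H = closure {g | g ∈ gs.map φ}) {u : G}
    (hu : u ∈ H) : ∃ x, P x ∧ φ x = u := by
  rw [e, ← map_clo] at hu
  obtain ⟨x, a, b⟩ := hu
  exact ⟨x, (h x).1 a, b⟩

end Gen

/-- Three commuting elements spanning `4 × 4 × 4` (`c = true`) or `4 × 4 × 2`. -/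
structure Tri {M : Type*} [Group M] (c : Bool) (u v w : M) : Prop where
  uv : u * v = v * u
  uw : u * w = w * u
  vw : v * w = w * v
  u2 : u * u ≠ 1
  u4 : u * u * (u * u) = 1
  v2 : v * v ≠ 1
  vu : v * v ≠ u * u
  v4 : v * v * (v * v) = 1
  s2 : cond c (w * w) w * cond c (w * w) w = 1
  s1 : cond c (w * w) w ≠ 1
  su : cond c (w * w) w ≠ u * u
  sv : cond c (w * w) w ≠ v * v
  sp : cond c (w * w) w ≠ u * u * (v * v)

theorem tri_map {M N : Type*} [Group M] [Group N] {φ : M →* N} (hφ : Function.Injective φ)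
    {c : Bool} {u v w : M} : Tri c (φ u) (φ v) (φ w) ↔ Tri c u v w := by
  have e : cond c (φ (w * w)) (φ w) = φ (cond c (w * w) w) := by cases c <;> rfl
  constructor <;> rintro ⟨a1, a2, a3, a4, a5, a6, a7, a8, a9, a10, a11, a12, a13⟩
  · simp only [e, ← map_mul, Ne, hφ.eq_iff, map_eq_one_iff φ hφ] at *
    exact ⟨a1, a2, a3, a4, a5, a6, a7, a8, a9, a10, a11, a12, a13⟩
  · constructor <;> simp only [e, ← map_mul, Ne, hφ.eq_iff, map_eq_one_iff φ hφ] <;> assumption

instance {M : Type*} [Group M] [DecidableEq M] (c : Bool) (u v w : M) : Decidable (Tri c u v w) :=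
  decidable_of_iff (u * v = v * u ∧ u * w = w * u ∧ v * w = w * v ∧ u * u ≠ 1 ∧
    u * u * (u * u) = 1 ∧ v * v ≠ 1 ∧ v * v ≠ u * u ∧ v * v * (v * v) = 1 ∧
    cond c (w * w) w * cond c (w * w) w = 1 ∧ cond c (w * w) w ≠ 1 ∧ cond c (w * w) w ≠ u * u ∧
    cond c (w * w) w ≠ v * v ∧ cond c (w * w) w ≠ u * u * (v * v))
    ⟨fun ⟨a1, a2, a3, a4, a5, a6, a7, a8, a9, a10, a11, a12, a13⟩ =>
      ⟨a1, a2, a3, a4, a5, a6, a7, a8, a9, a10, a11, a12, a13⟩,
    fun ⟨a1, a2, a3, a4, a5, a6, a7, a8, a9, a10, a11, a12, a13⟩ =>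
      ⟨a1, a2, a3, a4, a5, a6, a7, a8, a9, a10, a11, a12, a13⟩⟩

/-- No triple starts with `r`; only `v, w` with `Q` are looked at. -/
noncomputable def repChk (n : ℕ) (μ : ℕ → ℕ → ℕ) (c : Bool) (Q : ℕ → Bool) (r : ℕ)
    (V W : List ℕ) : Bool :=
  force (μ r r) fun r2 =>
    allLt n (fun v => !Q v || !Nat.beq (μ r v) (μ v r) || force (μ v v) fun v2 =>
      (Nat.beq v2 0 || Nat.beq v2 r2 || !Nat.beq (μ v2 v2) 0 || V.any (Nat.beq v)) &&
      force (cond c v2 v) fun s =>
        !Nat.beq (μ s s) 0 || Nat.beq s 0 || Nat.beq s r2 || W.any (Nat.beq v)) &&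
    V.all fun v => force (μ v v) fun v2 => force (μ r2 v2) fun p => W.all fun w =>
      force (cond c (μ w w) w) fun s => Nat.beq s v2 || Nat.beq s p || !Nat.beq (μ v w) (μ w v)

theorem rep_sound {T : Pc} [T.OK] {μ : ℕ → ℕ → ℕ} (hμ : ∀ a b : T.G, μ a.val b.val = (a * b).val)
    {c : Bool} {Q : ℕ → Bool} {V W : List ℕ} {u v w : T.G} (h : repChk T.n μ c Q u.val V W = true)
    (qv : Q v.val = true) (qw : Q w.val = true) (t : Tri c u v w) : False := by
  have e : ∀ x : T.G, cond c (x * x).val x.val = (cond c (x * x) x).val := fun x => by cases c <;> rfl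
  have z : ∀ x : T.G, x.val = 0 ↔ x = 1 := fun x => (Pc.G.ext_iff (x := x) (y := 1)).symm
  simp only [repChk, force_eq, Bool.and_eq_true, allLt_iff, List.all_eq_true, Bool.or_eq_true,
    Bool.not_eq_true', List.any_eq_true, Nat.beq_eq, ← Bool.not_eq_true] at h
  have h1 := h.1 v.val v.lt
  have h2 := h.1 w.val w.lt
  simp only [hμ, e, z, ← Pc.G.ext_iff, qv, qw, t.uv, t.uw, t.v2, t.vu, t.v4, t.s2, t.s1, t.su,
    not_true, false_or, or_false] at h1 h2
  obtain ⟨_, a, rfl⟩ := h1.1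
  obtain ⟨_, b, rfl⟩ := h2.2
  have := h.2 _ a _ b
  simp only [hμ, e, ← Pc.G.ext_iff, t.sv, t.sp, t.vw, not_true, or_false] at this

/-- Every element of order four with `Q` and without `P` is conjugate to a listed one by an
element with `Q`. -/
noncomputable def covChk (T : Pc) (μ : ℕ → ℕ → ℕ) (Q P : ℕ → Bool) (cov : ℕ) (R : List ℕ) : Bool :=
  allLt T.n fun u => !Q u || P u || force (μ u u) (fun s => Nat.beq s 0 || !Nat.beq (μ s s) 0) ||
    force (look T.w T.m cov u) fun g => Nat.blt g T.n && Q g &&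
      force (μ (μ (T.inv g) u) g) fun v => R.any (Nat.beq v)

/-- Every triple in the subgroup `Q` starts in `P`. -/
theorem tri_sound {T : Pc} [T.OK] {μ : ℕ → ℕ → ℕ} (hμ : ∀ a b : T.G, μ a.val b.val = (a * b).val)
    {c : Bool} {Q P : ℕ → Bool} (hQ : ∀ x g : T.G, Q x.val = true → Q g.val = true →
      Q (g⁻¹ * x * g).val = true) {cov : ℕ} {R : List (ℕ × List ℕ × List ℕ)}
    (h1 : covChk T μ Q P cov (R.map Prod.fst) = true)
    (h2 : ∀ r ∈ R, repChk T.n μ c Q r.1 r.2.1 r.2.2 = true) {u v w : T.G} (qu : Q u.val = true)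
    (qv : Q v.val = true) (qw : Q w.val = true) (t : Tri c u v w) : P u.val = true := by
  by_contra hp
  have z : ∀ x : T.G, x.val = 0 ↔ x = 1 := fun x => (Pc.G.ext_iff (x := x) (y := 1)).symm
  simp only [covChk, force_eq, Bool.and_eq_true, allLt_iff, Bool.or_eq_true,
    Bool.not_eq_true', List.any_eq_true, Nat.beq_eq, ← Bool.not_eq_true, Nat.blt_eq] at h1
  have h3 := h1 u.val u.lt
  simp only [hμ, z, qu, hp, t.u2, t.u4, not_true, false_or] at h3
  obtain ⟨⟨a, q⟩, _, b, rfl⟩ := h3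
  obtain ⟨r, hr, e⟩ := List.mem_map.1 b
  obtain ⟨g, hg⟩ : ∃ g : T.G, g.val = look T.w T.m cov u.val := ⟨⟨_, a⟩, rfl⟩
  rw [← hg, ← Pc.val_inv, hμ, hμ] at e
  rw [← hg] at q
  have t' := (tri_map (φ := (MulAut.conj g⁻¹).toMonoidHom) (MulAut.conj g⁻¹).injective).2 t
  simp only [MulEquiv.coe_toMonoidHom, MulAut.conj_apply, inv_inv] at t'
  exact rep_sound hμ (e ▸ h2 r hr) (hQ _ _ qv q) (hQ _ _ qw q) t'

theorem fast_mul {T : Pc} [T.OK] {F : Pc.Fast} (h : F.check T = true) (a b : T.G) :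
    F.mul a.val b.val = (a * b).val := Pc.Fast.mul_eq h a.lt b.lt

end Cfsg.Agent.H13.Pk
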