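import Mathlib
import Cfsg.Agent.H13.BrTools
import Cfsg.Agent.H13.M11Crit
import Cfsg.Agent.H19.GaloisBlock
import Cfsg.Agent.H19.FS
import Cfsg.Agent.H58.Sieve

/-! Congruences and integrality properties of character values used to recognise simple groups
by their order. -/

namespace Cfsg.Agent.H13.ChTools

open Cfsg Cfsg.Agent.H58 MulAction Module Matrix
open scoped ComplexConjugate

variable {G : Type*} [Group G]

section
variable [Finite G]

theorem int_cong {p : ℕ} (hp : p.Prime) {χ : G → ℂ} (hχ : IsCharacter G χ) {x y : G} {k : ℕ}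
    (hx : x ^ p ^ k = 1) (hxy : Commute x y) {a b : ℤ} (ha : χ (x * y) = a) (hb : χ y = b) :
    (p : ℤ) ∣ a - b := by
  obtain ⟨M, hM⟩ := H19.exists_isPModular hp
  have h := H19.red_char_mul hM hχ hx hxy
  rw [ha, hb, H19.red_intCast, H19.red_intCast] at h
  have := H19.charP_kk hM
  rw [← CharP.intCast_eq_zero_iff (H19.kk M) p]
  push_cast
  rw [h, sub_self]

theorem int_cong_deg {p : ℕ} (hp : p.Prime) (χ : IrrCharacter G) {x : G} {k : ℕ}
    (hx : x ^ p ^ k = 1) {a : ℤ} (ha : χ.1 x = a) : (p : ℤ) ∣ a - charDegree χ.1 :=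
  int_cong hp (H11.irr_isCharacter χ) hx (Commute.one_right x) (by rw [mul_one, ha])
    (by rw [← H21.cast_deg]; simp)

theorem int_of_stable {χ : IrrCharacter G} (h : ∀ σ, H19.galIrr σ χ = χ) (g : G) :
    ∃ n : ℤ, χ.1 g = n :=
  H12.exists_int_of_forall_ringEquiv (H19.irr_isIntegral χ g) fun σ => by
    rw [← H19.galIrr_apply, h]

theorem int_of_unique {χ : IrrCharacter G}
    (h : ∀ ψ : IrrCharacter G, charDegree ψ.1 = charDegree χ.1 → ψ = χ) (g : G) :
    ∃ n : ℤ, χ.1 g = n :=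
  int_of_stable (fun σ => h _ (H19.charDegree_galIrr σ χ)) g

theorem dvd_index_mul (χ : IrrCharacter G) {g : G} {v : ℤ} (hv : χ.1 g = v) :
    (charDegree χ.1 : ℤ) ∣ (Subgroup.centralizer ({g} : Set G)).index * v := by
  refine H12.int_dvd_of_isIntegral_div (by exact_mod_cast (H21.deg_pos χ).ne') ?_
  have := H12.irr_isIntegral_index_mul_div χ.2 g
  rw [hv, ← H21.cast_deg] at this
  exact_mod_cast this

theorem four_dvd (hperf : commutator G = ⊤) (χ : IrrCharacter G) {s : G} (hs : orderOf s = 2)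
    {v : ℤ} (hv : χ.1 s = v) : (4 : ℤ) ∣ charDegree χ.1 - v := by
  classical
  have hd := H21.cast_deg χ
  obtain ⟨n, ρ, -, e⟩ := χ.2
  rw [← e] at hv
  have hd' : (charDegree χ.1 : ℂ) = finrank ℂ (Fin n → ℂ) := by
    rw [hd, ← e, Representation.char_one]
  have hd2 : charDegree χ.1 = finrank ℂ (Fin n → ℂ) := by exact_mod_cast hd'
  obtain ⟨b, μ, h1, h2⟩ := H12.exists_eigenbasis_rep ρ s
  have hdet : LinearMap.det (ρ s) = 1 := by
    let f : G →* ℂˣ := (LinearMap.det.comp ρ).toHomUnits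
    have : f s = 1 := Abelianization.commutator_subset_ker f (hperf ▸ Subgroup.mem_top s)
    exact congrArg Units.val this
  have hμ : ∀ i, μ i = 1 ∨ μ i = -1 := fun i => by
    have := h2 i
    rwa [hs, pow_two, mul_self_eq_one_iff] at this
  have h3 : LinearMap.toMatrix b b (ρ s) = diagonal μ := by
    ext i j
    rw [LinearMap.toMatrix_apply, h1, map_smul, b.repr_self, diagonal_apply, Finsupp.smul_apply,
      Finsupp.single_apply]
    split_ifs with h h' h' <;> simp_all
  rw [← LinearMap.det_toMatrix b, h3, det_diagonal] at hdet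
  set k := (Finset.univ.filter fun i => μ i = -1).card with hk
  have h4 : ∏ i, μ i = (-1) ^ k := by
    rw [hk, ← Finset.prod_const, Finset.prod_filter]
    refine Finset.prod_congr rfl fun i _ => ?_
    rcases hμ i with h | h <;> rw [h] <;> norm_num
  have h5 : ∑ i, μ i = finrank ℂ (Fin n → ℂ) - 2 * k := by
    have e1 : (finrank ℂ (Fin n → ℂ) : ℂ) = ∑ _i : Fin (finrank ℂ (Fin n → ℂ)), 1 := by simp
    rw [hk, Finset.card_filter, e1]
    push_cast
    rw [Finset.mul_sum, ← Finset.sum_sub_distrib]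
    refine Finset.sum_congr rfl fun i _ => ?_
    rcases hμ i with h | h <;> rw [h] <;> norm_num
  rw [Representation.character, H12.trace_eq_sum_of_eigenbasis b _ μ h1, h5, ← hd'] at hv
  have h6 : (charDegree χ.1 - 2 * k : ℤ) = v := by exact_mod_cast hv
  rw [h4, neg_one_pow_eq_one_iff_even (by norm_num)] at hdet
  obtain ⟨j, hj⟩ := hdet
  omega

theorem sum_pow_mul {ι : Type*} [Fintype ι] (μ : ι → ℂ) {n : ℕ} (hμ : ∀ i, μ i ^ n = 1)
    {ζ : ℂ} (hζ : ζ ^ n = 1) [DecidablePred fun i => μ i * ζ = 1] :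
    ∑ k ∈ Finset.range n, (∑ i, μ i ^ k) * ζ ^ k =
      n * (Finset.univ.filter fun i => μ i * ζ = 1).card := by
  simp only [Finset.sum_mul, ← mul_pow]
  rw [Finset.sum_comm, Finset.card_filter]
  push_cast
  rw [Finset.mul_sum]
  refine Finset.sum_congr rfl fun i _ => ?_
  split_ifs with h
  · simp [h]
  · rw [geom_sum_eq h, mul_pow, hμ, hζ]; simp

theorem exists_mult {χ : G → ℂ} (hχ : IsCharacter G χ) (g : G) {ζ : ℂ}
    (hζ : ζ ^ orderOf g = 1) :
    ∃ m : ℕ, ∑ k ∈ Finset.range (orderOf g), χ (g ^ k) * ζ ^ k = orderOf g * m := by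
  classical
  obtain ⟨n, μ, -, h1, h2⟩ := H12.IsCharacter_exists_eigenvalues hχ g
  simp only [h2]
  exact ⟨_, sum_pow_mul μ h1 hζ⟩

end

/-- the eigenvalue multiplicities of a strongly real element in a symplectic representation
are even -/
theorem exists_mult_even [Fintype G] {χ : G → ℂ} (hχ : IsIrrCharacter G χ)
    (hfs : H19.fs χ = -1) {g s : G} (hs : s * s = 1) (hsg : s * g * s⁻¹ = g⁻¹) {ζ : ℂ}
    (hζ : ζ ^ orderOf g = 1) :
    ∃ m : ℕ, ∑ k ∈ Finset.range (orderOf g), χ (g ^ k) * ζ ^ k = orderOf g * (2 * m) := by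
  classical
  have hreal := H19.real_of_fs_ne_zero hχ (by rw [hfs]; simp)
  obtain ⟨n, ρ, hρ, rfl⟩ := hχ
  obtain ⟨B, hB0, hB⟩ := H19.exists_invariant_form ρ hρ hreal
  have hBs : Bᵀ = -B := by rw [H19.transpose_eq_fs_smul ρ hρ B hB, hfs, neg_one_smul]
  have hu : IsUnit B.det := (H15.det_ne_zero_of_invariant ρ hρ B hB hB0).isUnit
  set J := B⁻¹ with hJ
  have hBJ : B * J = 1 := mul_nonsing_inv B hu
  have hJB : J * B = 1 := nonsing_inv_mul B hu
  have hJs : Jᵀ = -J := by
    rw [hJ, transpose_nonsing_inv, hBs]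
    exact inv_eq_right_inv (by rw [Matrix.neg_mul, Matrix.mul_neg, neg_neg, hBJ])
  let M : G → Matrix (Fin n) (Fin n) ℂ := fun g => LinearMap.toMatrix' (ρ g)
  have hM : ∀ g, M g * B * (M g)ᵀ = B := fun g => hB g
  have hMv : ∀ g a, M g *ᵥ a = ρ g a := fun g a => LinearMap.toMatrix'_mulVec _ _
  have hMJ : ∀ g, (M g)ᵀ * J * M g = J := fun g => by
    have e1 : M g * (B * (M g)ᵀ * J) = 1 := by
      rw [← Matrix.mul_assoc, ← Matrix.mul_assoc, hM, hBJ]
    have e2 : B * (M g)ᵀ * J * M g = 1 := mul_eq_one_comm.1 e1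
    calc (M g)ᵀ * J * M g = J * (B * (M g)ᵀ * J * M g) := by
          simp only [← Matrix.mul_assoc, hJB, Matrix.one_mul]
      _ = J := by rw [e2, Matrix.mul_one]
  let β : (Fin n → ℂ) →ₗ[ℂ] (Fin n → ℂ) →ₗ[ℂ] ℂ := Matrix.toBilin' J
  have hβ : ∀ a b, β a b = a ⬝ᵥ J *ᵥ b := fun a b => Matrix.toBilin'_apply' J a b
  have hβc : ∀ a b, β a b = -β b a := fun a b => by
    rw [hβ, hβ, dotProduct_mulVec, ← mulVec_transpose, hJs, neg_mulVec, neg_dotProduct,
      dotProduct_comm]
  have hβi : ∀ g a b, β (ρ g a) (ρ g b) = β a b := fun g a b => by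
    rw [hβ, hβ, ← hMv, ← hMv, mulVec_mulVec, dotProduct_mulVec, ← vecMul_transpose,
      vecMul_vecMul, ← Matrix.mul_assoc, hMJ, dotProduct_mulVec]
  have hβn : ∀ u, (∀ w, β u w = 0) → u = 0 := fun u hu => by
    funext i
    have := hu (B *ᵥ Pi.single i 1)
    rw [hβ, mulVec_mulVec, hJB, one_mulVec] at this
    simpa using this
  obtain ⟨b, μ, h1, h2⟩ := H12.exists_eigenbasis_rep ρ g
  have h3 : ∀ k : ℕ, ρ.character (g ^ k) = ∑ i, μ i ^ k := fun k => by
    rw [Representation.character, map_pow]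
    exact H12.trace_eq_sum_of_eigenbasis b _ _ (H12.pow_apply_of_eigenbasis b _ μ h1 k)
  simp only [h3]
  rw [sum_pow_mul μ h2 hζ]
  have hss : ∀ w, ρ s (ρ s w) = w := fun w => by
    rw [← Module.End.mul_apply, ← map_mul, hs, map_one, Module.End.one_apply]
  have hμ0 : ∀ i, μ i ≠ 0 := fun i h => by
    have := h2 i
    rw [h, zero_pow (orderOf_pos g).ne'] at this
    exact zero_ne_one this
  -- the form vanishes on pairs of different eigenvalues
  have hgs : ∀ j, ρ g (ρ s (b j)) = (μ j)⁻¹ • ρ s (b j) := fun j => by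
    have e1 : g * s * g = s := by
      calc g * s * g = g * (s * g * s⁻¹) * s := by group
        _ = s := by rw [hsg]; group
    have e2 : ρ g (ρ s (ρ g (b j))) = ρ s (b j) := by
      rw [← Module.End.mul_apply, ← Module.End.mul_apply, ← map_mul, ← map_mul, e1]
    rw [h1, map_smul, map_smul] at e2
    conv_rhs => rw [← e2, smul_smul, inv_mul_cancel₀ (hμ0 j), one_smul]
  have hz : ∀ i j, μ i ≠ μ j → β (b i) (ρ s (b j)) = 0 := fun i j hij => by
    have e := hβi g (b i) (ρ s (b j))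
    rw [h1, hgs, map_smul, map_smul, LinearMap.smul_apply, smul_smul, smul_eq_mul] at e
    have e' : ((μ j)⁻¹ * μ i - 1) * β (b i) (ρ s (b j)) = 0 := by linear_combination e
    refine (mul_eq_zero.1 e').resolve_left fun h => hij ?_
    have := hμ0 j
    field_simp at h
    linear_combination h
  let I := {i // μ i * ζ = 1}
  let Γ : Matrix I I ℂ := fun i j => β (b i) (ρ s (b j))
  have hΓ : Γᵀ = -Γ := by
    ext i j
    change β (b j) (ρ s (b i)) = -β (b i) (ρ s (b j))
    rw [← hβi s, hss, hβc]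
  have hdet : Γ.det ≠ 0 := by
    rw [Ne, ← exists_vecMul_eq_zero_iff]
    rintro ⟨c, hc0, hc⟩
    have hu0 : ∑ i : I, c i • b i = 0 := hβn _ fun w => by
      rw [← hss w, ← b.sum_repr (ρ s w), map_sum (ρ s), map_sum (β _)]
      refine Finset.sum_eq_zero fun j _ => ?_
      rw [map_smul, map_smul, map_sum, LinearMap.sum_apply]
      simp only [map_smul, LinearMap.smul_apply, smul_eq_mul]
      by_cases hj : μ j * ζ = 1
      · exact mul_eq_zero_of_right _ (congrFun hc ⟨j, hj⟩)
      · refine mul_eq_zero_of_right _ (Finset.sum_eq_zero fun i _ => ?_)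
        rw [hz i j fun h => hj (h ▸ i.2), mul_zero]
    exact hc0 (funext (Fintype.linearIndependent_iff.1
      (b.linearIndependent.comp Subtype.val Subtype.val_injective) c hu0))
  have h4 := det_transpose Γ
  rw [hΓ, det_neg] at h4
  have h5 : (-1 : ℂ) ^ Fintype.card I = 1 := mul_right_cancel₀ hdet (by rw [h4, one_mul])
  rw [neg_one_pow_eq_one_iff_even (by norm_num), Fintype.card_subtype] at h5
  obtain ⟨m, hm⟩ := h5
  exact ⟨m, by rw [hm]; push_cast; ring⟩

variable [Fintype G]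

theorem sum_sq_le (S : Finset (IrrCharacter G)) (g : G) (v : IrrCharacter G → ℤ)
    (hv : ∀ χ ∈ S, χ.1 g = v χ) :
    ∑ χ ∈ S, v χ ^ 2 ≤ Nat.card (Subgroup.centralizer ({g} : Set G)) := by
  have := Fintype.ofFinite (IrrCharacter G)
  have h := H11.sum_norm_sq_apply g
  have h1 : ∑ χ ∈ S, ‖χ.1 g‖ ^ 2 ≤ ∑ χ : IrrCharacter G, ‖χ.1 g‖ ^ 2 :=
    Finset.sum_le_sum_of_subset_of_nonneg (Finset.subset_univ S) fun _ _ _ => by positivity
  rw [h, Finset.sum_congr rfl fun χ hχ => by
    rw [hv χ hχ, Complex.norm_intCast, sq_abs]] at h1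
  exact_mod_cast h1

theorem abs_lt_deg [IsSimpleGroup G] (hG : ¬ IsMulCommutative G) {χ : IrrCharacter G}
    (h1 : χ ≠ H21.triv G) {g : G} (hg : g ≠ 1) {v : ℤ} (hv : χ.1 g = v) :
    |v| < charDegree χ.1 := by
  have h9 := H12.IsCharacter_norm_le (H11.irr_isCharacter χ) g
  have hker : H11.charKer χ.1 = ⊥ := by
    refine ((H11.charKer_normal (H11.isClassFunction_of_isCharacter
      (H11.irr_isCharacter χ))).eq_bot_or_eq_top).resolve_right fun e => ?_
    exact h1 (Subtype.ext (H11.irr_eq_one_of_charKer_eq_top χ.2 e))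
  have h10 : g ∉ H11.charCenter χ.1 := by
    rw [H11.charCenter_eq_center χ.2 hker, center_eq_bot hG]
    exact hg
  rw [H11.mem_charCenter_iff (H11.irr_isCharacter χ)] at h10
  rw [← H21.cast_deg, hv] at h9 h10
  simp only [Complex.norm_intCast, Complex.norm_natCast] at h9 h10
  have h11 : |v| ≤ charDegree χ.1 := by exact_mod_cast h9
  exact lt_of_le_of_ne h11 fun e => h10 (by exact_mod_cast e)

omit [Fintype G] in
theorem sum_by_deg [Fintype (IrrCharacter G)] (m : IrrCharacter G → ℕ) (Ds : Finset ℕ)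
    (val : IrrCharacter G → ℂ) (h : ℕ → ℂ)
    (H : ∀ ψ, m ψ ≠ 0 → charDegree ψ.1 ∈ Ds ∧ val ψ = h (charDegree ψ.1)) :
    ∑ ψ, (m ψ : ℂ) * val ψ =
      ∑ d ∈ Ds, ((∑ ψ with charDegree ψ.1 = d, m ψ : ℕ) : ℂ) * h d := by
  classical
  simp only [Finset.sum_filter, Nat.cast_sum, Finset.sum_mul]
  rw [Finset.sum_comm]
  refine Finset.sum_congr rfl fun ψ _ => ?_
  by_cases h0 : m ψ = 0
  · simp [h0]
  · obtain ⟨h1, h2⟩ := H ψ h0
    rw [Finset.sum_eq_single (charDegree ψ.1) (fun d _ hd => by simp [hd.symm])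
      (fun h => absurd h1 h), h2]
    simp

variable {p : ℕ} [hp : Fact p.Prime]

omit [Fintype G] in
theorem mem_normalizer_of_conj [Finite G] {P : Subgroup G} (hP : Nat.card P = p) {x g : G}
    (hx : x ∈ P) (hx1 : x ≠ 1) (h : g * x * g⁻¹ ∈ P) : g ∈ Subgroup.normalizer (P : Set G) := by
  refine Subgroup.mem_normalizer_fintype fun n hn => ?_
  rw [eq_zpowers_of_card_prime hp.out hP hx hx1] at hn
  obtain ⟨k, rfl⟩ := Subgroup.mem_zpowers_iff.1 hn
  rw [← conj_zpow]
  exact P.zpow_mem h k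

/-- the class multiplication formula for two involutions and a non-real `p`-element -/
theorem invol_rel' {P : Subgroup G} {e t : ℕ} (D : BrPre G p P e t) (hP : Nat.card P = p)
    (hodd : Odd (Nat.card (Subgroup.normalizer (P : Set G)))) {s : G} (hs : orderOf s = 2)
    {θ : IrrCharacter G} (hθ : θ ∈ D.Y) (hp2 : p ≠ 2) :
    ∑ χ ∈ D.X, (D.sg χ : ℂ) * (χ.1 s ^ 2 / χ.1 1) = D.ε * (θ.1 s ^ 2 / D.z) := by
  classical
  have := Fintype.ofFinite (IrrCharacter G)
  obtain ⟨x, hx, hx1⟩ := exists_mem_ne_one hP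
  have hox := orderOf_eq_of_mem_of_card_prime hp.out hP hx hx1
  have h := H20.finsum_invol_eq_zero D.hM
    (H17.lamClosed_of_isPBlock D.hM.2.1 H17.isPBlock_principalBlock) (t := s) (u := x)
    (H20.mul_self_of_orderOf_two hs) ⟨1, by rw [hox, pow_one]⟩ (by
      intro g hg
      have hN : g * s * g⁻¹ ∈ Subgroup.normalizer (P : Set G) :=
        mem_normalizer_of_conj hP hx hx1 (hg ▸ P.inv_mem hx)
      have h2 := Subgroup.orderOf_dvd_natCard _ hN
      rw [show g * s * g⁻¹ = (MulAut.conj g) s from rfl, MulEquiv.orderOf_eq, hs] at h2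
      exact (Nat.not_even_iff_odd.2 hodd) (even_iff_two_dvd.2 h2))
  have hps : ¬ p ∣ orderOf s := fun h => by
    rw [hs] at h
    exact hp2 ((Nat.prime_dvd_prime_iff_eq hp.out Nat.prime_two).1 h)
  rw [H17.finsum_mem_irr, show Finset.univ.filter (· ∈ principalBlock D.M G) = D.X ∪ D.Y from
    Finset.ext fun χ => by simp [D.mem], Finset.sum_union (Finset.disjoint_left.2 D.disj),
    Finset.sum_congr (s₁ := D.Y) rfl fun θ' hθ' => by
      rw [D.Y_eq hθ' hθ hps, ← H21.cast_deg, D.degY θ' hθ'],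
    ← Finset.mul_sum, D.valY' (P.inv_mem hx) (inv_ne_one.2 hx1),
    Finset.sum_congr (s₁ := D.X) rfl fun χ hχ => by
      rw [D.valX' hχ (P.inv_mem hx) (inv_ne_one.2 hx1), mul_comm]] at h
  linear_combination h

omit [Fintype G] in
/-- a normal Sylow subgroup of `C(P)` -/
theorem exists_char_sub [Finite G] {P : Subgroup G} (hP : Nat.card P = p) {r a m : ℕ}
    (hr : r.Prime) (hC : Nat.card (Subgroup.centralizer (P : Set G)) = r ^ a * (p * m))
    (hrm : ¬ r ∣ p * m) (hm : ∀ k, k ∣ m → k % r = 1 % r → k = 1) :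
    ∃ U : Subgroup G, Nat.card U = r ^ a ∧ U ≤ Subgroup.centralizer (P : Set G) ∧
      Subgroup.normalizer (P : Set G) ≤ Subgroup.normalizer (U : Set G) := by
  have : Fact r.Prime := ⟨hr⟩
  have := Fintype.ofFinite G
  set C := Subgroup.centralizer (P : Set G)
  obtain ⟨U⟩ : Nonempty (Sylow r C) := inferInstance
  have hU := card_sylow_of_eq U hC hrm
  have hPC : P ≤ C := le_centralizer_of_card_prime hP
  have h1 := card_normalizer_mul_card_sylow U
  have h2 : p ∣ Nat.card (Subgroup.normalizer (U : Set C)) := by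
    rw [← hP, ← Nat.card_congr (Subgroup.subgroupOfEquivOfLe hPC).toEquiv]
    refine Subgroup.card_dvd_of_le fun x hx => Subgroup.centralizer_le_normalizer _ ?_
    exact Subgroup.mem_centralizer_iff.2 fun u _ =>
      Subtype.ext (Subgroup.mem_centralizer_iff.1 u.2 x hx).symm
  have h3 : r ^ a ∣ Nat.card (Subgroup.normalizer (U : Set C)) :=
    hU ▸ Subgroup.card_dvd_of_le Subgroup.le_normalizer
  have h4 : (r ^ a).Coprime p := Nat.Coprime.pow_left _
    ((Nat.Prime.coprime_iff_not_dvd hr).2 fun h => hrm (h.mul_right _))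
  obtain ⟨c, hc⟩ := Nat.Coprime.mul_dvd_of_dvd_of_dvd h4 h3 h2
  have h5 : Nat.card (Sylow r C) ∣ m := by
    refine ⟨c, Nat.eq_of_mul_eq_mul_left (Nat.mul_pos (pow_pos hr.pos a) hp.out.pos) ?_⟩
    rw [mul_assoc, ← hC, ← h1, hc]; ring
  have h6 := hm _ h5 (card_sylow_modEq_one r C)
  have : Subsingleton (Sylow r C) := (Nat.card_eq_one_iff_unique.1 h6).1
  have := U.characteristic_of_subsingleton
  exact ⟨(U : Subgroup C).map C.subtype,
    (Subgroup.card_map_of_injective C.subtype_injective).trans hU, Subgroup.map_subtype_le _,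
    (M11.normalizer_le_normalizer_centralizer P).trans
      (H4.normalizer_le_normalizer_map_characteristic _)⟩

omit [Fintype G] in
theorem exists_central_elem [Finite G] {a : ℕ} (ha : p ^ a ∣ Nat.card G) (h0 : 0 < a) :
    ∃ s : G, orderOf s = p ∧ p ^ a ∣ Nat.card (Subgroup.centralizer ({s} : Set G)) := by
  obtain ⟨S, hS⟩ := Sylow.exists_subgroup_card_pow_prime p ha
  have hSp : IsPGroup p S := IsPGroup.of_card hS
  have : Nontrivial S := Finite.one_lt_card_iff_nontrivial.1
    (hS ▸ Nat.one_lt_pow h0.ne' hp.out.one_lt)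
  have := hSp.center_nontrivial
  obtain ⟨k, hk⟩ := IsPGroup.iff_card.1 (hSp.to_subgroup (Subgroup.center S))
  have h1 : p ∣ Nat.card (Subgroup.center S) := by
    rw [hk]
    refine dvd_pow_self p ?_
    rintro rfl
    exact (Finite.one_lt_card (α := Subgroup.center S)).ne' hk
  obtain ⟨s, hs⟩ := exists_prime_orderOf_dvd_card' p h1
  refine ⟨s, by rw [Subgroup.orderOf_coe, Subgroup.orderOf_coe, hs], hS ▸ ?_⟩
  refine Subgroup.card_dvd_of_le fun g hg => Subgroup.mem_centralizer_singleton_iff.2 ?_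
  exact congrArg Subtype.val (Subgroup.mem_center_iff.1 s.2 ⟨g, hg⟩)

omit [Fintype G] hp in
theorem add_le_index [Finite G] [IsSimpleGroup G] {H : Subgroup G} (hH : H ≠ ⊤) {q : ℕ}
    (hp : p.Prime) (hq : q.Prime) (hpq : p ≠ q) {g : G} (hg : orderOf g = p * q) :
    p + q ≤ H.index := by
  classical
  have := Fintype.ofFinite (G ⧸ H)
  have hinj : Function.Injective (toPermHom G (G ⧸ H)) :=
    toPermHom_injective (exists_smul_ne_quotient hH)
  set σ := toPermHom G (G ⧸ H) g
  have h1 : σ.cycleType.lcm = p * q := by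
    rw [Equiv.Perm.lcm_cycleType, orderOf_injective _ hinj, hg]
  have h2 : σ.cycleType.sum ≤ H.index :=
    σ.sum_cycleType_le.trans (Nat.card_eq_fintype_card (α := G ⧸ H)).ge
  have key : ∀ r : ℕ, r.Prime → r ∣ p * q → ∃ a ∈ σ.cycleType, r ∣ a := fun r hr h => by
    rw [← h1] at h
    exact hr.prime.exists_mem_multiset_dvd (h.trans (Multiset.lcm_dvd.2 fun b hb =>
      Multiset.dvd_prod hb))
  obtain ⟨a, ha, hpa⟩ := key p hp (dvd_mul_right _ _)
  obtain ⟨b, hb, hqb⟩ := key q hq (dvd_mul_left _ _)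
  have ha0 := Equiv.Perm.two_le_of_mem_cycleType ha
  have hb0 := Equiv.Perm.two_le_of_mem_cycleType hb
  by_cases hab : a = b
  · subst hab
    have h3 := Nat.le_of_dvd (by omega)
      (((Nat.coprime_primes hp hq).2 hpq).mul_dvd_of_dvd_of_dvd hpa hqb)
    have h4 := Multiset.single_le_sum (fun _ _ => Nat.zero_le _) a ha
    have := hp.two_le
    have := hq.two_le
    nlinarith
  · obtain ⟨s, hs⟩ := Multiset.exists_cons_of_mem ha
    rw [hs, Multiset.mem_cons] at hb
    have h4 := Multiset.single_le_sum (fun _ _ => Nat.zero_le _) b (hb.resolve_left (Ne.symm hab))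
    rw [hs, Multiset.sum_cons] at h2
    have := Nat.le_of_dvd (by omega) hpa
    have := Nat.le_of_dvd (by omega) hqb
    omega

theorem exists_sorted {α : Type*} (S : Finset α) (f : α → ℕ) :
    ∃ l : List α, l.length = S.card ∧ l.Nodup ∧ (∀ x, x ∈ l ↔ x ∈ S) ∧
      l.Pairwise (fun a b => f a ≤ f b) ∧
      ∀ {R : Type} [AddCommMonoid R] (F : α → R), ∑ x ∈ S, F x = (l.map F).sum := by
  have hp := List.mergeSort_perm S.toList fun a b => decide (f a ≤ f b)
  refine ⟨_, hp.length_eq.trans S.length_toList, hp.nodup_iff.2 S.nodup_toList,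
    fun x => hp.mem_iff.trans Finset.mem_toList, ?_, fun F => ?_⟩
  · have := List.pairwise_mergeSort (le := fun a b => decide (f a ≤ f b))
      (fun a b c => by simpa using le_trans) (fun a b => by simpa using le_total _ _) S.toList
    simpa using this
  · rw [← Finset.sum_map_toList]
    exact ((hp.map F).sum_eq).symm

end Cfsg.Agent.H13.ChTools
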