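import Mathlib
import Cfsg.Agent.H13.ChTools
import Cfsg.Agent.H58.Sieve2

/-! Simple groups of order `95040`: the principal `11`-block and the centraliser of a Sylow
`5`-subgroup. -/

namespace Cfsg.Agent.H13.M12

open Cfsg Cfsg.Agent.H58 Cfsg.Agent.H13.BrTools Cfsg.Agent.H13.ChTools MulAction
open scoped ComplexConjugate

attribute [local instance] M11.fact11 M11.fact5

theorem t11 : brTest 95040 11 [] 308 (fun n e v _ => (n == 1728 && e == 5 && v == 1) ||
    (n == 144 && e == 10 && v == 6)) = true := by decide +kernel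

theorem t5 : brTest 95040 5 [] 308 (fun n e v l => v % 2 == 0 || v % 11 == 0 ||
    (n == 176 && e == 4 && v == 27) || (v == 9 && e == 2 && l == [(11, true)])) = true := by
  decide +kernel

theorem noFpf11 : Crit.NoFpf 11 95040 :=
  Crit.noFpf_of_check (by decide +kernel) (by norm_num) (by norm_num) (by decide +kernel)

/-- possible degrees -/
def Dl : List ℕ := [10, 12, 32, 45, 54, 120, 144]
/-- possible exceptional degrees -/
def Zl : List (ℤ × ℕ) :=
  [(1, 5), (-1, 6), (1, 16), (1, 27), (1, 60), (-1, 72), (-1, 160), (1, 192)]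
/-- the sign -/
def sg (d : ℕ) : ℤ := if d % 11 = 1 then 1 else -1
/-- possible values on an involution with centraliser of order `C` -/
def vals (C d : ℕ) : List ℤ :=
  ((List.range (2 * d)).map fun i : ℕ => (i : ℤ) - d).filter fun v =>
    decide (v ^ 2 ≤ C) && decide (-d < v) && (d - v) % 4 == 0 &&
      ((95040 / C : ℕ) * v) % d == 0 && (C % 5 != 0 || d % 5 != 0 || v % 5 == 0)

/-- the finite check -/
def Chk (Zs : List (ℤ × ℕ)) (Cs : List ℕ) (R : ℕ → List (ℕ × ℤ) → ℕ → ℤ → Prop) : Prop :=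
  ∀ a ∈ Dl, ∀ b ∈ Dl, a ≤ b → ∀ c ∈ Dl, b ≤ c → ∀ d ∈ Dl, c ≤ d → ∀ z ∈ Zs,
    z.1 * z.2 = 1 + sg a * a + sg b * b + sg c * c + sg d * d → ∀ C ∈ Cs,
    ∀ α ∈ vals C a, ∀ β ∈ vals C b, ∀ γ ∈ vals C c, ∀ δ ∈ vals C d,
    ∀ t ∈ vals C z.2, z.1 * t = 1 + sg a * α + sg b * β + sg c * γ + sg d * δ →
    1 + α ^ 2 + β ^ 2 + γ ^ 2 + δ ^ 2 + 2 * t ^ 2 ≤ C →
    95040 + sg a * α ^ 2 * (95040 / a : ℕ) + sg b * β ^ 2 * (95040 / b : ℕ) +
      sg c * γ ^ 2 * (95040 / c : ℕ) + sg d * δ ^ 2 * (95040 / d : ℕ) =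
      z.1 * t ^ 2 * (95040 / z.2 : ℕ) → R C [(a, α), (b, β), (c, γ), (d, δ)] z.2 t

theorem chk10 : Chk Zl [10, 20, 30, 40, 60, 80, 90, 120, 160, 180, 240, 270, 320, 360, 480, 540,
    720, 960, 1080, 1440, 2160, 2880, 4320, 8640] fun C l z t => z = 6 ∨ (z = 16 ∧
      ((C ≤ 240 ∧ (t = 4 ∨ t = -4) ∧ l = [(45, 5), (54, 6), (120, 0), (144, t)]) ∨
        l = [(45, -15), (54, 18), (120, 0), (144, 24)])) := by
  unfold Chk
  decide +kernel

theorem chk64 : Chk [(-1, 6)] [64, 192, 320, 576, 960, 1728, 2880, 8640] fun _ _ _ _ => False := by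
  unfold Chk
  decide +kernel

theorem chk5 : ∀ C ∈ [10, 20, 30, 40, 60, 80, 90, 120, 160, 180, 240, 270, 320, 360, 480, 540,
    720, 960, 1080, 1440, 2160, 2880, 4320, 8640], (95040 / C % 5 = 2 ∨ 95040 / C % 5 = 4) →
    ∀ a ∈ Finset.Icc (-19 : ℤ) 19, 54 ∣ (95040 / C : ℕ) * (5 * a - 1) →
    ∀ b ∈ Finset.Icc (-19 : ℤ) 19, 144 ∣ (95040 / C : ℕ) * (5 * b - 1) →
    16 ∣ (95040 / C : ℕ) * (1 - 5 * a + 5 * b) →
    1 + (5 * a - 1) ^ 2 + (5 * b - 1) ^ 2 + 2 * (1 - 5 * a + 5 * b) ^ 2 ≤ C →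
    (C = 10 ∨ C = 20) ∧ a = 0 ∧ b = 0 := by decide +kernel

theorem mem_Dl : ∀ d ∈ List.range 309, d ∣ 8640 → d ≠ 1 → (d % 11 = 1 ∨ d % 11 = 10) →
    d ∈ Dl := by decide +kernel

theorem mem_list10 {C : ℕ} (h : C ∣ 8640) (h' : 10 ∣ C) : C ∈ [10, 20, 30, 40, 60, 80, 90, 120,
    160, 180, 240, 270, 320, 360, 480, 540, 720, 960, 1080, 1440, 2160, 2880, 4320, 8640] := by
  obtain ⟨k, rfl⟩ := h'
  have h1 : k ∣ 864 := Nat.dvd_of_mul_dvd_mul_left (by norm_num : 0 < 10) h
  have key : ∀ k ∈ Nat.divisors 864, 10 * k ∈ [10, 20, 30, 40, 60, 80, 90, 120,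
    160, 180, 240, 270, 320, 360, 480, 540, 720, 960, 1080, 1440, 2160, 2880, 4320, 8640] := by
    decide +kernel
  exact key k (Nat.mem_divisors.2 ⟨h1, by norm_num⟩)

variable {G : Type*} [Group G] [Fintype G] [IsSimpleGroup G]

omit [Fintype G] in
theorem ncomm (hG : Nat.card G = 95040) : ¬ IsMulCommutative G :=
  not_comm_of_not_prime (by rw [hG]; norm_num)

omit [IsSimpleGroup G] in
theorem card11 (hG : Nat.card G = 95040) (P : Sylow 11 G) : Nat.card P = 11 :=
  (card_sylow_of_eq P (k := 1) (m := 8640) (by rw [hG]; norm_num) (by norm_num)).trans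
    (by norm_num)

omit [IsSimpleGroup G] in
theorem card5 (hG : Nat.card G = 95040) (Q : Sylow 5 G) : Nat.card Q = 5 :=
  (card_sylow_of_eq Q (k := 1) (m := 19008) (by rw [hG]; norm_num) (by norm_num)).trans
    (by norm_num)

theorem data11 (hG : Nat.card G = 95040) (P : Sylow 11 G) :
    SelfCent 11 G ∧ Nat.card (Sylow 11 G) = 1728 ∧
      Nat.card (Subgroup.normalizer ((P : Subgroup G) : Set G)) = 55 ∧
      (Subgroup.centralizer ((P : Subgroup G) : Set G)).index = 8640 ∧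
      Nonempty (BrData G 11 P 5 2) := by
  obtain ⟨hP, e, t, v, D, l, he, -, het, hv, -, h⟩ := brTest_sound (ncomm hG) hG t11 P
  have h1 := relIndex_mul_card_centralizer (P : Subgroup G)
  have hi := index_centralizer_sylow P
  rw [he, hv] at h1
  rw [he] at hi
  simp only [Bool.or_eq_true, Bool.and_eq_true, beq_iff_eq] at h
  rcases h with ⟨⟨hn, rfl⟩, rfl⟩ | ⟨⟨hn, rfl⟩, rfl⟩
  · obtain rfl : t = 2 := by omega
    exact ⟨selfCent_of_card_centralizer P hP hv.le, hn, h1.symm, by rw [hi, hn], ⟨D⟩⟩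
  exfalso
  obtain ⟨U, hU, hUC, hNU⟩ := exists_char_sub hP (r := 3) (a := 1) (m := 2) (by norm_num) hv
    (by norm_num) (fun k hk h => by
      have := Nat.le_of_dvd (by norm_num) hk
      omega)
  have : Fact (Nat.Prime 3) := ⟨by norm_num⟩
  have h9 := Sylow.prime_pow_dvd_card_normalizer (by rw [hG]; norm_num) hU
  obtain ⟨n, hn1, hn2⟩ := sylow_count_sub P (Subgroup.le_normalizer.trans hNU)
  rw [inf_eq_left.2 hNU, ← h1] at hn2
  have hne := normalizer_ne_top (H := U) (by rintro rfl; simp at hU)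
    (by rintro rfl; rw [Subgroup.card_top, hG] at hU; norm_num at hU)
  have h3 := (Subgroup.normalizer (U : Set G)).card_mul_index
  obtain ⟨g, hg⟩ := M11.exists_orderOf_mul (r := 3) (by norm_num) (by norm_num) hP
    (by rw [hv]; norm_num)
  have h4 := add_le_index hne (by norm_num) (by norm_num) (by norm_num) hg
  rw [← hn2, hG] at h3
  rw [← hn2] at h9
  generalize (Subgroup.normalizer (U : Set G)).index = i at *
  have h5 : n * i = 144 := by nlinarith
  have h6 : n ≤ 10 := by nlinarith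
  interval_cases n <;> omega

omit [IsSimpleGroup G] in
theorem not_dvd_cent (hS : SelfCent 11 G) {g : G} {r : ℕ} (hr : r.Prime) (h11 : r ≠ 11)
    (hg : orderOf g = r) : ¬ 11 ∣ Nat.card (Subgroup.centralizer ({g} : Set G)) := fun h => by
  obtain ⟨c, hc⟩ := exists_prime_orderOf_dvd_card' 11 h
  have h6 : Commute g c := Subgroup.mem_centralizer_iff.1 c.2 g rfl
  have h7 := h6.orderOf_mul_eq_mul_orderOf_of_coprime
    (by rw [hg, Subgroup.orderOf_coe, hc]; exact (Nat.coprime_primes hr (by norm_num)).2 h11)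
  rw [hg, Subgroup.orderOf_coe, hc] at h7
  have := hS.orderOf_eq (g := g * c) (by rw [h7]; exact dvd_mul_left _ _)
  have := hr.two_le
  omega

omit [IsSimpleGroup G] in
theorem cent_dvd (hG : Nat.card G = 95040) (hS : SelfCent 11 G) {g : G} {r : ℕ} (hr : r.Prime)
    (h11 : r ≠ 11) (hg : orderOf g = r) :
    Nat.card (Subgroup.centralizer ({g} : Set G)) ∣ 8640 :=
  Nat.Coprime.dvd_of_dvd_mul_left (m := 11)
    ((Nat.Prime.coprime_iff_not_dvd (by norm_num)).2 (not_dvd_cent hS hr h11 hg)).symm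
    ((Subgroup.card_subgroup_dvd_card _).trans hG.dvd)

theorem even_cent5 (hG : Nat.card G = 95040) (Q : Sylow 5 G) :
    2 ∣ Nat.card (Subgroup.centralizer ((Q : Subgroup G) : Set G)) := by
  classical
  obtain ⟨P⟩ : Nonempty (Sylow 11 G) := inferInstance
  obtain ⟨hS, -⟩ := data11 hG P
  obtain ⟨hQ, e, t, v, D, l, he, -, het, hv, hl, h⟩ := brTest_sound (ncomm hG) hG t5 Q
  obtain ⟨y, hy, hy1⟩ := exists_mem_ne_one hQ
  have hoy := orderOf_eq_of_mem_of_card_prime (by norm_num) hQ hy hy1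
  have h11 := not_dvd_cent hS (by norm_num) (by norm_num) hoy
  rw [centralizer_singleton_eq hQ hy hy1, hv] at h11
  have h1 := relIndex_mul_card_centralizer (Q : Subgroup G)
  rw [he, hv] at h1
  have : Fact (Nat.Prime 3) := ⟨by norm_num⟩
  simp only [Bool.or_eq_true, Bool.and_eq_true, beq_iff_eq] at h
  rcases h with ((h | h) | ⟨⟨hn, rfl⟩, rfl⟩) | ⟨⟨rfl, rfl⟩, rfl⟩
  · omega
  · omega
  · exfalso
    obtain ⟨W, hW, hWC, hNW⟩ := exists_char_sub hQ (r := 3) (a := 3) (m := 1) (by norm_num) hv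
      (by norm_num) (fun k hk _ => Nat.dvd_one.1 hk)
    obtain ⟨n, hn1, hn2⟩ := sylow_count_sub Q (Subgroup.le_normalizer.trans hNW)
    rw [inf_eq_left.2 hNW, ← h1] at hn2
    obtain ⟨R, hR⟩ := (IsPGroup.of_card hW).exists_le_sylow
    have hR' : Nat.card R = 3 ^ 3 :=
      card_sylow_of_eq R (m := 3520) (by rw [hG]; norm_num) (by norm_num)
    have hWR : W = R := Subgroup.eq_of_le_of_card_ge hR (by rw [hW, hR'])
    have h2 := card_normalizer_mul_card_sylow R
    have h3 := card_sylow_modEq_one 3 G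
    change Nat.card (Subgroup.normalizer ((R : Subgroup G) : Set G)) * _ = _ at h2
    rw [← hWR, ← hn2, hG] at h2
    have h4 : ¬ 11 ∣ n := fun h => by
      obtain ⟨x, hx⟩ := exists_prime_orderOf_dvd_card' 11
        (G := Subgroup.normalizer (W : Set G)) (hn2 ▸ h.mul_left _)
      rw [← Subgroup.orderOf_coe] at hx
      have h5 := Crit.dvd_card_centralizer (isPGroup_zpowers_of_orderOf_eq hx)
        (Subgroup.zpowers_le_of_mem x.2) (by rw [hW]; norm_num) Nat.prime_three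
        (by rw [hW]; norm_num) (noFpf11.mono (by rw [hW]; norm_num))
      obtain ⟨g, hg⟩ := M11.exists_orderOf_mul Nat.prime_three (by norm_num)
        ((Nat.card_zpowers _).trans hx) h5
      exact hS.no_mul Nat.prime_three g hg
    unfold Nat.ModEq at h3
    generalize Nat.card (Sylow 3 G) = m at *
    have h5 : n * m = 176 := by nlinarith
    have h6 : n ≤ 176 := Nat.le_of_dvd (by norm_num) (Dvd.intro _ h5)
    interval_cases n <;> omega
  · exfalso
    obtain rfl : t = 2 := by omega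
    obtain ⟨χ, hχ, hχ1, hi⟩ := D.mem_items.1 (hl ▸ Multiset.mem_coe.2 (List.mem_singleton_self _))
    simp only [Prod.mk.injEq, true_eq_decide_iff] at hi
    have hz := D.natAbs_sm hQ (by norm_num) hl
    have hX : D.X = {H21.triv G, χ} := (Finset.eq_of_subset_of_card_le
      (by simp [Finset.insert_subset_iff, D.triv_mem, hχ])
      (by rw [D.cardX, Finset.card_pair hχ1.symm])).symm
    have hint := int_of_stable (χ := χ) fun σ => by
      have h2 := H19.charDegree_galIrr σ χ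
      rcases (D.mem _).1 ((H19.galIrr_mem_principalBlock_iff σ).2 ((D.mem χ).2 (Or.inl hχ)))
        with h | h
      · rw [hX, Finset.mem_insert, Finset.mem_singleton] at h
        refine h.resolve_left fun h => ?_
        rw [h, H21.triv_coe, H21.charDegree_one] at h2
        omega
      · rw [D.degY _ h, ← hz, ← hi.1] at h2
        exact absurd h2 (by decide)
    obtain ⟨W, hW, hWC, -⟩ := exists_char_sub hQ (r := 3) (a := 2) (m := 1) (by norm_num) hv
      (by norm_num) (fun k hk _ => Nat.dvd_one.1 hk)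
    have hval : ∀ u ∈ W, u ≠ 1 → χ.1 u = -4 := fun u hu hu1 => by
      obtain ⟨a, ha⟩ := hint u
      have h2 : u ^ 3 ^ 2 = 1 := by
        rw [← hW]; exact congrArg Subtype.val (pow_card_eq_one' (x := (⟨u, hu⟩ : W)))
      have h3 := int_cong_deg Nat.prime_three χ h2 ha
      have h4 := D.valX χ hχ y hy hy1 u (hWC hu) fun h =>
        absurd (h.trans (orderOf_dvd_of_pow_eq_one h2)) (by norm_num)
      have h5 := int_cong (p := 5) (by norm_num) (H11.irr_isCharacter χ) (k := 1)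
        (by rw [pow_one, ← hoy, pow_orderOf_eq_one])
        (Subgroup.mem_centralizer_iff.1 (hWC hu) y hy) h4 ha
      have h6 := abs_lt.1 (abs_lt_deg (ncomm hG) hχ1 hu1 ha)
      rw [← hi.1] at h3 h6
      rw [hi.2] at h5
      rw [ha, show a = -4 by omega]
      norm_num
    have h7 := card_mul_fixDim W (H11.irr_isCharacter χ)
    rw [sumOn_of_const hval, hW, ← H21.cast_deg, ← hi.1] at h7
    have h8 : (9 * fixDim W χ.1 : ℤ) = -21 := by
      have : ((9 * fixDim W χ.1 : ℤ) : ℂ) = ((-21 : ℤ) : ℂ) := by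
        push_cast at h7 ⊢; linear_combination h7
      exact_mod_cast this
    omega

theorem mem_vals (hG : Nat.card G = 95040) {χ : IrrCharacter G} (h1 : χ ≠ H21.triv G) {s : G}
    (hs : orderOf s = 2) {v : ℤ} (hv : χ.1 s = v) :
    v ∈ vals (Nat.card (Subgroup.centralizer ({s} : Set G))) (charDegree χ.1) := by
  have hs1 : s ≠ 1 := fun e => by rw [e, orderOf_one] at hs; omega
  have h2 := abs_lt.1 (abs_lt_deg (ncomm hG) h1 hs1 hv)
  have h3 := sum_sq_le {χ} s (fun _ => v) (by simpa using hv)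
  have h4 := four_dvd (commutator_eq_top (ncomm hG)) χ hs hv
  have h5 := dvd_index_mul χ hv
  have h6 := (Subgroup.centralizer ({s} : Set G)).card_mul_index
  have h7 : (Subgroup.centralizer ({s} : Set G)).index =
      95040 / Nat.card (Subgroup.centralizer ({s} : Set G)) := by
    rw [← hG, ← h6, Nat.mul_div_cancel_left _ Nat.card_pos]
  rw [h7] at h5
  simp only [vals, List.mem_filter, List.mem_map, List.mem_range, Bool.and_eq_true,
    decide_eq_true_eq, beq_iff_eq, Bool.or_eq_true, bne_iff_ne]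
  refine ⟨⟨(v + charDegree χ.1).toNat, by omega, by omega⟩, ⟨⟨⟨by simpa using h3, h2.1⟩,
    Int.emod_eq_zero_of_dvd h4⟩, Int.emod_eq_zero_of_dvd h5⟩, ?_⟩
  by_contra hc
  push Not at hc
  obtain ⟨y, hy⟩ := exists_prime_orderOf_dvd_card' 5 (Nat.dvd_of_mod_eq_zero hc.1.1)
  rw [← Subgroup.orderOf_coe] at hy
  have hc' : Commute (y : G) s := Subgroup.mem_centralizer_singleton_iff.1 y.2
  obtain ⟨c, hc2⟩ := H21.deg_dvd_card χ
  have h8 : χ.1 (y * s) = (0 : ℤ) := by
    rw [Int.cast_zero]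
    refine vanish_of_not_dvd χ (r := 5) (by norm_num) hc2 (fun h => ?_) ?_
    · have : 5 * 5 ∣ Nat.card G := hc2 ▸ Nat.mul_dvd_mul (Nat.dvd_of_mod_eq_zero hc.1.2) h
      rw [hG] at this
      norm_num at this
    · rw [hc'.orderOf_mul_eq_mul_orderOf_of_coprime (by rw [hy, hs]; norm_num), hy]
      exact dvd_mul_right _ _
  have h9 := int_cong (p := 5) (by norm_num) (H11.irr_isCharacter χ) (k := 1)
    (by rw [pow_one, ← hy, pow_orderOf_eq_one]) hc' h8 hv
  omega

theorem chk_sound (hG : Nat.card G = 95040) {P : Sylow 11 G} (D : BrData G 11 P 5 2) {s : G}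
    (hs : orderOf s = 2) {Zs : List (ℤ × ℕ)} {Cs : List ℕ}
    {R : ℕ → List (ℕ × ℤ) → ℕ → ℤ → Prop} (h : Chk Zs Cs R) (hz : (D.ε, D.z) ∈ Zs)
    (hC : Nat.card (Subgroup.centralizer ({s} : Set G)) ∈ Cs) :
    ∃ (a b c d : IrrCharacter G) (α β γ δ t : ℤ),
      (∀ χ, χ ∈ D.X ↔ χ = H21.triv G ∨ χ = a ∨ χ = b ∨ χ = c ∨ χ = d) ∧
      (∀ {R : Type} [AddCommMonoid R] (F : IrrCharacter G → R),
        ∑ χ ∈ D.X, F χ = F (H21.triv G) + F a + F b + F c + F d) ∧
      a.1 s = α ∧ b.1 s = β ∧ c.1 s = γ ∧ d.1 s = δ ∧ (∀ θ ∈ D.Y, θ.1 s = t) ∧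
      R (Nat.card (Subgroup.centralizer ({s} : Set G))) [(charDegree a.1, α),
        (charDegree b.1, β), (charDegree c.1, γ), (charDegree d.1, δ)] D.z t := by
  classical
  have hP := card11 hG P
  obtain ⟨-, -, hN, hi, -⟩ := data11 hG P
  obtain ⟨l, hl, -, hm, hs', hsum⟩ := exists_sorted (D.X.erase (H21.triv G)) fun χ => charDegree χ.1
  rw [Finset.card_erase_of_mem D.triv_mem, D.cardX] at hl
  obtain ⟨a, b, c, d, rfl⟩ : ∃ a b c d, l = [a, b, c, d] := by
    match l, hl with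
    | [a, b, c, d], _ => exact ⟨a, b, c, d, rfl⟩
  have hsum' : ∀ {R : Type} [AddCommMonoid R] (F : IrrCharacter G → R),
      ∑ χ ∈ D.X, F χ = F (H21.triv G) + F a + F b + F c + F d := fun F => by
    rw [← Finset.add_sum_erase _ _ D.triv_mem, hsum]
    simp [add_assoc]
  have hD : ∀ χ ∈ [a, b, c, d], charDegree χ.1 ∈ Dl ∧ D.sg χ = sg (charDegree χ.1) ∧
      χ ≠ H21.triv G ∧ charDegree χ.1 * (95040 / charDegree χ.1) = 95040 := fun χ hχ => by
    obtain ⟨h0, h1⟩ := Finset.mem_erase.1 ((hm χ).1 hχ)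
    have h2 := D.degX_dvd hP h1
    have h3 := degX_mod D.toBrPre hP h1
    have h4 := charDegree_sq_le χ
    have h5 : charDegree χ.1 ≠ 1 := fun h =>
      h0 (eq_triv_of_deg_one (commutator_eq_top (ncomm hG)) h)
    rw [hi] at h2
    rw [hG] at h4
    have h6 : charDegree χ.1 < 309 := by nlinarith
    refine ⟨mem_Dl _ (List.mem_range.2 h6) h2 h5 ?_, ?_, h0, Nat.mul_div_cancel' (h2.trans (by norm_num))⟩
    · rcases D.sg_pm χ h1 with h | h <;> rw [h] at h3 <;> omega
    · unfold sg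
      rcases D.sg_pm χ h1 with h | h <;> rw [h] at h3 ⊢ <;> split_ifs <;> omega
  obtain ⟨a1, a2, a3, a4⟩ := hD a (by simp)
  obtain ⟨b1, b2, b3, b4⟩ := hD b (by simp)
  obtain ⟨c1, c2, c3, c4⟩ := hD c (by simp)
  obtain ⟨d1, d2, d3, d4⟩ := hD d (by simp)
  choose v hv using fun χ : IrrCharacter G =>
    H15.exists_int_apply_of_orderOf_eq_two (H11.irr_isCharacter χ) hs
  obtain ⟨θ, hθ⟩ : D.Y.Nonempty := Finset.card_pos.1 (by rw [D.cardY]; norm_num)
  have h11 : ¬ 11 ∣ orderOf s := by rw [hs]; norm_num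
  have hY : ∀ θ' ∈ D.Y, θ'.1 s = v θ := fun θ' h => (D.Y_eq h hθ h11).trans (hv θ)
  have ht : v (H21.triv G) = 1 := by
    have := hv (H21.triv G)
    rw [H21.triv_apply] at this
    exact_mod_cast this.symm
  have hz0 := D.z_dvd hP (by norm_num)
  rw [hi] at hz0
  have hz1 := Nat.mul_div_cancel' (hz0.trans (by norm_num : 8640 ∣ 95040))
  simp only [List.pairwise_cons, List.mem_cons, forall_eq_or_imp] at hs'
  refine ⟨a, b, c, d, v a, v b, v c, v d, v θ, fun χ => ?_, hsum', hv a, hv b, hv c, hv d, hY,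
    h _ a1 _ b1 hs'.1.1 _ c1 hs'.2.1.1 _ d1 hs'.2.2.1.1 _ hz ?_ _ hC
      _ (mem_vals hG a3 hs (hv a)) _ (mem_vals hG b3 hs (hv b)) _ (mem_vals hG c3 hs (hv c))
      _ (mem_vals hG d3 hs (hv d)) _ (D.degY θ hθ ▸ mem_vals hG (D.ne_triv_of_mem_Y hθ) hs (hv θ))
      ?_ ?_ ?_⟩
  · have := hm χ
    by_cases h0 : χ = H21.triv G
    · simp [h0, D.triv_mem]
    · simpa [h0] using this.symm
  · have := D.deg_eq (by norm_num)
    rw [hsum', D.sg_triv hP, a2, b2, c2, d2, H21.triv_coe, H21.charDegree_one] at this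
    simpa using this
  · have := D.rel θ hθ s h11
    rw [hsum', D.sg_triv hP, a2, b2, c2, d2] at this
    simp only [hv, ht] at this
    exact_mod_cast this
  · have := sum_sq_le (all D.toBrPre) s v fun χ _ => hv χ
    rw [show all D.toBrPre = D.X ∪ D.Y from Finset.ext fun χ => by rw [mem_all, Finset.mem_union],
      Finset.sum_union (Finset.disjoint_left.2 D.disj), hsum', ht,
      Finset.sum_congr rfl fun θ' (h : θ' ∈ D.Y) => by
        rw [show v θ' = v θ by exact_mod_cast (hv θ').symm.trans (hY θ' h)],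
      Finset.sum_const, D.cardY] at this
    simpa using this
  · have := invol_rel' D.toBrPre hP (by rw [hN]; decide) hs hθ (by norm_num)
    rw [hsum', D.sg_triv hP, a2, b2, c2, d2] at this
    simp only [hv, ht, ← H21.cast_deg, H21.triv_coe, H21.charDegree_one] at this
    have e : ∀ d : ℕ, d * (95040 / d) = 95040 → ((95040 / d : ℕ) : ℂ) = 95040 / d := fun d hd => by
      have h0 : (d : ℂ) ≠ 0 := by rintro h; rw [Nat.cast_eq_zero.1 h] at hd; omega
      rw [eq_div_iff h0, mul_comm]; exact_mod_cast hd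
    have : ((95040 + sg (charDegree a.1) * v a ^ 2 * (95040 / charDegree a.1 : ℕ) +
        sg (charDegree b.1) * v b ^ 2 * (95040 / charDegree b.1 : ℕ) +
        sg (charDegree c.1) * v c ^ 2 * (95040 / charDegree c.1 : ℕ) +
        sg (charDegree d.1) * v d ^ 2 * (95040 / charDegree d.1 : ℕ) : ℤ) : ℂ) =
        ((D.ε * v θ ^ 2 * (95040 / D.z : ℕ) : ℤ) : ℂ) := by
      simp only [Int.cast_add, Int.cast_mul, Int.cast_natCast, e _ a4, e _ b4, e _ c4, e _ d4,
        e _ hz1]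
      push_cast at this ⊢
      linear_combination 95040 * this
    exact_mod_cast this

theorem mem_Zl (hG : Nat.card G = 95040) {P : Sylow 11 G} (D : BrData G 11 P 5 2) :
    (D.ε, D.z) ∈ Zl := by
  have hP := card11 hG P
  have h1 := D.z_dvd hP (by norm_num)
  rw [(data11 hG P).2.2.2.1] at h1
  have h2 := z_mod D.toBrPre hP
  have h3 := D.sum_sq_le
  rw [hG] at h3
  have h4 : D.z < 218 := by nlinarith [Nat.zero_le (∑ χ ∈ D.X, charDegree χ.1 ^ 2)]
  have key : ∀ z ∈ List.range 218, z ∣ 8640 → (z % 11 = 5 → ((1 : ℤ), z) ∈ Zl) ∧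
      (z % 11 = 6 → ((-1 : ℤ), z) ∈ Zl) := by decide +kernel
  rcases D.eps_pm with h | h <;> rw [h] at h2 ⊢
  · exact (key _ (List.mem_range.2 h4) h1).1 (by omega)
  · exact (key _ (List.mem_range.2 h4) h1).2 (by omega)

theorem z_ne_six (hG : Nat.card G = 95040) {P : Sylow 11 G} (D : BrData G 11 P 5 2) :
    D.z ≠ 6 := fun h => by
  have : Fact (Nat.Prime 2) := ⟨Nat.prime_two⟩
  obtain ⟨s, hs, h64⟩ := exists_central_elem (G := G) (p := 2) (a := 6) (by rw [hG]; norm_num)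
    (by norm_num)
  have h1 := cent_dvd hG (data11 hG P).1 Nat.prime_two (by norm_num) hs
  have h2 := mem_Zl hG D
  obtain ⟨a, b, c, d, α, β, γ, δ, t, -, -, -, -, -, -, -, h⟩ := chk_sound hG D hs chk64
    (by rw [h] at h2 ⊢; simpa [Zl] using h2) (by
      obtain ⟨k, hk⟩ := h64
      rw [hk] at h1 ⊢
      have h3 : k ∣ 135 := Nat.dvd_of_mul_dvd_mul_left (by norm_num : 0 < 64) h1
      have key : ∀ k ∈ Nat.divisors 135, 2 ^ 6 * k ∈ [64, 192, 320, 576, 960, 1728, 2880, 8640] := by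
        decide +kernel
      exact key k (Nat.mem_divisors.2 ⟨h3, by norm_num⟩))
  exact h

end Cfsg.Agent.H13.M12
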