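import Mathlib
import Cfsg.Agent.H13.Complete
import Cfsg.Agent.H58.SymSq
import Cfsg.Agent.H11.PermChar

/-! A real irreducible character `χ` with irreducible exterior square which occurs in `χ²` comes
from a permutation representation: `1 + χ` is a permutation character. -/

namespace Cfsg.Agent.H13.AlgPerm

open Cfsg MulAction Module Matrix
open scoped ComplexConjugate

variable {G : Type*} [Group G]

section Alg
variable {A : Type} [CommRing A] [Algebra ℂ A] [Module.Finite ℂ A]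

theorem mem_jacobson {u : A} (h : ∀ φ : A →ₐ[ℂ] ℂ, φ u = 0) : u ∈ Ideal.jacobson (⊥ : Ideal A) := by
  refine Ideal.mem_sInf.2 fun {m} hm => ?_
  have := hm.2
  let _ := Ideal.Quotient.field m
  have hb : Function.Bijective (algebraMap ℂ (A ⧸ m)) :=
    IsAlgClosed.algebraMap_bijective_of_isIntegral
  let e : ℂ ≃ₐ[ℂ] (A ⧸ m) := AlgEquiv.ofBijective (Algebra.ofId ℂ (A ⧸ m)) hb
  have h1 := h (e.symm.toAlgHom.comp (Ideal.Quotient.mkₐ ℂ m))
  have h2 : e.symm (Ideal.Quotient.mk m u) = 0 := h1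
  rw [map_eq_zero_iff _ e.symm.injective] at h2
  exact Ideal.Quotient.eq_zero_iff_mem.1 h2

theorem exists_action (τ : Representation ℂ G A) (h1 : ∀ g, τ g 1 = 1)
    (hm : ∀ g u v, τ g (u * v) = τ g u * τ g v)
    (hinj : ∀ u : A, (∀ φ : A →ₐ[ℂ] ℂ, φ u = 0) → u = 0) :
    ∃ (Ω : Type) (_ : Finite Ω) (_ : MulAction G Ω),
      ∀ g, (Nat.card (fixedBy Ω g) : ℂ) = τ.character g := by
  classical
  have hli := linearIndependent_toLinearMap ℂ A ℂ
  have hfin : Finite (A →ₐ[ℂ] ℂ) := hli.finite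
  have := Fintype.ofFinite (A →ₐ[ℂ] ℂ)
  let T : G → (A →ₐ[ℂ] A) := fun g => AlgHom.ofLinearMap (τ g) (h1 g) (hm g)
  let act : MulAction G (A →ₐ[ℂ] ℂ) :=
    { smul := fun g φ => φ.comp (T g⁻¹)
      one_smul := fun φ => AlgHom.ext fun u => by
        change φ (τ 1⁻¹ u) = φ u
        simp
      mul_smul := fun g h φ => AlgHom.ext fun u => by
        change φ (τ (g * h)⁻¹ u) = φ (τ h⁻¹ (τ g⁻¹ u))
        simp }
  let ev : A →ₗ[ℂ] ((A →ₐ[ℂ] ℂ) → ℂ) := LinearMap.pi fun φ => φ.toLinearMap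
  have hev : Function.Injective ev := by
    rw [injective_iff_map_eq_zero]
    exact fun u hu => hinj u fun φ => congrFun hu φ
  have hdim : finrank ℂ A = finrank ℂ ((A →ₐ[ℂ] ℂ) → ℂ) := by
    refine le_antisymm (LinearMap.finrank_le_finrank_of_injective hev) ?_
    have := hli.fintype_card_le_finrank
    rw [Module.finrank_fintype_fun_eq_card]
    exact this.trans (Subspace.dual_finrank_eq (K := ℂ) (V := A)).le
  let e := LinearMap.linearEquivOfInjective ev hev hdim
  refine ⟨A →ₐ[ℂ] ℂ, hfin, act, fun g => ?_⟩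
  rw [← H11.permRep_character, Representation.character, Representation.character,
    ← LinearMap.trace_conj' (τ g) e]
  congr 1
  refine LinearMap.ext fun F => ?_
  obtain ⟨u, rfl⟩ := e.surjective F
  rw [LinearEquiv.conj_apply_apply, e.symm_apply_apply]
  funext φ
  change (φ.comp (T g⁻¹⁻¹)) u = φ (τ g u)
  rw [inv_inv]
  rfl

end Alg

section Prod
variable {V : Type} [AddCommGroup V] [Module ℂ V]

/-- an invariant commutative product whose multiplication operators commute up to the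
standard curvature tensor -/
structure Data (ρ : Representation ℂ G V) where
  m : V →ₗ[ℂ] V →ₗ[ℂ] V
  β : V →ₗ[ℂ] V →ₗ[ℂ] ℂ
  μ : ℂ
  m_comm : ∀ a b, m a b = m b a
  β_comm : ∀ a b, β a b = β b a
  β_assoc : ∀ a b c, β (m a b) c = β a (m b c)
  rel : ∀ a c x, m a (m c x) - m c (m a x) = -μ • (β c x • a - β a x • c)
  m_inv : ∀ g a b, ρ g (m a b) = m (ρ g a) (ρ g b)
  β_inv : ∀ g a b, β (ρ g a) (ρ g b) = β a b
  m_ne : m ≠ 0
  β_ne : β ≠ 0

variable {ρ : Representation ℂ G V} (D : Data ρ)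

/-- the algebra `ℂ ⊕ V` -/
def Alg (_ : Data ρ) : Type := ℂ × V

/-- additive structure -/
@[reducible] noncomputable def addAlg : AddCommGroup (Alg D) := inferInstanceAs (AddCommGroup (ℂ × V))

attribute [local instance] addAlg

/-- module structure -/
@[reducible] noncomputable def modAlg : Module ℂ (Alg D) := inferInstanceAs (Module ℂ (ℂ × V))

attribute [local instance] modAlg

/-- the product -/
noncomputable def mulAlg (u v : ℂ × V) : ℂ × V :=
  (u.1 * v.1 + D.μ * D.β u.2 v.2, u.1 • v.2 + v.1 • u.2 + D.m u.2 v.2)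

theorem mulAlg_comm (u v : ℂ × V) : mulAlg D u v = mulAlg D v u := by
  unfold mulAlg
  rw [D.β_comm u.2, D.m_comm u.2, mul_comm u.1, add_comm (u.1 • v.2)]

theorem mulAlg_add (u v w : ℂ × V) : mulAlg D u (v + w) = mulAlg D u v + mulAlg D u w := by
  unfold mulAlg
  refine Prod.ext ?_ ?_
  · simp only [Prod.fst_add, Prod.snd_add, map_add]; ring
  · simp only [Prod.fst_add, Prod.snd_add, map_add]; module

theorem mulAlg_smul (c : ℂ) (u v : ℂ × V) : mulAlg D u (c • v) = c • mulAlg D u v := by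
  unfold mulAlg
  refine Prod.ext ?_ ?_
  · simp only [Prod.smul_fst, Prod.smul_snd, map_smul, smul_eq_mul]; ring
  · simp only [Prod.smul_fst, Prod.smul_snd, map_smul, smul_eq_mul]; module

theorem add_mulAlg (u v w : ℂ × V) : mulAlg D (u + v) w = mulAlg D u w + mulAlg D v w := by
  rw [mulAlg_comm D _ w, mulAlg_comm D _ w, mulAlg_comm D _ w, mulAlg_add]

theorem smul_mulAlg (c : ℂ) (u v : ℂ × V) : mulAlg D (c • u) v = c • mulAlg D u v := by
  rw [mulAlg_comm D _ v, mulAlg_comm D _ v, mulAlg_smul]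

theorem one_mulAlg (u : ℂ × V) : mulAlg D (1, 0) u = u := by
  simp [mulAlg]

theorem mulAlg_assoc (u v w : ℂ × V) :
    mulAlg D (mulAlg D u v) w = mulAlg D u (mulAlg D v w) := by
  obtain ⟨r, a⟩ := u
  obtain ⟨s, b⟩ := v
  obtain ⟨t, c⟩ := w
  have h := D.rel c a b
  rw [D.m_comm c (D.m a b), D.m_comm c b, D.β_comm c b] at h
  unfold mulAlg
  refine Prod.ext ?_ ?_
  · simp only [map_add, map_smul, LinearMap.add_apply, LinearMap.smul_apply, smul_eq_mul,
      D.β_assoc]
    ring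
  · simp only [map_add, map_smul, LinearMap.add_apply, LinearMap.smul_apply]
    linear_combination (norm := module) h

/-- ring structure -/
@[reducible] noncomputable def ringAlg : CommRing (Alg D) :=
  { addAlg D with
    mul := mulAlg D
    one := ((1, 0) : ℂ × V)
    left_distrib := mulAlg_add D
    right_distrib := fun u v w => add_mulAlg D u v w
    zero_mul := fun u => by
      change mulAlg D (0 : ℂ × V) u = (0 : ℂ × V)
      simp [mulAlg]
    mul_zero := fun u => by
      change mulAlg D u (0 : ℂ × V) = (0 : ℂ × V)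
      simp [mulAlg]
    mul_assoc := mulAlg_assoc D
    one_mul := one_mulAlg D
    mul_one := fun u => (mulAlg_comm D _ _).trans (one_mulAlg D u)
    mul_comm := mulAlg_comm D }

attribute [local instance] ringAlg

/-- algebra structure -/
@[reducible] noncomputable def algAlg : Algebra ℂ (Alg D) :=
  Algebra.ofModule (fun c u v => smul_mulAlg D c u v)
    (fun c u v => mulAlg_smul D c u v)

attribute [local instance] algAlg

include D in
theorem Data.exists_action [Fintype G] [FiniteDimensional ℂ V] (hρ : ρ.IsIrreducible)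
    (h0 : ∀ v, ∑ g, ρ g v = 0) :
    ∃ (Ω : Type) (_ : Finite Ω) (_ : MulAction G Ω),
      ∀ g, (Nat.card (fixedBy Ω g) : ℂ) = 1 + ρ.character g := by
  have hfin : Module.Finite ℂ (Alg D) := inferInstanceAs (Module.Finite ℂ (ℂ × V))
  let τ : Representation ℂ G (Alg D) := (Representation.trivial ℂ G ℂ).prod ρ
  have hτ : ∀ g (u : ℂ × V), τ g u = (u.1, ρ g u.2) := fun g u => rfl
  have hmul : ∀ u v : Alg D, u * v = mulAlg D u v := fun _ _ => rfl
  have h1 : ∀ g, τ g 1 = 1 := fun g => by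
    change τ g ((1, 0) : ℂ × V) = ((1, 0) : ℂ × V)
    rw [hτ]; exact Prod.ext rfl (map_zero _)
  have hm : ∀ g u v, τ g (u * v) = τ g u * τ g v := fun g u v => by
    rw [hmul, hmul, hτ, hτ g u, hτ g v]
    simp [mulAlg, D.β_inv, D.m_inv]
    rfl
  let T : G → (Alg D →ₐ[ℂ] Alg D) := fun g => AlgHom.ofLinearMap (τ g) (h1 g) (hm g)
  let ι : V →ₗ[ℂ] Alg D := LinearMap.inr ℂ ℂ V
  let N : Submodule ℂ V := ⨅ φ : Alg D →ₐ[ℂ] ℂ, LinearMap.ker (φ.toLinearMap ∘ₗ ι)
  have hN : ∀ a, a ∈ N ↔ ∀ φ : Alg D →ₐ[ℂ] ℂ, φ (ι a) = 0 := fun a => by simp [N]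
  have hNt : N ≠ ⊤ := by
    intro hNt
    have hz : ∀ (φ : Alg D →ₐ[ℂ] ℂ) a, φ (ι a) = 0 := fun φ a => (hN a).1 (hNt ▸ Submodule.mem_top) φ
    have hprod : ∀ a b, ι a * ι b = algebraMap ℂ (Alg D) (D.μ * D.β a b) + ι (D.m a b) := by
      intro a b
      rw [Algebra.algebraMap_eq_smul_one, hmul]
      have : mulAlg D (0, a) (0, b) = (D.μ * D.β a b) • ((1, 0) : ℂ × V) + (0, D.m a b) := by
        simp [mulAlg]
      exact this
    have hJ : ∀ a, ι a ∈ Ideal.jacobson (⊥ : Ideal (Alg D)) := fun a => mem_jacobson (hz · a)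
    have hμ : D.μ = 0 := by
      by_contra hμ
      refine D.β_ne (LinearMap.ext fun a => LinearMap.ext fun b => ?_)
      by_contra hb
      have h2 : algebraMap ℂ (Alg D) (D.μ * D.β a b) ∈ Ideal.jacobson (⊥ : Ideal (Alg D)) := by
        have := Ideal.sub_mem _ (Ideal.mul_mem_right (ι b) _ (hJ a)) (hJ (D.m a b))
        rwa [hprod, add_sub_cancel_right] at this
      have h3 : IsUnit (algebraMap ℂ (Alg D) (D.μ * D.β a b)) :=
        (Ne.isUnit (mul_ne_zero hμ hb)).map _
      have h4 := Ideal.eq_top_of_isUnit_mem _ h2 h3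
      rw [Ideal.jacobson_eq_top_iff] at h4
      have h5 : (1 : Alg D) ∈ (⊥ : Ideal (Alg D)) := h4 ▸ Submodule.mem_top
      have h6 : ((1, 0) : ℂ × V) = 0 := h5
      simp at h6
    let I : Ideal (Alg D) := Ideal.span (Set.range ι)
    have hI : I ≤ Ideal.jacobson ⊥ := Ideal.span_le.2 (by rintro _ ⟨a, rfl⟩; exact hJ a)
    let U : Submodule ℂ V := Submodule.span ℂ {v | ∃ a b, D.m a b = v}
    have hU : U = ⊤ := by
      refine (eq_bot_or_eq_top_of_isIrreducible ρ U fun g v hv => ?_).resolve_left fun h => ?_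
      · refine Submodule.span_induction (p := fun v _ => ρ g v ∈ U) ?_ (by simp) ?_ ?_ hv
        · rintro _ ⟨a, b, rfl⟩
          exact Submodule.subset_span ⟨_, _, (D.m_inv g a b).symm⟩
        · intro x y _ _ hx hy
          rw [map_add]; exact U.add_mem hx hy
        · intro c x _ hx
          rw [map_smul]; exact U.smul_mem c hx
      · refine D.m_ne (LinearMap.ext fun a => LinearMap.ext fun b => ?_)
        have : D.m a b ∈ U := Submodule.subset_span ⟨a, b, rfl⟩
        rw [h] at this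
        simpa using this
    have hII : I ≤ I • I := by
      refine Ideal.span_le.2 ?_
      rintro _ ⟨v, rfl⟩
      have hv : v ∈ U := hU ▸ Submodule.mem_top
      refine Submodule.span_induction (p := fun v _ => ι v ∈ I • I) ?_ (by simp) ?_ ?_ hv
      · rintro _ ⟨a, b, rfl⟩
        have := hprod a b
        rw [hμ, zero_mul, map_zero, zero_add] at this
        rw [← this]
        exact Submodule.smul_mem_smul (Ideal.subset_span ⟨a, rfl⟩) (Ideal.subset_span ⟨b, rfl⟩)
      · intro x y _ _ hx hy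
        rw [map_add]; exact Submodule.add_mem _ hx hy
      · intro c x _ hx
        rw [map_smul, Algebra.smul_def c (ι x)]; exact Ideal.mul_mem_left _ _ hx
    have : IsNoetherianRing (Alg D) := IsNoetherianRing.of_finite ℂ (Alg D)
    have hI0 : I = ⊥ := Submodule.eq_bot_of_le_smul_of_le_jacobson_bot I I
      (IsNoetherian.noetherian I) hII hI
    refine D.m_ne (LinearMap.ext fun a => ?_)
    have h2 : ι a ∈ I := Ideal.subset_span ⟨a, rfl⟩
    rw [hI0] at h2
    have h3 : ((0, a) : ℂ × V) = 0 := h2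
    rw [show a = 0 from congrArg Prod.snd h3]
    simp
  have hN0 : N = ⊥ := (eq_bot_or_eq_top_of_isIrreducible ρ N fun g v hv =>
    (hN _).2 fun φ => (hN v).1 hv (φ.comp (T g))).resolve_right hNt
  obtain ⟨Ω, h2, h3, h4⟩ := AlgPerm.exists_action τ h1 hm (by
    rintro ⟨s, a⟩ hu
    have hsum : ∑ g, τ g (s, a) = algebraMap ℂ (Alg D) (Fintype.card G * s) := by
      rw [Algebra.algebraMap_eq_smul_one]
      change ∑ g, ((s, ρ g a) : ℂ × V) = ((Fintype.card G : ℂ) * s) • ((1, 0) : ℂ × V)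
      refine Prod.ext ?_ ?_
      · simp [Prod.fst_sum]
      · simp [Prod.snd_sum, h0]
    obtain ⟨v, hv⟩ : ∃ v, v ∉ N := by
      by_contra h
      exact hNt (eq_top_iff.2 fun v _ => not_not.1 fun hv => h ⟨v, hv⟩)
    rw [hN, not_forall] at hv
    obtain ⟨φ, -⟩ := hv
    have hs : s = 0 := by
      have h5 : φ (∑ g, τ g (s, a)) = 0 := by
        rw [map_sum]
        exact Finset.sum_eq_zero fun g _ => hu (φ.comp (T g))
      rw [hsum, AlgHom.commutes] at h5
      simpa using h5
    subst hs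
    have : a ∈ N := (hN a).2 hu
    rw [hN0] at this
    rw [show a = 0 from this]
    rfl)
  refine ⟨Ω, h2, h3, fun g => (h4 g).trans ?_⟩
  have := congrFun (char_prod (Representation.trivial ℂ G ℂ) ρ) g
  refine this.trans ?_
  simp [Representation.character]

end Prod

section Mat
variable {n : ℕ}

/-- skew-symmetric matrices -/
def skew (n : ℕ) : Submodule ℂ (Matrix (Fin n) (Fin n) ℂ) where
  carrier := {X | Xᵀ = -X}
  zero_mem' := by simp
  add_mem' := fun {X Y} hX hY => by
    change (X + Y)ᵀ = -(X + Y)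
    rw [transpose_add, show Xᵀ = -X from hX, show Yᵀ = -Y from hY, neg_add]
  smul_mem' := fun c X hX => by
    change (c • X)ᵀ = -(c • X)
    rw [transpose_smul, show Xᵀ = -X from hX, smul_neg]

theorem skew_le (ρ : Representation ℂ G (Fin n → ℂ)) (g : G) :
    skew n ≤ (skew n).comap (H15.formRep ρ g) := fun X hX => by
  change (H15.formRep ρ g X)ᵀ = -H15.formRep ρ g X
  simp [H15.formRep_apply, transpose_mul, show Xᵀ = -X from hX, Matrix.mul_assoc]

/-- the exterior square -/
noncomputable def skewRep (ρ : Representation ℂ G (Fin n → ℂ)) : Representation ℂ G (skew n) :=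
  (H15.formRep ρ).subrepresentation (skew n) (skew_le ρ)

theorem skewRep_character (ρ : Representation ℂ G (Fin n → ℂ)) :
    (skewRep ρ).character = fun g =>
      (ρ.character g * ρ.character g - ρ.character (g * g)) / 2 := by
  funext g
  let T := (Matrix.transposeLinearEquiv (Fin n) (Fin n) ℂ ℂ).toLinearMap
  let e : Matrix (Fin n) (Fin n) ℂ →ₗ[ℂ] Matrix (Fin n) (Fin n) ℂ :=
    (2⁻¹ : ℂ) • (LinearMap.id - T)
  have he : ∀ X, e X = (2⁻¹ : ℂ) • (X - Xᵀ) := fun X => rfl
  have h1 := LinearMap.trace_restrict_eq_of_forall_mem (skew n) (e ∘ₗ H15.formRep ρ g)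
    (fun X => by
      change (e _)ᵀ = -e _
      rw [he, transpose_smul, transpose_sub, transpose_transpose, ← smul_neg, neg_sub])
  have h2 : LinearMap.trace ℂ _ (e ∘ₗ H15.formRep ρ g) =
      (ρ.character g * ρ.character g - ρ.character (g * g)) / 2 := by
    rw [LinearMap.smul_comp, LinearMap.sub_comp, LinearMap.id_comp, map_smul, map_sub,
      H15.trace_transpose_formRep, ← H15.formRep_character]
    simp only [smul_eq_mul, Representation.character]
    ring
  rw [← h2, ← h1, Representation.character]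
  congr 1
  refine LinearMap.ext fun X => Subtype.ext ?_
  change H15.formRep ρ g X = e (H15.formRep ρ g X)
  rw [he, show (H15.formRep ρ g X)ᵀ = -H15.formRep ρ g X from skew_le ρ g X.2]
  module

theorem formRep_vecMulVec (ρ : Representation ℂ G (Fin n → ℂ)) (g : G) (a b : Fin n → ℂ) :
    H15.formRep ρ g (vecMulVec a b) = vecMulVec (ρ g a) (ρ g b) := by
  rw [H15.formRep_apply, mul_vecMulVec, vecMulVec_mul, vecMul_transpose,
    LinearMap.toMatrix'_mulVec, LinearMap.toMatrix'_mulVec]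

theorem wedge_mem (a b : Fin n → ℂ) : vecMulVec a b - vecMulVec b a ∈ skew n := by
  change _ᵀ = -_
  rw [transpose_sub, transpose_vecMulVec, transpose_vecMulVec, neg_sub]

variable {U : Type*} [AddCommGroup U] [Module ℂ U]

theorem ext_vecMulVec {f f' : Matrix (Fin n) (Fin n) ℂ →ₗ[ℂ] U}
    (h : ∀ a b, f (vecMulVec a b) = f' (vecMulVec a b)) : f = f' := by
  refine (Matrix.stdBasis ℂ (Fin n) (Fin n)).ext fun ⟨i, j⟩ => ?_
  rw [Matrix.stdBasis_eq_single, single_eq_single_vecMulVec_single, h]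

theorem exists_lift {ρ : Representation ℂ G (Fin n → ℂ)} {σ : Representation ℂ G U}
    (m : (Fin n → ℂ) →ₗ[ℂ] (Fin n → ℂ) →ₗ[ℂ] U) (hm : ∀ g a b, σ g (m a b) = m (ρ g a) (ρ g b)) :
    ∃ f : Matrix (Fin n) (Fin n) ℂ →ₗ[ℂ] U, (∀ a b, f (vecMulVec a b) = m a b) ∧
      ∀ g X, f (H15.formRep ρ g X) = σ g (f X) := by
  let f : Matrix (Fin n) (Fin n) ℂ →ₗ[ℂ] U := ∑ i, ∑ j,
    (Matrix.entryLinearMap ℂ ℂ i j).smulRight (m (Pi.single i 1) (Pi.single j 1))
  have hf : ∀ a b, f (vecMulVec a b) = m a b := fun a b => by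
    conv_rhs => rw [pi_eq_sum_univ' a, pi_eq_sum_univ' b]
    simp only [f, LinearMap.sum_apply, LinearMap.smulRight_apply, entryLinearMap_apply,
      vecMulVec_apply, map_sum, map_smul, LinearMap.smul_apply, Finset.smul_sum, smul_smul]
    rw [Finset.sum_comm]
    refine Finset.sum_congr rfl fun j _ => Finset.sum_congr rfl fun i _ => ?_
    rw [mul_comm]
  refine ⟨f, hf, fun g X => ?_⟩
  have : f ∘ₗ H15.formRep ρ g = σ g ∘ₗ f := ext_vecMulVec fun a b => by
    simp only [LinearMap.comp_apply, formRep_vecMulVec, hf, hm]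
  exact LinearMap.congr_fun this X

variable [Fintype G]

theorem symm_of_inner {ρ : Representation ℂ G (Fin n → ℂ)}
    (h : classInner ρ.character (skewRep ρ).character = 0)
    (m : (Fin n → ℂ) →ₗ[ℂ] (Fin n → ℂ) →ₗ[ℂ] (Fin n → ℂ))
    (hm : ∀ g a b, ρ g (m a b) = m (ρ g a) (ρ g b)) (a b : Fin n → ℂ) : m a b = m b a := by
  obtain ⟨f, hf, hf'⟩ := exists_lift m hm
  rw [inner_char_eq_finrank, Nat.cast_eq_zero, Module.finrank_zero_iff] at h
  let F : Representation.IntertwiningMap (skewRep ρ) ρ :=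
    (f ∘ₗ (skew n).subtype).intertwiningMap_of_isIntertwiningMap _ _ fun g X => hf' g X
  have h1 : F ⟨_, wedge_mem a b⟩ = 0 := by rw [Subsingleton.elim F 0]; rfl
  have h2 : f (vecMulVec a b - vecMulVec b a) = 0 := h1
  rwa [map_sub, hf, hf, sub_eq_zero] at h2

theorem exists_kappa {ρ : Representation ℂ G (Fin n → ℂ)}
    (h : classInner (skewRep ρ).character (skewRep ρ).character = 1)
    (C : (Fin n → ℂ) →ₗ[ℂ] (Fin n → ℂ) →ₗ[ℂ] Matrix (Fin n) (Fin n) ℂ)
    (hC : ∀ g a b, H15.formRep ρ g (C a b) = C (ρ g a) (ρ g b)) (hs : ∀ a b, C a b ∈ skew n) :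
    ∃ κ : ℂ, ∀ a b, C a b - C b a = κ • (vecMulVec a b - vecMulVec b a) := by
  obtain ⟨f, hf, hf'⟩ := exists_lift C hC
  have hfs : ∀ X, f X ∈ skew n := fun X => by
    have : (skew n).mkQ ∘ₗ f = 0 := ext_vecMulVec fun a b => by
      simpa [hf] using hs a b
    simpa using LinearMap.congr_fun this X
  rw [inner_char_eq_finrank, Nat.cast_eq_one] at h
  let F : Representation.IntertwiningMap (skewRep ρ) (skewRep ρ) :=
    ((f.codRestrict (skew n) hfs) ∘ₗ (skew n).subtype).intertwiningMap_of_isIntertwiningMap _ _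
      fun g X => Subtype.ext (hf' g X)
  let I : Representation.IntertwiningMap (skewRep ρ) (skewRep ρ) :=
    LinearMap.id.intertwiningMap_of_isIntertwiningMap _ _ fun g X => rfl
  by_cases hI : I = 0
  · refine ⟨0, fun a b => ?_⟩
    have h1 : I ⟨_, hfs (vecMulVec a b - vecMulVec b a)⟩ = 0 := by rw [hI]; rfl
    have h2 : f (vecMulVec a b - vecMulVec b a) = 0 := congrArg Subtype.val h1
    rw [map_sub, hf, hf] at h2
    rw [h2, zero_smul]
  obtain ⟨κ, hκ⟩ := (finrank_eq_one_iff_of_nonzero' I hI).1 h F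
  refine ⟨κ, fun a b => ?_⟩
  have h1 : F ⟨_, wedge_mem a b⟩ = κ • I ⟨_, wedge_mem a b⟩ := by rw [← hκ]; rfl
  have h2 : f (vecMulVec a b - vecMulVec b a) = κ • (vecMulVec a b - vecMulVec b a) :=
    congrArg Subtype.val h1
  rwa [map_sub, hf, hf] at h2

theorem nonempty_data {ρ : Representation ℂ G (Fin n → ℂ)} (hρ : ρ.IsIrreducible)
    (hfs : H19.fs ρ.character = 1)
    (h0 : classInner ρ.character (skewRep ρ).character = 0)
    (h1 : classInner (skewRep ρ).character (skewRep ρ).character = 1)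
    (h2 : classInner ρ.character (H15.formRep ρ).character ≠ 0) : Nonempty (Data ρ) := by
  classical
  have hχ : IsIrrCharacter G ρ.character := ⟨n, ρ, hρ, rfl⟩
  obtain ⟨B, hB0, hB⟩ := H19.exists_invariant_form ρ hρ
    (H19.real_of_fs_ne_zero hχ (by rw [hfs]; simp))
  have hBs : Bᵀ = B := by rw [H19.transpose_eq_fs_smul ρ hρ B hB, hfs, one_smul]
  have hu : IsUnit B.det := (H15.det_ne_zero_of_invariant ρ hρ B hB hB0).isUnit
  set J := B⁻¹ with hJ
  have hBJ : B * J = 1 := mul_nonsing_inv B hu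
  have hJB : J * B = 1 := nonsing_inv_mul B hu
  have hJs : Jᵀ = J := by rw [hJ, transpose_nonsing_inv, hBs]
  let M : G → Matrix (Fin n) (Fin n) ℂ := fun g => LinearMap.toMatrix' (ρ g)
  have hM : ∀ g, M g * B * (M g)ᵀ = B := fun g => hB g
  have hMv : ∀ g a, M g *ᵥ a = ρ g a := fun g a => LinearMap.toMatrix'_mulVec _ _
  have hMJ : ∀ g, (M g)ᵀ * J * M g = J := fun g => by
    have e1 : M g * (B * (M g)ᵀ * J) = 1 := by
      rw [← Matrix.mul_assoc, ← Matrix.mul_assoc, hM, hBJ]
    have e2 : B * (M g)ᵀ * J * M g = 1 := mul_eq_one_comm.1 e1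
    calc (M g)ᵀ * J * M g = J * (B * (M g)ᵀ * J * M g) := by
          simp only [← Matrix.mul_assoc, hJB, Matrix.one_mul]
      _ = J := by rw [e2, Matrix.mul_one]
  let β : (Fin n → ℂ) →ₗ[ℂ] (Fin n → ℂ) →ₗ[ℂ] ℂ := Matrix.toBilin' J
  have hβ : ∀ a b, β a b = a ⬝ᵥ J *ᵥ b := fun a b => Matrix.toBilin'_apply' J a b
  have hβc : ∀ a b, β a b = β b a := fun a b => by
    rw [hβ, hβ, dotProduct_mulVec, ← hJs, vecMul_transpose, hJs, dotProduct_comm]
  have hβi : ∀ g a b, β (ρ g a) (ρ g b) = β a b := fun g a b => by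
    rw [hβ, hβ, ← hMv, ← hMv, mulVec_mulVec, dotProduct_comm, dotProduct_mulVec,
      ← mulVec_transpose, mulVec_mulVec, ← Matrix.mul_assoc, hMJ, dotProduct_comm]
  have hβn : Function.Injective β := by
    rw [injective_iff_map_eq_zero]
    intro u hu
    funext i
    have := LinearMap.congr_fun hu (B *ᵥ Pi.single i 1)
    rw [hβ, mulVec_mulVec, hJB, one_mulVec] at this
    simpa using this
  have hext : ∀ g u v, (∀ b, β u (ρ g b) = β v (ρ g b)) → u = v := fun g u v h =>
    hβn (LinearMap.ext fun b => by simpa using h (ρ g⁻¹ b))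
  rw [inner_char_eq_finrank, Nat.cast_ne_zero] at h2
  have : Nontrivial (Representation.IntertwiningMap (H15.formRep ρ) ρ) :=
    Module.nontrivial_of_finrank_pos (R := ℂ) (Nat.pos_of_ne_zero h2)
  obtain ⟨f, hf⟩ := exists_ne (0 : Representation.IntertwiningMap (H15.formRep ρ) ρ)
  let m : (Fin n → ℂ) →ₗ[ℂ] (Fin n → ℂ) →ₗ[ℂ] (Fin n → ℂ) :=
    LinearMap.mk₂ ℂ (fun a b => f.toLinearMap (vecMulVec a b))
      (fun _ _ _ => by rw [add_vecMulVec, map_add]) (fun _ _ _ => by rw [smul_vecMulVec, map_smul])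
      (fun _ _ _ => by rw [vecMulVec_add, map_add]) (fun _ _ _ => by rw [vecMulVec_smul, map_smul])
  have hmi : ∀ g a b, ρ g (m a b) = m (ρ g a) (ρ g b) := fun g a b => by
    have := LinearMap.congr_fun (f.2 g) (vecMulVec a b)
    simp only [LinearMap.comp_apply, formRep_vecMulVec] at this
    exact this.symm
  have hm0 : m ≠ 0 := fun h => hf (Representation.IntertwiningMap.ext
    (ext_vecMulVec fun a b => LinearMap.congr_fun (LinearMap.congr_fun h a) b))
  have hmc := symm_of_inner h0 m hmi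
  let S := (LinearMap.linearEquivOfInjective β hβn
    (Subspace.dual_finrank_eq (K := ℂ) (V := Fin n → ℂ)).symm).symm
  have hS : ∀ φ b, β (S φ) b = φ b := fun φ b =>
    LinearMap.congr_fun (S.symm_apply_apply φ) b
  let m' : (Fin n → ℂ) →ₗ[ℂ] (Fin n → ℂ) →ₗ[ℂ] (Fin n → ℂ) :=
    LinearMap.mk₂ ℂ (fun a c => S (β c ∘ₗ m a))
      (fun _ _ _ => by rw [map_add, LinearMap.comp_add, map_add])
      (fun _ _ _ => by rw [map_smul, LinearMap.comp_smul, map_smul])
      (fun _ _ _ => by rw [map_add, LinearMap.add_comp, map_add])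
      (fun _ _ _ => by rw [map_smul, LinearMap.smul_comp, map_smul])
  have hm' : ∀ a c b, β (m' a c) b = β c (m a b) := fun a c b => hS _ b
  have hm'c := symm_of_inner h0 m' fun g a c => hext g _ _ fun b => by
    rw [hβi, hm', hm', ← hmi, hβi]
  have hass : ∀ a b c, β (m a b) c = β a (m b c) := fun a b c => by
    rw [hβc, ← hm', hm'c, hm', hmc c b]
  let L : (Fin n → ℂ) → Matrix (Fin n) (Fin n) ℂ := fun a => LinearMap.toMatrix' (m a)
  have hL : ∀ a b, L a *ᵥ b = m a b := fun a b => LinearMap.toMatrix'_mulVec _ _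
  have hLJ : ∀ a, (L a)ᵀ * J = J * L a := fun a => by
    refine Matrix.toBilin'.injective (LinearMap.ext fun b => LinearMap.ext fun c => ?_)
    rw [Matrix.toBilin'_apply', Matrix.toBilin'_apply', ← mulVec_mulVec, ← mulVec_mulVec, hL,
      dotProduct_mulVec, vecMul_transpose, hL, ← hβ, ← hβ, hmc a b, hass]
  have hLB : ∀ a, B * (L a)ᵀ = L a * B := fun a => by
    calc B * (L a)ᵀ = B * ((L a)ᵀ * J) * B := by
          simp only [Matrix.mul_assoc, hJB, Matrix.mul_one]
      _ = L a * B := by rw [hLJ, ← Matrix.mul_assoc, hBJ, Matrix.one_mul]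
  have hLM : ∀ g a, L (ρ g a) * M g = M g * L a := fun g a =>
    Matrix.toLin'.injective (LinearMap.ext fun b => by
      rw [toLin'_apply, toLin'_apply, ← mulVec_mulVec, ← mulVec_mulVec, hMv, hL, hL, hMv, hmi])
  let C : (Fin n → ℂ) →ₗ[ℂ] (Fin n → ℂ) →ₗ[ℂ] Matrix (Fin n) (Fin n) ℂ :=
    LinearMap.mk₂ ℂ (fun a c => (L a * L c - L c * L a) * B)
      (fun _ _ _ => by simp only [L, map_add]; noncomm_ring)
      (fun _ _ _ => by simp only [L, map_smul, Matrix.smul_mul, Matrix.mul_smul, ← smul_sub])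
      (fun _ _ _ => by simp only [L, map_add]; noncomm_ring)
      (fun _ _ _ => by simp only [L, map_smul, Matrix.smul_mul, Matrix.mul_smul, ← smul_sub])
  have hC : ∀ a c, C a c = (L a * L c - L c * L a) * B := fun _ _ => rfl
  obtain ⟨κ, hκ⟩ := exists_kappa h1 C (fun g a c => by
      have e : ∀ a c, L (ρ g a) * L (ρ g c) * (M g * B * (M g)ᵀ) =
          M g * (L a * L c * B) * (M g)ᵀ := fun a c => by
        calc _ = L (ρ g a) * (L (ρ g c) * M g) * B * (M g)ᵀ := by simp only [Matrix.mul_assoc]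
          _ = L (ρ g a) * M g * L c * B * (M g)ᵀ := by rw [hLM]; simp only [Matrix.mul_assoc]
          _ = _ := by rw [hLM]; simp only [Matrix.mul_assoc]
      rw [hC, hC, H15.formRep_apply]
      conv_rhs => rw [← hM g, Matrix.sub_mul, e, e]
      rw [Matrix.sub_mul, Matrix.mul_sub, Matrix.sub_mul])
    (fun a c => by
      change _ᵀ = -_
      have e : ∀ a c, B * ((L c)ᵀ * (L a)ᵀ) = L c * L a * B := fun a c => by
        rw [← Matrix.mul_assoc, hLB, Matrix.mul_assoc, hLB, Matrix.mul_assoc]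
      rw [hC, transpose_mul, hBs, transpose_sub, transpose_mul, transpose_mul, Matrix.mul_sub,
        e, e, ← Matrix.sub_mul, ← Matrix.neg_mul, neg_sub])
  refine ⟨⟨m, β, -(κ / 2), hmc, hβc, hass, fun a c x => ?_, hmi, hβi, hm0, fun h => ?_⟩⟩
  · have e := congrArg (· *ᵥ (J *ᵥ x)) (hκ a c)
    simp only [hC, sub_mulVec, smul_mulVec, vecMulVec_mulVec, ← mulVec_mulVec, Matrix.sub_mul,
      op_smul_eq_smul, ← hβ] at e
    rw [mulVec_mulVec x B J, hBJ, one_mulVec] at e
    simp only [hL] at e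
    linear_combination (norm := module) (2⁻¹ : ℂ) • e
  · have := nontrivial_of_isIrreducible ρ
    obtain ⟨u, hu⟩ := exists_ne (0 : Fin n → ℂ)
    exact hu (hβn (by rw [h]; rfl))

end Mat

/-- If `χ ≠ 1` is irreducible of real type, `Λ²χ` is irreducible and different from `χ` and `χ`
is a constituent of `χ²`, then `1 + χ` is a permutation character. -/
theorem exists_perm [Fintype G] {χ : G → ℂ} (hχ : IsIrrCharacter G χ) (hne : χ ≠ fun _ => 1)
    (hfs : H19.fs χ = 1) (hΛ : IsIrrCharacter G fun g => (χ g * χ g - χ (g * g)) / 2)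
    (hΛχ : χ ≠ fun g => (χ g * χ g - χ (g * g)) / 2)
    (h2 : classInner χ (fun g => χ g * χ g) ≠ 0) :
    ∃ (Ω : Type) (_ : Finite Ω) (_ : MulAction G Ω),
      ∀ g, (Nat.card (fixedBy Ω g) : ℂ) = 1 + χ g := by
  have hs := H11.sum_irr_eq_zero hχ hne
  obtain ⟨n, ρ, hρ, rfl⟩ := hχ
  obtain ⟨D⟩ := nonempty_data hρ hfs
    (by rw [skewRep_character]; exact inner_irr_of_ne ⟨n, ρ, hρ, rfl⟩ hΛ hΛχ)
    (by rw [skewRep_character]; exact inner_irr_self hΛ)
    (by rw [funext (H15.formRep_character ρ)]; exact h2)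
  refine D.exists_action hρ fun v => ?_
  have : Invertible (Nat.card G : ℂ) := invertibleOfNonzero (H11.card_ne_zero G)
  have h3 := ρ.card_inv_mul_sum_char_eq_finrank
  rw [hs, mul_zero, eq_comm, Nat.cast_eq_zero, Submodule.finrank_eq_zero] at h3
  have h4 : ∑ g, ρ g v ∈ ρ.invariants := fun h => by
    rw [map_sum]
    exact Fintype.sum_equiv (Equiv.mulLeft h) _ _ fun g => by simp
  rwa [h3] at h4

end Cfsg.Agent.H13.AlgPerm
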