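import Mathlib
import Cfsg.Agent.H13.M12A
import Cfsg.Agent.H13.M11Rec

/-! Simple groups of order `95040`: the elements of order `5` and `10`. -/

namespace Cfsg.Agent.H13.M12

open Cfsg Cfsg.Agent.H58 Cfsg.Agent.H13.BrTools Cfsg.Agent.H13.ChTools MulAction
open scoped ComplexConjugate

attribute [local instance] M11.fact11 M11.fact5

section General
variable {G : Type*} [Group G] [Fintype G]

theorem exists_xy {P : Sylow 11 G} (hP : Nat.card P = 11) (hS : SelfCent 11 G)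
    (hN : 5 ∣ Nat.card (Subgroup.normalizer ((P : Subgroup G) : Set G))) :
    ∃ x ∈ (P : Subgroup G), ∃ y ∈ Subgroup.normalizer ((P : Subgroup G) : Set G),
      orderOf x = 11 ∧ orderOf y = 5 ∧ y * x * y⁻¹ = x ^ 3 := by
  obtain ⟨x, hx, hx1⟩ := exists_mem_ne_one hP
  have hox := orderOf_eq_of_mem_of_card_prime (by norm_num) hP hx hx1
  obtain ⟨y, hy⟩ := exists_prime_orderOf_dvd_card' 5 hN
  rw [← Subgroup.orderOf_coe] at hy
  obtain ⟨k, hk, hyk⟩ := M11.exists_conj_eq_pow (by norm_num) hP hx hx1 y.2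
  have h5 := M11.conj_pow_iter hyk 5
  have e5 : (y : G) ^ 5 = 1 := hy ▸ pow_orderOf_eq_one (y : G)
  rw [e5, one_mul, inv_one, mul_one] at h5
  have h6 : 1 ≡ k ^ 5 [MOD 11] := by
    rw [← hox, ← pow_eq_pow_iff_modEq, pow_one]; exact h5
  have h7 : k ≠ 1 := by
    rintro rfl
    have := hS.mem_of_commute P hx hx1 (g := y)
      (by rw [pow_one, mul_inv_eq_iff_eq_mul] at hyk; exact hyk.symm)
    have h8 := Subgroup.orderOf_dvd_natCard _ this
    rw [hP, hy] at h8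
    omega
  have key : ∀ k < 11, 1 ≡ k ^ 5 [MOD 11] → k ≠ 1 → ∃ i < 5, Nat.Coprime 5 i ∧
      k ^ i ≡ 3 [MOD 11] := by decide
  obtain ⟨i, -, hi, hik⟩ := key k hk h6 h7
  refine ⟨x, hx, y ^ i, Subgroup.pow_mem _ y.2 i, hox, ?_, ?_⟩
  · rw [Nat.Coprime.orderOf_pow (by rwa [hy]), hy]
  · rw [M11.conj_pow_iter hyk, pow_eq_pow_iff_modEq, hox]; exact hik

variable {p : ℕ} [hp : Fact p.Prime]

omit [Fintype G] in
theorem isConj_of_full [Finite G] {P : Subgroup G} (hP : Nat.card P = p)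
    (hN : Nat.card (Subgroup.normalizer (P : Set G)) =
      Nat.card (Subgroup.centralizer (P : Set G)) * (p - 1))
    {x x' : G} (hx : x ∈ P) (hx1 : x ≠ 1) (hx' : x' ∈ P) (hx1' : x' ≠ 1) : IsConj x x' := by
  have := Fintype.ofFinite G
  have h := ncard_conj_mem x (P : Set G)
  have e : {g : G | g * x * g⁻¹ ∈ (P : Set G)} = (Subgroup.normalizer (P : Set G) : Set G) :=
    Set.ext fun g => ⟨mem_normalizer_of_conj hP hx hx1,
      fun hg => (Subgroup.mem_normalizer_iff.1 hg x).1 hx⟩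
  rw [e, centralizer_singleton_eq hP hx hx1, ← Nat.card_coe_set_eq, SetLike.coe_sort_coe, hN] at h
  have h1 := Nat.eq_of_mul_eq_mul_left Nat.card_pos h
  have h2 : {y | IsConj x y ∧ y ∈ (P : Set G)} = {y : G | y ≠ 1 ∧ y ∈ P} :=
    Set.eq_of_subset_of_ncard_le (fun y hy => ⟨fun e => hx1 (isConj_one_left.1 (e ▸ hy.1)), hy.2⟩)
      (by rw [ncard_subgroup_ne_one, hP, h1])
  exact (h2.ge ⟨hx1', hx'⟩).1

omit [Fintype G] hp in
theorem sgn1_val' {P : Subgroup G} {e : ℕ} (D : BrPre G p P e 1) {χ : IrrCharacter G}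
    (hχ : χ ∈ all D) {x y : G} (hx : x ∈ P) (hx1 : x ≠ 1)
    (hy : y ∈ Subgroup.centralizer (P : Set G)) (hyp : ¬ p ∣ orderOf y) :
    χ.1 (x * y) = sgn1 D χ := by
  unfold sgn1
  split_ifs with h
  · exact D.valX χ h x hx hx1 y hy hyp
  · have h1 := D.valY x hx hx1 y hy hyp
    obtain ⟨θ, hθ⟩ := Finset.card_eq_one.1 D.cardY
    have h2 := ((mem_all D).1 hχ).resolve_left h
    rw [hθ, Finset.mem_singleton] at h2
    rw [hθ, Finset.sum_singleton, ← h2] at h1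
    rw [h1]; push_cast; rfl

omit [Fintype G] in
theorem not_isConj_inv [Finite G] {P : Subgroup G} (hP : Nat.card P = p) (hp2 : p ≠ 2)
    (hodd : Odd (Nat.card (Subgroup.normalizer (P : Set G)))) {x : G} (hx : x ∈ P) (hx1 : x ≠ 1) :
    ¬ IsConj x x⁻¹ := fun h => by
  obtain ⟨g, hg⟩ := isConj_iff.1 h
  have hN := mem_normalizer_of_conj hP hx hx1 (hg ▸ P.inv_mem hx)
  obtain ⟨k, hk⟩ := hodd.of_dvd_nat (Subgroup.orderOf_dvd_natCard _ hN)
  have h1 : g ^ 2 * x * (g ^ 2)⁻¹ = x := by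
    calc g ^ 2 * x * (g ^ 2)⁻¹ = g * (g * x * g⁻¹) * g⁻¹ := by rw [sq]; group
      _ = (g * x * g⁻¹)⁻¹ := by
        conv_lhs => rw [hg]
        group
      _ = x := by rw [hg, inv_inv]
  have h2 : Commute (g ^ 2) x := mul_inv_eq_iff_eq_mul.1 h1
  have h3 : Commute g x := by
    have := h2.pow_left (k + 1)
    rwa [← pow_mul, show 2 * (k + 1) = orderOf g + 1 by omega, pow_succ, pow_orderOf_eq_one,
      one_mul] at this
  rw [h3.eq, mul_inv_cancel_right, eq_inv_iff_mul_eq_one, ← sq] at hg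
  have h4 := orderOf_dvd_of_pow_eq_one hg
  rw [orderOf_eq_of_mem_of_card_prime hp.out hP hx hx1] at h4
  exact hp2 ((Nat.prime_dvd_prime_iff_eq hp.out Nat.prime_two).1 h4)

end General

/-- the data obtained from the principal `11`-block -/
structure S1 (G : Type*) [Group G] where
  P : Sylow 11 G
  Q : Sylow 5 G
  x : G
  y : G
  c : G
  D : BrData G 11 P 5 2
  a : IrrCharacter G
  b : IrrCharacter G
  d : IrrCharacter G
  f : IrrCharacter G
  t : ℤ
  hx : x ∈ (P : Subgroup G)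
  hy : y ∈ (Q : Subgroup G)
  hyN : y ∈ Subgroup.normalizer ((P : Subgroup G) : Set G)
  hc : c ∈ Subgroup.centralizer ((Q : Subgroup G) : Set G)
  ox : orderOf x = 11
  oy : orderOf y = 5
  oc : orderOf c = 2
  hxy : y * x * y⁻¹ = x ^ 3
  memX : ∀ χ, χ ∈ D.X ↔ χ = H21.triv G ∨ χ = a ∨ χ = b ∨ χ = d ∨ χ = f
  sumX : ∀ {R : Type} [AddCommMonoid R] (F : IrrCharacter G → R),
    ∑ χ ∈ D.X, F χ = F (H21.triv G) + F a + F b + F d + F f
  da : charDegree a.1 = 45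
  db : charDegree b.1 = 54
  dd : charDegree d.1 = 120
  df : charDegree f.1 = 144
  dz : D.z = 16
  vY : ∀ θ ∈ D.Y, θ.1 c = t
  vc : (Nat.card (Subgroup.centralizer ({c} : Set G)) ≤ 240 ∧ (t = 4 ∨ t = -4) ∧
    a.1 c = (5 : ℤ) ∧ b.1 c = (6 : ℤ) ∧ f.1 c = t) ∨ b.1 c = (18 : ℤ)

variable {G : Type*} [Group G] [Fintype G] [IsSimpleGroup G]

theorem nonempty_S1 (hG : Nat.card G = 95040) : Nonempty (S1 G) := by
  obtain ⟨P⟩ : Nonempty (Sylow 11 G) := inferInstance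
  obtain ⟨hS, -, hN, -, ⟨D⟩⟩ := data11 hG P
  obtain ⟨x, hx, y, hyN, ox, oy, hxy⟩ := exists_xy (card11 hG P) hS (by rw [hN]; norm_num)
  obtain ⟨Q, hQ⟩ := (isPGroup_zpowers_of_orderOf_eq oy).exists_le_sylow
  have hy : y ∈ (Q : Subgroup G) := hQ (Subgroup.mem_zpowers y)
  obtain ⟨c, oc⟩ := exists_prime_orderOf_dvd_card' 2 (even_cent5 hG Q)
  rw [← Subgroup.orderOf_coe] at oc
  have h10 : 10 ∣ Nat.card (Subgroup.centralizer ({(c : G)} : Set G)) := by
    refine Nat.Coprime.mul_dvd_of_dvd_of_dvd (m := 5) (n := 2) (by norm_num) ?_ ?_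
    · exact oy.symm.dvd.trans (Subgroup.orderOf_dvd_natCard _
        (Subgroup.mem_centralizer_singleton_iff.2 (Subgroup.mem_centralizer_iff.1 c.2 y hy)))
    · exact oc.symm.dvd.trans
        (Subgroup.orderOf_dvd_natCard _ (Subgroup.mem_centralizer_singleton_iff.2 rfl))
  obtain ⟨a, b, d, f, α, β, γ, δ, t, h1, h2, ha, hb, -, hf, hY, h⟩ := chk_sound hG D oc chk10
    (mem_Zl hG D) (mem_list10 (cent_dvd hG hS Nat.prime_two (by norm_num) oc) h10)
  obtain ⟨hz, h⟩ := h.resolve_left (z_ne_six hG D)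
  simp only [List.cons.injEq, Prod.mk.injEq, and_true] at h
  rcases h with ⟨h3, h4, ⟨a1, rfl⟩, ⟨b1, rfl⟩, ⟨d1, -⟩, f1, rfl⟩ |
    ⟨⟨a1, -⟩, ⟨b1, rfl⟩, ⟨d1, -⟩, f1, -⟩
  · exact ⟨⟨P, Q, x, y, c, D, a, b, d, f, δ, hx, hy, hyN, c.2, ox, oy, oc, hxy, h1, h2, a1, b1, d1,
      f1, hz, hY, Or.inl ⟨h3, h4, ha, hb, hf⟩⟩⟩
  · exact ⟨⟨P, Q, x, y, c, D, a, b, d, f, t, hx, hy, hyN, c.2, ox, oy, oc, hxy, h1, h2, a1, b1, d1,
      f1, hz, hY, Or.inr hb⟩⟩

namespace S1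
variable (hG : Nat.card G = 95040) (S : S1 G)

omit [Fintype G] [IsSimpleGroup G] in
theorem degY {θ : IrrCharacter G} (h : θ ∈ S.D.Y) : charDegree θ.1 = 16 :=
  (S.D.degY θ h).trans S.dz

omit [Fintype G] [IsSimpleGroup G] in
theorem y1 : S.y ≠ 1 := fun e => by have := S.oy; rw [e, orderOf_one] at this; omega
omit [Fintype G] [IsSimpleGroup G] in
theorem c1 : S.c ≠ 1 := fun e => by have := S.oc; rw [e, orderOf_one] at this; omega
omit [Fintype G] [IsSimpleGroup G] in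
theorem x1 : S.x ≠ 1 := fun e => by have := S.ox; rw [e, orderOf_one] at this; omega

include hG

theorem cases (ψ : IrrCharacter G) : ψ = H21.triv G ∨ ψ = S.a ∨ ψ = S.b ∨ ψ = S.d ∨ ψ = S.f ∨
    ψ ∈ S.D.Y ∨ 11 ∣ charDegree ψ.1 := by
  by_cases h1 : ψ ∈ S.D.X
  · have := (S.memX ψ).1 h1; tauto
  by_cases h2 : ψ ∈ S.D.Y
  · tauto
  have : 11 ∣ charDegree ψ.1 := ⟨_, ((data11 hG S.P).1.fixDim_notMem S.D h1 h2).symm⟩
  tauto

theorem cases' (ψ : IrrCharacter G) : (ψ = H21.triv G ∧ charDegree ψ.1 = 1) ∨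
    (ψ = S.a ∧ charDegree ψ.1 = 45) ∨ (ψ = S.b ∧ charDegree ψ.1 = 54) ∨
    (ψ = S.d ∧ charDegree ψ.1 = 120) ∨ (ψ = S.f ∧ charDegree ψ.1 = 144) ∨
    (ψ ∈ S.D.Y ∧ charDegree ψ.1 = 16) ∨ 11 ∣ charDegree ψ.1 := by
  rcases S.cases hG ψ with h | h | h | h | h | h | h
  · exact Or.inl ⟨h, h ▸ H21.charDegree_one⟩
  · exact Or.inr (Or.inl ⟨h, h ▸ S.da⟩)
  · exact Or.inr (Or.inr (Or.inl ⟨h, h ▸ S.db⟩))
  · exact Or.inr (Or.inr (Or.inr (Or.inl ⟨h, h ▸ S.dd⟩)))
  · exact Or.inr (Or.inr (Or.inr (Or.inr (Or.inl ⟨h, h ▸ S.df⟩))))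
  · exact Or.inr (Or.inr (Or.inr (Or.inr (Or.inr (Or.inl ⟨h, S.degY h⟩)))))
  · exact Or.inr (Or.inr (Or.inr (Or.inr (Or.inr (Or.inr h)))))

theorem eq_b {ψ : IrrCharacter G} (h : charDegree ψ.1 = 54) : ψ = S.b := by
  rcases S.cases' hG ψ with h | h | h | h | h | h | h <;> first | exact h.1 | omega

theorem eq_f {ψ : IrrCharacter G} (h : charDegree ψ.1 = 144) : ψ = S.f := by
  rcases S.cases' hG ψ with h | h | h | h | h | h | h <;> first | exact h.1 | omega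

theorem mem_Y {ψ : IrrCharacter G} (h : charDegree ψ.1 = 16) : ψ ∈ S.D.Y := by
  rcases S.cases' hG ψ with h | h | h | h | h | h | h <;> first | exact h.1 | omega

omit [IsSimpleGroup G] in
theorem signs : S.D.sg S.a = 1 ∧ S.D.sg S.b = -1 ∧ S.D.sg S.d = -1 ∧ S.D.sg S.f = 1 ∧
    S.D.ε = 1 := by
  have hP := card11 hG S.P
  have h : ∀ χ ∈ S.D.X, (charDegree χ.1 % 11 = 1 → S.D.sg χ = 1) ∧
      (charDegree χ.1 % 11 = 10 → S.D.sg χ = -1) := fun χ hχ => by
    have := degX_mod S.D.toBrPre hP hχ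
    rcases S.D.sg_pm χ hχ with h | h <;> rw [h] at this ⊢ <;> omega
  refine ⟨(h _ ((S.memX _).2 (by simp))).1 (by rw [S.da]), (h _ ((S.memX _).2 (by simp))).2
    (by rw [S.db]), (h _ ((S.memX _).2 (by simp))).2 (by rw [S.dd]),
    (h _ ((S.memX _).2 (by simp))).1 (by rw [S.df]), ?_⟩
  have := z_mod S.D.toBrPre hP
  rw [S.dz] at this
  rcases S.D.eps_pm with h | h
  · exact h
  · rw [h] at this; omega

omit [IsSimpleGroup G] in
theorem van5 {ψ : IrrCharacter G} (h : 5 ∣ charDegree ψ.1) {g : G} (hg : 5 ∣ orderOf g) :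
    ψ.1 g = 0 := by
  obtain ⟨c, hc2⟩ := H21.deg_dvd_card ψ
  refine vanish_of_not_dvd ψ (r := 5) (by norm_num) hc2 (fun h' => ?_) hg
  have : 5 * 5 ∣ Nat.card G := hc2 ▸ Nat.mul_dvd_mul h h'
  rw [hG] at this
  norm_num at this

omit [IsSimpleGroup G] in
theorem van11 {ψ : IrrCharacter G} (h : 11 ∣ charDegree ψ.1) {g : G} (hg : 11 ∣ orderOf g) :
    ψ.1 g = 0 := by
  obtain ⟨c, hc2⟩ := H21.deg_dvd_card ψ
  refine vanish_of_not_dvd ψ (r := 11) (by norm_num) hc2 (fun h' => ?_) hg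
  have : 11 * 11 ∣ Nat.card G := hc2 ▸ Nat.mul_dvd_mul h h'
  rw [hG] at this
  norm_num at this

theorem ycheck : (Nat.card (Subgroup.centralizer ({S.y} : Set G)) = 10 ∨
    Nat.card (Subgroup.centralizer ({S.y} : Set G)) = 20) ∧ S.b.1 S.y = (-1 : ℤ) ∧
    S.f.1 S.y = (-1 : ℤ) ∧ ∀ θ ∈ S.D.Y, θ.1 S.y = (1 : ℤ) := by
  classical
  have hQ := card5 hG S.Q
  obtain ⟨α, hα⟩ := int_of_unique (χ := S.b) (fun ψ h => S.eq_b hG (h.trans S.db)) S.y
  obtain ⟨β, hβ⟩ := int_of_unique (χ := S.f) (fun ψ h => S.eq_f hG (h.trans S.df)) S.y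
  obtain ⟨sa, sb, sd, sf, se⟩ := S.signs hG
  have h5 : 5 ∣ orderOf S.y := S.oy.symm.dvd
  have ha : S.a.1 S.y = 0 := van5 hG (by rw [S.da]; norm_num) h5
  have hd : S.d.1 S.y = 0 := van5 hG (by rw [S.dd]; norm_num) h5
  have hY : ∀ θ ∈ S.D.Y, θ.1 S.y = (1 - α + β : ℤ) := fun θ hθ => by
    have := S.D.rel θ hθ S.y (by rw [S.oy]; norm_num)
    rw [S.sumX, S.D.sg_triv (card11 hG S.P), sa, sb, sd, sf, se, ha, hd, hα, hβ,
      H21.triv_apply] at this
    push_cast at this ⊢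
    linear_combination this
  have e5 : S.y ^ 5 ^ 1 = 1 := by rw [pow_one, ← S.oy, pow_orderOf_eq_one]
  have h1 := int_cong_deg (p := 5) (by norm_num) S.b e5 hα
  have h2 := int_cong_deg (p := 5) (by norm_num) S.f e5 hβ
  have h3 := dvd_index_mul S.b hα
  have h4 := dvd_index_mul S.f hβ
  obtain ⟨θ, hθ⟩ : S.D.Y.Nonempty := Finset.card_pos.1 (by rw [S.D.cardY]; norm_num)
  have h6 := dvd_index_mul θ (hY θ hθ)
  rw [S.db] at h1 h3
  rw [S.df] at h2 h4
  rw [S.degY hθ] at h6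
  have h7 := sum_sq_le (S.D.X ∪ S.D.Y) S.y (fun ψ => if ψ = H21.triv G then 1 else
    if ψ = S.b then α else if ψ = S.f then β else if ψ ∈ S.D.Y then 1 - α + β else 0)
    fun ψ hψ => by
      split_ifs with e1 e2 e3 e4
      · rw [e1, H21.triv_apply]; simp
      · rw [e2, hα]
      · rw [e3, hβ]
      · exact hY ψ e4
      · rcases (S.memX ψ).1 ((Finset.mem_union.1 hψ).resolve_right e4) with h | h | h | h | h <;>
          simp_all
  have ne : ∀ {χ ψ : IrrCharacter G} {m n : ℕ}, charDegree χ.1 = m → charDegree ψ.1 = n → m ≠ n →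
      χ ≠ ψ := fun h1 h2 h e => h (h1.symm.trans (e ▸ h2))
  have d1 : charDegree (H21.triv G).1 = 1 := H21.charDegree_one
  have nY : ∀ {χ : IrrCharacter G} {m : ℕ}, charDegree χ.1 = m → m ≠ 16 → χ ∉ S.D.Y :=
    fun h1 h2 h => h2 (h1.symm.trans (S.degY h))
  rw [Finset.sum_union (Finset.disjoint_left.2 S.D.disj), S.sumX,
    Finset.sum_congr (s₁ := S.D.Y) rfl fun ψ h => by
      rw [if_neg (ne (S.degY h) d1 (by norm_num)), if_neg (ne (S.degY h) S.db (by norm_num)),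
        if_neg (ne (S.degY h) S.df (by norm_num)), if_pos h], Finset.sum_const, S.D.cardY] at h7
  simp only [ne S.da d1 (by norm_num), ne S.db d1 (by norm_num), ne S.dd d1 (by norm_num),
    ne S.df d1 (by norm_num), ne S.da S.db (by norm_num), ne S.da S.df (by norm_num),
    ne S.dd S.db (by norm_num), ne S.dd S.df (by norm_num), ne S.df S.db (by norm_num),
    nY S.da (by norm_num), nY S.dd (by norm_num), if_true, if_false] at h7
  have hS := (data11 hG S.P).1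
  have h8 := cent_dvd hG hS (by norm_num) (by norm_num) S.oy
  have h10 : 10 ∣ Nat.card (Subgroup.centralizer ({S.y} : Set G)) := by
    refine Nat.Coprime.mul_dvd_of_dvd_of_dvd (m := 5) (n := 2) (by norm_num) ?_ ?_
    · exact S.oy ▸ Subgroup.orderOf_dvd_natCard _ (Subgroup.mem_centralizer_singleton_iff.2 rfl)
    · exact S.oc ▸ Subgroup.orderOf_dvd_natCard _ (Subgroup.mem_centralizer_singleton_iff.2
        (Subgroup.mem_centralizer_iff.1 S.hc _ S.hy).symm)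
  obtain ⟨e, t, he, h2e, het, -⟩ := exists_brData (commutator_eq_top (ncomm hG)) S.Q hQ
  have hi := index_centralizer_sylow S.Q
  have h9 := card_sylow_modEq_one 5 G
  rw [he, ← centralizer_singleton_eq hQ S.hy S.y1] at hi
  have h11 : (Subgroup.centralizer ({S.y} : Set G)).index =
      95040 / Nat.card (Subgroup.centralizer ({S.y} : Set G)) := by
    rw [← hG, ← (Subgroup.centralizer ({S.y} : Set G)).card_mul_index,
      Nat.mul_div_cancel_left _ Nat.card_pos]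
  have h12 := Nat.le_of_dvd (by norm_num) h8
  rw [h11] at h3 h4 h6 hi
  obtain ⟨A, rfl⟩ : ∃ A, α = 5 * A - 1 := ⟨(α + 1) / 5, by omega⟩
  obtain ⟨B, rfl⟩ : ∃ B, β = 5 * B - 1 := ⟨(β + 1) / 5, by omega⟩
  have hC := mem_list10 h8 h10
  generalize Nat.card (Subgroup.centralizer ({S.y} : Set G)) = C at *
  have h13 : (C : ℤ) ≤ 8640 := by exact_mod_cast h12
  have h14 := sq_nonneg (1 - (5 * A - 1) + (5 * B - 1))
  have h15 := sq_nonneg (5 * A - 1)
  have h16 := sq_nonneg (5 * B - 1)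
  simp only [nsmul_eq_mul] at h7
  push_cast at h7
  obtain ⟨h17, rfl, rfl⟩ := chk5 C hC (by
      have : e ≤ 4 := Nat.le_of_dvd (by norm_num) (Dvd.intro _ het)
      unfold Nat.ModEq at h9
      rw [hi]
      interval_cases e <;> omega)
    A (Finset.mem_Icc.2 ⟨by nlinarith, by nlinarith⟩) h3
    B (Finset.mem_Icc.2 ⟨by nlinarith, by nlinarith⟩) h4
    (by convert h6 using 2 <;> [rfl; ring]) (by linarith)
  exact ⟨h17, hα, hβ, hY⟩

theorem data5 : Nat.card (Subgroup.centralizer ((S.Q : Subgroup G) : Set G)) = 10 ∧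
    Nat.card (Subgroup.normalizer ((S.Q : Subgroup G) : Set G)) = 40 ∧
    Nonempty (BrData G 5 S.Q 4 1) := by
  have hQ := card5 hG S.Q
  obtain ⟨e, t, he, h2e, het, ⟨E⟩⟩ := exists_brData (commutator_eq_top (ncomm hG)) S.Q hQ
  have hi := index_centralizer_sylow S.Q
  have h9 := card_sylow_modEq_one 5 G
  have h1 := relIndex_mul_card_centralizer (S.Q : Subgroup G)
  have h2 := (Subgroup.centralizer ((S.Q : Subgroup G) : Set G)).card_mul_index
  have h3 := (S.ycheck hG).1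
  rw [centralizer_singleton_eq hQ S.hy S.y1] at h3
  rw [he] at hi h1
  rw [hG] at h2
  have h4 : e ≤ 4 := Nat.le_of_dvd (by norm_num) (Dvd.intro _ het)
  unfold Nat.ModEq at h9
  rcases h3 with h3 | h3
  · rw [h3, hi] at h2
    obtain rfl : e = 4 := by interval_cases e <;> omega
    obtain rfl : t = 1 := by omega
    exact ⟨h3, by omega, ⟨E⟩⟩
  exfalso
  have h5 : (Subgroup.centralizer ((S.Q : Subgroup G) : Set G)).index = 4752 := by
    rw [h3] at h2; omega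
  obtain rfl : e = 2 := by rw [h3, hi] at h2; interval_cases e <;> omega
  obtain rfl : t = 2 := by omega
  classical
  obtain ⟨χ, hχ⟩ := Finset.card_eq_one.1 (show (E.X.erase (H21.triv G)).card = 1 by
    rw [Finset.card_erase_of_mem E.triv_mem, E.cardX])
  obtain ⟨h6, h7⟩ := Finset.mem_erase.1 (hχ ▸ Finset.mem_singleton_self χ)
  have h8 := E.deg_eq_erase hQ (by norm_num)
  rw [hχ, Finset.sum_singleton] at h8
  obtain ⟨θ, hθ⟩ : E.Y.Nonempty := Finset.card_pos.1 (by rw [E.cardY]; norm_num)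
  have h10 := E.degX_dvd hQ h7
  have h11 := E.z_dvd hQ (by norm_num)
  rw [h5] at h10 h11
  rw [← E.degY θ hθ] at h8 h11
  have key : ∀ ψ : IrrCharacter G, ψ ≠ H21.triv G → charDegree ψ.1 ∣ 4752 →
      charDegree ψ.1 ∈ [11, 16, 22, 33, 44, 54, 66, 88, 99, 132, 144, 176, 198, 264, 297] := by
    intro ψ h0 hd
    have h12 := charDegree_sq_le ψ
    rw [hG] at h12
    have h13 : charDegree ψ.1 < 309 := by nlinarith
    have k2 : ∀ d ∈ List.range 309, d ∣ 4752 → 11 ∣ d →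
        d ∈ [11, 16, 22, 33, 44, 54, 66, 88, 99, 132, 144, 176, 198, 264, 297] := by
      decide +kernel
    rcases S.cases' hG ψ with h | h | h | h | h | h | h
    · exact absurd h.1 h0
    · rw [h.2] at hd; omega
    · rw [h.2]; simp
    · rw [h.2] at hd; omega
    · rw [h.2]; simp
    · rw [h.2]; simp
    · exact k2 _ (List.mem_range.2 h13) hd h
  have k1 := key χ h6 h10
  have k2 := key θ (E.ne_triv_of_mem_Y hθ) h11
  simp only [List.mem_cons, List.not_mem_nil, or_false] at k1 k2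
  rcases E.eps_pm with h | h <;> rcases E.sg_pm χ h7 with h' | h' <;> rw [h, h'] at h8 <;> omega

end S1

end Cfsg.Agent.H13.M12
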