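import Mathlib
import Cfsg.Agent.H13.M12B

/-! Simple groups of order `95040`: the characters not vanishing on elements of order `5`. -/

namespace Cfsg.Agent.H13.M12

open Cfsg Cfsg.Agent.H58 Cfsg.Agent.H13.BrTools Cfsg.Agent.H13.ChTools MulAction
open scoped ComplexConjugate

attribute [local instance] M11.fact11 M11.fact5

/-- the data of both principal blocks -/
structure S2 (G : Type*) [Group G] extends S1 G where
  E : BrData G 5 Q 4 1
  u : IrrCharacter G → ℤ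
  v : IrrCharacter G → ℤ
  hu : ∀ ψ : IrrCharacter G, ∀ g ∈ (Q : Subgroup G), g ≠ 1 → ψ.1 g = u ψ
  hv : ∀ ψ : IrrCharacter G, ψ.1 c = v ψ

variable {G : Type*} [Group G] [Fintype G] [IsSimpleGroup G]

theorem S1.conjQ (hG : Nat.card G = 95040) (S : S1 G) {g g' : G} (hg : g ∈ (S.Q : Subgroup G))
    (h1 : g ≠ 1) (hg' : g' ∈ (S.Q : Subgroup G)) (h1' : g' ≠ 1) : IsConj g g' :=
  isConj_of_full (card5 hG S.Q) (by rw [(S.data5 hG).1, (S.data5 hG).2.1]) hg h1 hg' h1'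

theorem nonempty_S2 (hG : Nat.card G = 95040) : Nonempty (S2 G) := by
  obtain ⟨S⟩ := nonempty_S1 hG
  obtain ⟨-, -, ⟨E⟩⟩ := S.data5 hG
  choose v hv using fun χ : IrrCharacter G =>
    H15.exists_int_apply_of_orderOf_eq_two (H11.irr_isCharacter χ) S.oc
  choose u hu using fun χ : IrrCharacter G =>
    H12.exists_int_of_forall_isConj_pow (H11.irr_isCharacter χ) S.y fun m hm =>
      S.conjQ hG S.hy S.y1 (Subgroup.pow_mem _ S.hy m) fun e => by
        have := orderOf_dvd_of_pow_eq_one e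
        rw [S.oy] at this
        exact absurd (Nat.eq_one_of_dvd_coprimes hm this (by rw [hG]; norm_num)) (by norm_num)
  refine ⟨⟨S, E, u, v, fun ψ g hg h1 => ?_, hv⟩⟩
  obtain ⟨k, rfl⟩ := isConj_iff.1 (S.conjQ hG S.hy S.y1 hg h1)
  rw [H11.isClassFunction_of_isCharacter (H11.irr_isCharacter ψ), hu]

namespace S2
variable (hG : Nat.card G = 95040) (S : S2 G)

/-- the principal `5`-block -/
noncomputable def B : Finset (IrrCharacter G) := all S.E.toBrPre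

omit [Fintype G] [IsSimpleGroup G] in
theorem cardB : S.B.card = 5 := card_all _

omit [Fintype G] [IsSimpleGroup G] in
theorem triv_B : H21.triv G ∈ S.B := (mem_all _).2 (Or.inl S.E.triv_mem)

omit [Fintype G] [IsSimpleGroup G] in
theorem sg_eq {ψ : IrrCharacter G} (h : ψ ∈ S.B) : sgn1 S.E.toBrPre ψ = S.u ψ := by
  have := (sgn1_val S.E.toBrPre h S.hy S.y1).symm.trans (S.hu ψ _ S.hy S.y1)
  exact_mod_cast this

omit [Fintype G] [IsSimpleGroup G] in
theorem u_B {ψ : IrrCharacter G} (h : ψ ∈ S.B) : S.u ψ = 1 ∨ S.u ψ = -1 :=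
  S.sg_eq h ▸ sgn1_pm _ _

omit [Fintype G] [IsSimpleGroup G] in
theorem val_B {ψ : IrrCharacter G} (h : ψ ∈ S.B) {g : G} (hg : g ∈ (S.Q : Subgroup G))
    (h1 : g ≠ 1) : ψ.1 (g * S.c) = S.u ψ := by
  rw [← S.sg_eq h]
  exact sgn1_val' _ h hg h1 S.hc (by rw [S.oc]; norm_num)

omit [Fintype G] [IsSimpleGroup G] in
theorem rel_B {g : G} (hg : ¬ 5 ∣ orderOf g) : ∑ ψ ∈ S.B, (S.u ψ : ℂ) * ψ.1 g = 0 := by
  rw [← sgn1_rel S.E.toBrPre hg]
  exact Finset.sum_congr rfl fun ψ h => by rw [S.sg_eq h]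

omit [Fintype G] [IsSimpleGroup G] in
theorem comm {g : G} (hg : g ∈ (S.Q : Subgroup G)) : Commute g S.c :=
  Subgroup.mem_centralizer_iff.1 S.hc g hg

omit [Fintype G] [IsSimpleGroup G] in
theorem c2 : S.c ^ 2 = 1 := S.oc ▸ pow_orderOf_eq_one S.c

omit [Fintype G] [IsSimpleGroup G] in
theorem y5 : S.y ^ 5 = 1 := S.oy ▸ pow_orderOf_eq_one S.y

omit [Fintype G] [IsSimpleGroup G] in
theorem u_triv : S.u (H21.triv G) = 1 := by
  have := S.hu (H21.triv G) _ S.hy S.y1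
  rw [H21.triv_apply] at this
  exact_mod_cast this.symm

omit [Fintype G] [IsSimpleGroup G] in
theorem v_triv : S.v (H21.triv G) = 1 := by
  have := S.hv (H21.triv G)
  rw [H21.triv_apply] at this
  exact_mod_cast this.symm

omit [IsSimpleGroup G] in
theorem u_mod (ψ : IrrCharacter G) : (5 : ℤ) ∣ S.u ψ - charDegree ψ.1 :=
  int_cong_deg (p := 5) (k := 1) (by norm_num) ψ S.y5 (S.hu ψ _ S.hy S.y1)

include hG

omit [IsSimpleGroup G] in
theorem o10 {g : G} (hg : g ∈ (S.Q : Subgroup G)) (h1 : g ≠ 1) : orderOf (g * S.c) = 10 := by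
  have := orderOf_eq_of_mem_of_card_prime (by norm_num) (card5 hG S.Q) hg h1
  rw [(S.comm hg).orderOf_mul_eq_mul_orderOf_of_coprime (by rw [this, S.oc]; norm_num), this, S.oc]

theorem centQ {g : G} (hg : g ∈ (S.Q : Subgroup G)) (h1 : g ≠ 1) :
    Subgroup.centralizer ({g} : Set G) = Subgroup.zpowers (S.y * S.c) := by
  rw [centralizer_singleton_eq (card5 hG S.Q) hg h1]
  refine (Subgroup.eq_of_le_of_card_ge (Subgroup.zpowers_le_of_mem (Subgroup.mul_mem _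
    (le_centralizer_of_card_prime (card5 hG S.Q) S.hy) S.hc)) ?_).symm
  rw [(S.data5 hG).1, Nat.card_zpowers, S.o10 hG S.hy S.y1]

theorem cardC {g : G} (hg : g ∈ (S.Q : Subgroup G)) (h1 : g ≠ 1) :
    Nat.card (Subgroup.centralizer ({g} : Set G)) = 10 := by
  rw [S.centQ hG hg h1, Nat.card_zpowers, S.o10 hG S.hy S.y1]

omit [IsSimpleGroup G] in
theorem pow6 {g : G} (hg : g ∈ (S.Q : Subgroup G)) (h1 : g ≠ 1) : (g * S.c) ^ 6 = g := by
  have := orderOf_eq_of_mem_of_card_prime (by norm_num) (card5 hG S.Q) hg h1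
  rw [(S.comm hg).mul_pow, show 6 = 2 * 3 from rfl, pow_mul S.c, S.c2, one_pow, mul_one,
    show 2 * 3 = orderOf g + 1 by rw [this], pow_succ, pow_orderOf_eq_one, one_mul]

theorem val_nB {ψ : IrrCharacter G} (h : ψ ∉ S.B) {g : G} (hg : g ∈ (S.Q : Subgroup G))
    (h1 : g ≠ 1) : ψ.1 (g * S.c) = -S.u ψ := by
  classical
  have := Fintype.ofFinite (IrrCharacter G)
  have o1 := H11.sum_norm_sq_apply g
  have o2 := H11.sum_norm_sq_apply (g * S.c)
  have o3 := H11.column_orthogonality_of_not_isConj (g := g) (h := g * S.c) fun hc => by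
    obtain ⟨k, hk⟩ := isConj_iff.1 hc
    have := S.o10 hG hg h1
    rw [← hk, H21.orderOf_conj,
      orderOf_eq_of_mem_of_card_prime (by norm_num) (card5 hG S.Q) hg h1] at this
    omega
  have h2 : Nat.card (Subgroup.centralizer ({g * S.c} : Set G)) ≤ 10 := by
    rw [← S.cardC hG hg h1]
    refine Subgroup.card_le_of_le fun k hk => Subgroup.mem_centralizer_singleton_iff.2 ?_
    have : Commute k (g * S.c) := Subgroup.mem_centralizer_singleton_iff.1 hk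
    have := this.pow_right 6
    rwa [S.pow6 hG hg h1] at this
  rw [S.cardC hG hg h1] at o1
  have h3 : ∑ χ : IrrCharacter G, Complex.normSq (χ.1 g + χ.1 (g * S.c)) ≤ 20 := by
    simp only [Complex.normSq_add, Finset.sum_add_distrib, ← Finset.mul_sum, ← Complex.re_sum, o3]
    simp only [Complex.normSq_eq_norm_sq, o1, o2]
    have : (Nat.card (Subgroup.centralizer ({g * S.c} : Set G)) : ℝ) ≤ 10 := by exact_mod_cast h2
    simp only [Complex.zero_re]
    push_cast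
    linarith
  rw [← Finset.sum_add_sum_compl S.B, Finset.sum_congr (s₁ := S.B) rfl (g := fun _ => 4)
    fun χ hχ => by
      rw [S.val_B hχ hg h1, S.hu χ g hg h1]
      rcases S.u_B hχ with h | h <;> rw [h] <;> norm_num [Complex.normSq_apply],
    Finset.sum_const, S.cardB] at h3
  have h4 := Finset.single_le_sum (f := fun χ : IrrCharacter G =>
    Complex.normSq (χ.1 g + χ.1 (g * S.c))) (fun _ _ => Complex.normSq_nonneg _)
    (Finset.mem_compl.2 h)
  have h5 : Complex.normSq (ψ.1 g + ψ.1 (g * S.c)) = 0 :=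
    le_antisymm (by norm_num at h3; linarith) (Complex.normSq_nonneg _)
  rw [Complex.normSq_eq_zero, S.hu ψ g hg h1] at h5
  linear_combination h5

omit [IsSimpleGroup G] hG in
theorem v_mod_B {ψ : IrrCharacter G} (h : ψ ∈ S.B) : (5 : ℤ) ∣ S.u ψ - S.v ψ :=
  int_cong (p := 5) (k := 1) (by norm_num) (H11.irr_isCharacter ψ) S.y5 (S.comm S.hy)
    (S.val_B h S.hy S.y1) (S.hv ψ)

theorem v_mod_nB {ψ : IrrCharacter G} (h : ψ ∉ S.B) : (5 : ℤ) ∣ -S.u ψ - S.v ψ :=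
  int_cong (p := 5) (k := 1) (by norm_num) (H11.irr_isCharacter ψ) S.y5 (S.comm S.hy)
    (by rw [S.val_nB hG h S.hy S.y1]; push_cast; rfl) (S.hv ψ)

theorem v_mod4 (ψ : IrrCharacter G) : (4 : ℤ) ∣ charDegree ψ.1 - S.v ψ :=
  four_dvd (commutator_eq_top (ncomm hG)) ψ S.oc (S.hv ψ)

theorem v_lt {ψ : IrrCharacter G} (h : ψ ≠ H21.triv G) : |S.v ψ| < charDegree ψ.1 :=
  abs_lt_deg (ncomm hG) h S.c1 (S.hv ψ)

theorem u_b : S.u S.b = -1 := by
  exact_mod_cast (S.hu _ _ S.hy S.y1).symm.trans (S.ycheck hG).2.1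

theorem u_f : S.u S.f = -1 := by
  exact_mod_cast (S.hu _ _ S.hy S.y1).symm.trans (S.ycheck hG).2.2.1

theorem u_Y {θ : IrrCharacter G} (h : θ ∈ S.D.Y) : S.u θ = 1 := by
  exact_mod_cast (S.hu _ _ S.hy S.y1).symm.trans ((S.ycheck hG).2.2.2 θ h)

omit [IsSimpleGroup G] in
theorem u_zero {ψ : IrrCharacter G} (h : 5 ∣ charDegree ψ.1) : S.u ψ = 0 := by
  exact_mod_cast (S.hu _ _ S.hy S.y1).symm.trans (S1.van5 hG h S.oy.symm.dvd)

theorem facts : S.b ∉ S.B ∧ Nat.card (Subgroup.centralizer ({S.c} : Set G)) ≤ 240 ∧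
    S.v S.a = 5 ∧ S.v S.b = 6 ∧ S.v S.f = S.t ∧ (∀ θ ∈ S.D.Y, S.v θ = S.t) ∧
    ((S.t = 4 ∧ S.f ∈ S.B ∧ ∀ θ ∈ S.D.Y, θ ∉ S.B) ∨
      (S.t = -4 ∧ S.f ∉ S.B ∧ ∀ θ ∈ S.D.Y, θ ∈ S.B)) := by
  have hb := S.u_b hG
  have hf := S.u_f hG
  have hY : ∀ θ ∈ S.D.Y, S.v θ = S.t := fun θ h => by
    exact_mod_cast (S.hv θ).symm.trans (S.vY θ h)
  rcases S.vc with ⟨h1, h2, h3, h4, h5⟩ | h
  · have a1 : S.v S.a = 5 := by exact_mod_cast (S.hv _).symm.trans h3
    have a2 : S.v S.b = 6 := by exact_mod_cast (S.hv _).symm.trans h4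
    have a3 : S.v S.f = S.t := by exact_mod_cast (S.hv _).symm.trans h5
    refine ⟨fun h => by have := S.v_mod_B h; omega, h1, a1, a2, a3, hY, ?_⟩
    rcases h2 with h2 | h2
    · refine Or.inl ⟨h2, by_contra fun h => by have := S.v_mod_nB hG h; omega, fun θ hθ h => ?_⟩
      have := S.v_mod_B h
      have := hY θ hθ
      have := S.u_Y hG hθ
      omega
    · refine Or.inr ⟨h2, fun h => by have := S.v_mod_B h; omega, fun θ hθ => by_contra fun h => ?_⟩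
      have := S.v_mod_nB hG h
      have := hY θ hθ
      have := S.u_Y hG hθ
      omega
  · have a2 : S.v S.b = 18 := by exact_mod_cast (S.hv _).symm.trans h
    exfalso
    by_cases h : S.b ∈ S.B
    · have := S.v_mod_B h; omega
    · have := S.v_mod_nB hG h; omega

theorem exists_s : ∃ s : G, s * s = 1 ∧ s * (S.y * S.c) * s⁻¹ = (S.y * S.c)⁻¹ := by
  have hy2 : S.y ^ 2 ≠ 1 := fun e => by
    have := orderOf_dvd_of_pow_eq_one e; rw [S.oy] at this; omega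
  obtain ⟨g, hg⟩ := isConj_iff.1 (S.conjQ hG S.hy S.y1 (Subgroup.pow_mem _ S.hy 2) hy2)
  have hgN := mem_normalizer_of_conj (card5 hG S.Q) S.hy S.y1 (hg ▸ Subgroup.pow_mem _ S.hy 2)
  have hpw : ∀ a b : ℕ, a ≡ b [MOD 5] → S.y ^ a = S.y ^ b := fun a b h =>
    pow_eq_pow_iff_modEq.2 (S.oy ▸ h)
  set w := g ^ 5 with hw
  have h8 : w ^ 8 = 1 := by
    rw [hw, ← pow_mul]
    have := Subgroup.orderOf_dvd_natCard _ hgN
    rw [(S.data5 hG).2.1] at this
    exact orderOf_dvd_iff_pow_eq_one.1 this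
  have hwy : w * S.y * w⁻¹ = S.y ^ 2 := (M11.conj_pow_iter hg 5).trans (hpw _ _ (by decide))
  have hcm : S.c ∈ Subgroup.zpowers (S.y * S.c) :=
    S.centQ hG S.hy S.y1 ▸ Subgroup.mem_centralizer_singleton_iff.2 (S.comm S.hy).symm
  have hwc : w * S.c * w⁻¹ = S.c := by
    refine H20.invol_unique ?_ hcm (by rw [H21.orderOf_conj, S.oc]) S.oc
    rw [← S.centQ hG (Subgroup.pow_mem _ S.hy 2) hy2, ← hwy,
      Subgroup.mem_centralizer_singleton_iff]
    calc w * S.c * w⁻¹ * (w * S.y * w⁻¹) = w * (S.c * S.y) * w⁻¹ := by group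
      _ = _ := by rw [← (S.comm S.hy).eq]; group
  have h4 : w ^ 4 = 1 := by
    by_contra h4
    have h44 : orderOf (w ^ 4) = 2 :=
      H20.orderOf_two_of_mul_self (by rw [← pow_add]; exact h8) h4
    have h4c : w ^ 4 = S.c := by
      refine H20.invol_unique ?_ hcm h44 S.oc
      rw [← S.centQ hG S.hy S.y1, Subgroup.mem_centralizer_singleton_iff, ← mul_inv_eq_iff_eq_mul,
        M11.conj_pow_iter hwy 4]
      exact (hpw _ _ (by decide)).trans (pow_one _)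
    have ho : orderOf w = 8 :=
      have : Fact (Nat.Prime 2) := ⟨Nat.prime_two⟩
      orderOf_eq_prime_pow (p := 2) (n := 2) h4 h8
    have hζ := Complex.isPrimitiveRoot_exp 8 (by norm_num)
    set ζ := Complex.exp (2 * Real.pi * Complex.I / (8 : ℕ))
    have hζ4 : ζ ^ 4 = -1 := (hζ.pow (by norm_num) (show 8 = 4 * 2 from rfl)).eq_neg_one_of_two_right
    obtain ⟨m, hm⟩ := exists_mult (H11.irr_isCharacter S.f) w (ζ := ζ) (ho ▸ hζ.pow_eq_one)
    have hst : ∀ (k : ℕ) (x : G), k.Coprime 95040 → S.f.1 (x ^ k) = S.f.1 x := fun k x hk => by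
      rw [← H19.powIrr_apply (hG ▸ hk), S.eq_f hG ((H19.charDegree_powIrr _ _).trans S.df)]
    have hp : ∀ a b : ℕ, a ≡ b [MOD 8] → w ^ a = w ^ b := fun a b h =>
      pow_eq_pow_iff_modEq.2 (ho ▸ h)
    have e3 : S.f.1 (w ^ 3) = S.f.1 w := by
      rw [hp 3 19 (by decide), hst 19 w (by norm_num)]
    have e5 : S.f.1 (w ^ 5) = S.f.1 w := by
      rw [hp 5 13 (by decide), hst 13 w (by norm_num)]
    have e7 : S.f.1 (w ^ 7) = S.f.1 w := hst 7 w (by norm_num)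
    have e6 : S.f.1 (w ^ 6) = S.f.1 (w ^ 2) := by
      rw [hp 6 (2 * 7) (by decide), pow_mul, hst 7 _ (by norm_num)]
    obtain ⟨-, -, -, -, h5, -, h6⟩ := S.facts hG
    simp only [ho, Finset.sum_range_succ, Finset.range_zero, Finset.sum_empty, pow_zero, pow_one,
      e3, e5, e6, e7, h4c, S.hv, h5, ← H21.cast_deg, S.df] at hm
    have h7 : ((144 - S.t : ℤ) : ℂ) = ((8 * m : ℤ) : ℂ) := by
      push_cast at hm ⊢
      linear_combination hm - (S.f.1 w * (ζ + ζ ^ 3) + S.f.1 (w ^ 2) * ζ ^ 2 + S.t) * hζ4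
    have h9 : 144 - S.t = 8 * m := by exact_mod_cast h7
    omega
  refine ⟨w ^ 2, by rw [← pow_add]; exact h4, ?_⟩
  have e1 : w ^ 2 * S.c * (w ^ 2)⁻¹ = S.c := by
    calc _ = w * (w * S.c * w⁻¹) * w⁻¹ := by rw [sq]; group
      _ = _ := by rw [hwc, hwc]
  calc _ = (w ^ 2 * S.y * (w ^ 2)⁻¹) * (w ^ 2 * S.c * (w ^ 2)⁻¹) := by group
    _ = _ := by
      rw [e1, M11.conj_pow_iter hwy 2, eq_inv_iff_mul_eq_one, mul_assoc, ← mul_assoc S.c,
        ← (S.comm S.hy).eq, mul_assoc, ← sq, S.c2, mul_one, ← pow_succ]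
      exact S.y5

theorem fs_ne {ψ : IrrCharacter G} (h : ψ ∉ S.B) (hu : S.u ψ = 1 ∨ S.u ψ = -1) :
    H19.fs ψ.1 ≠ -1 := fun hfs => by
  obtain ⟨s, hs, hsg⟩ := S.exists_s hG
  have ho := S.o10 hG S.hy S.y1
  have hη := Complex.isPrimitiveRoot_exp 5 (by norm_num)
  set η := Complex.exp (2 * Real.pi * Complex.I / (5 : ℕ))
  have h5 := hη.pow_eq_one
  have h0 := hη.geom_sum_eq_zero (by norm_num)
  obtain ⟨m, hm⟩ := exists_mult_even ψ.2 hfs hs hsg (ζ := -η)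
    (by rw [ho]; linear_combination (η ^ 5 + 1) * h5)
  have hn : ∀ k : ℕ, ¬ 5 ∣ k → S.y ^ k ≠ 1 := fun k hk e =>
    hk (S.oy ▸ orderOf_dvd_of_pow_eq_one e)
  have ev : ∀ k : ℕ, ¬ 5 ∣ 2 * k → ψ.1 ((S.y * S.c) ^ (2 * k)) = S.u ψ := fun k hk => by
    rw [(S.comm S.hy).mul_pow, pow_mul S.c, S.c2, one_pow, mul_one]
    exact S.hu ψ _ (Subgroup.pow_mem _ S.hy _) (hn _ hk)
  have od : ∀ k : ℕ, ¬ 5 ∣ 2 * k + 1 → ψ.1 ((S.y * S.c) ^ (2 * k + 1)) = -S.u ψ := fun k hk => by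
    rw [(S.comm S.hy).mul_pow, pow_succ S.c, pow_mul S.c, S.c2, one_pow, one_mul]
    exact S.val_nB hG h (Subgroup.pow_mem _ S.hy _) (hn _ hk)
  have e5 : ψ.1 ((S.y * S.c) ^ 5) = S.v ψ := by
    rw [(S.comm S.hy).mul_pow, S.y5, one_mul, show 5 = 2 * 2 + 1 from rfl, pow_succ, pow_mul,
      S.c2, one_pow, one_mul, S.hv]
  have e1 := od 0 (by norm_num)
  have e3 := od 1 (by norm_num)
  have e7 := od 3 (by norm_num)
  have e9 := od 4 (by norm_num)
  have e2 := ev 1 (by norm_num)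
  have e4 := ev 2 (by norm_num)
  have e6 := ev 3 (by norm_num)
  have e8 := ev 4 (by norm_num)
  simp only [Nat.reduceMul, Nat.reduceAdd] at e1 e2 e3 e4 e6 e7 e8 e9
  simp only [ho, Finset.sum_range_succ, Finset.range_zero, Finset.sum_empty, pow_zero,
    e1, e2, e3, e4, e5, e6, e7, e8, e9, ← H21.cast_deg] at hm h0
  have h7 : ((charDegree ψ.1 - S.v ψ - 2 * S.u ψ : ℤ) : ℂ) = ((20 * m : ℤ) : ℂ) := by
    push_cast at hm ⊢
    linear_combination hm - 2 * S.u ψ * h0 + (S.v ψ - S.u ψ * (η + η ^ 2 + η ^ 3 + η ^ 4)) * h5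
  have h9 : charDegree ψ.1 - S.v ψ - 2 * S.u ψ = 20 * m := by exact_mod_cast h7
  have := S.v_mod4 hG ψ
  omega

end S2

end Cfsg.Agent.H13.M12
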