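import Mathlib
import Cfsg.Agent.H13.M12C
import Cfsg.Agent.H13.AlgPerm

/-! Simple groups of order `95040` have an action on `12` points. -/

namespace Cfsg.Agent.H13.M12

open Cfsg Cfsg.Agent.H58 Cfsg.Agent.H13.BrTools Cfsg.Agent.H13.ChTools MulAction
open scoped ComplexConjugate

attribute [local instance] M11.fact11 M11.fact5

theorem deg_list : ∀ d ∈ List.range 309, d ∣ 95040 → 11 ∣ d → d % 5 = 1 →
    d = 11 ∨ d = 66 ∨ d = 176 := by decide +kernel

variable {G : Type*} [Group G] [Fintype G] [IsSimpleGroup G]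

namespace S2
variable (hG : Nat.card G = 95040) (S : S2 G)
include hG

theorem theta_x {θ : IrrCharacter G} (hθ : θ ∈ S.D.Y) :
    (θ.1 S.x).im ≠ 0 ∧ θ.1 S.x + θ.1 S.x⁻¹ = -1 := by
  classical
  have := Fintype.ofFinite (IrrCharacter G)
  have hP := card11 hG S.P
  have o := H11.column_orthogonality_of_not_isConj (not_isConj_inv hP (by norm_num)
    (by rw [(data11 hG S.P).2.2.1]; decide) S.hx S.x1)
  have hinv : ∀ ψ : IrrCharacter G, ψ.1 S.x⁻¹ = conj (ψ.1 S.x) := fun ψ =>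
    H12.IsCharacter_inv (H11.irr_isCharacter ψ) _
  simp only [hinv, Complex.conj_conj] at o
  rw [← Finset.sum_subset (Finset.subset_univ (S.D.X ∪ S.D.Y)) fun ψ _ h => by
      rw [Finset.mem_union, not_or] at h
      rw [S1.van11 hG ⟨_, ((data11 hG S.P).1.fixDim_notMem S.D h.1 h.2).symm⟩ S.ox.symm.dvd,
        zero_mul],
    Finset.sum_union (Finset.disjoint_left.2 S.D.disj),
    Finset.sum_congr (s₁ := S.D.X) rfl (g := fun _ => 1) fun ψ h => by
      rw [S.D.valX' h S.hx S.x1]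
      rcases S.D.sg_pm ψ h with h | h <;> simp [h],
    Finset.sum_const, S.D.cardX, ← Finset.add_sum_erase _ _ hθ] at o
  have h1 := S.D.valY' S.hx S.x1
  rw [(S.signs hG).2.2.2.2, ← Finset.add_sum_erase _ _ hθ] at h1
  obtain ⟨θ', hθ'⟩ := Finset.card_eq_one.1 (show (S.D.Y.erase θ).card = 1 by
    rw [Finset.card_erase_of_mem hθ, S.D.cardY])
  rw [hθ', Finset.sum_singleton] at o h1
  have h2 : θ.1 S.x ^ 2 + θ.1 S.x + 3 = 0 := by
    simp only [nsmul_eq_mul] at o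
    push_cast at o h1
    linear_combination o / 2 + (θ.1 S.x + 1 - θ'.1 S.x) / 2 * h1
  have h3 := congrArg Complex.re h2
  have h4 := congrArg Complex.im h2
  simp [sq] at h3 h4
  have h5 : (θ.1 S.x).im ≠ 0 := fun h => by
    rw [h] at h3; nlinarith [sq_nonneg (2 * (θ.1 S.x).re + 1)]
  refine ⟨h5, ?_⟩
  rw [hinv, Complex.add_conj]
  have : 2 * (θ.1 S.x).re = -1 := mul_left_cancel₀ h5 (by linarith)
  rw [this]; simp

theorem sums [Fintype (IrrCharacter G)] [DecidableEq (IrrCharacter G)] :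
    ∑ ψ ∈ S.Bᶜ, S.u ψ ^ 2 = 5 ∧ ∑ ψ ∈ S.Bᶜ, S.u ψ * charDegree ψ.1 = 0 ∧
    ∑ ψ ∈ S.Bᶜ, S.u ψ * S.v ψ = 0 ∧ ∑ ψ ∈ S.Bᶜ, H19.fs ψ.1 * S.u ψ = 1 := by
  have hu := fun ψ => S.hu ψ _ S.hy S.y1
  refine ⟨?_, ?_, ?_, ?_⟩
  · have o := H11.column_orthogonality_of_isConj (IsConj.refl S.y)
    simp only [hu, map_intCast, S.cardC hG S.hy S.y1] at o
    have o' : ∑ ψ, S.u ψ ^ 2 = 10 := by
      have : ((∑ ψ, S.u ψ ^ 2 : ℤ) : ℂ) = ((10 : ℤ) : ℂ) := by
        push_cast at o ⊢; simpa only [sq] using o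
      exact_mod_cast this
    rw [← Finset.sum_add_sum_compl S.B, Finset.sum_congr (s₁ := S.B) rfl (g := fun _ => 1)
      fun ψ h => by rcases S.u_B h with h | h <;> simp [h], Finset.sum_const, S.cardB] at o'
    simp at o'
    omega
  · have o := H11.column_orthogonality_of_not_isConj (g := S.y) (h := 1) (by simpa using S.y1)
    have r := S.rel_B (g := 1) (by simp)
    simp only [hu, ← H21.cast_deg, map_natCast] at o r
    rw [← Finset.sum_add_sum_compl S.B, r, zero_add] at o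
    exact_mod_cast o
  · have o := H11.column_orthogonality_of_not_isConj (g := S.y) (h := S.c) fun hc => by
      obtain ⟨k, hk⟩ := isConj_iff.1 hc
      have := S.oc
      rw [← hk, H21.orderOf_conj, S.oy] at this
      omega
    have r := S.rel_B (g := S.c) (by rw [S.oc]; norm_num)
    simp only [hu, S.hv, map_intCast] at o r
    rw [← Finset.sum_add_sum_compl S.B, r, zero_add] at o
    exact_mod_cast o
  · have ho := S.o10 hG S.hy S.y1
    have h6 := S.pow6 hG S.hy S.y1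
    set g := S.y * S.c with hg
    have hp : ∀ a b : ℕ, g ^ a = g ^ b ↔ a ≡ b [MOD 10] := fun a b =>
      ho ▸ pow_eq_pow_iff_modEq
    have hmem : ∀ z : G, Commute z S.y → ∃ k < 10, z = g ^ k := fun z hz => by
      have : z ∈ Subgroup.zpowers g :=
        S.centQ hG S.hy S.y1 ▸ Subgroup.mem_centralizer_singleton_iff.2 hz
      obtain ⟨k, hk⟩ := (mem_powers_iff_mem_zpowers.2 this)
      exact ⟨k % 10, Nat.mod_lt _ (by norm_num), by rw [← hk, hp]; exact (Nat.mod_modEq _ _).symm⟩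
    have s1 : H19.sqCount S.y = 2 := by
      have e : {z : G | z * z = S.y} = {g ^ 3, g ^ 8} := by
        ext z
        constructor
        · intro hz
          obtain ⟨k, hk, rfl⟩ := hmem z (hz ▸ (Commute.refl z).mul_right (Commute.refl z))
          have hz' : g ^ k * g ^ k = S.y := hz
          rw [← h6, ← pow_add, hp] at hz'
          have : k = 3 ∨ k = 8 := by unfold Nat.ModEq at hz'; omega
          rcases this with rfl | rfl <;> simp
        · rintro (rfl | rfl)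
          · change _ * _ = _
            rw [← pow_add, h6]
          · change _ * _ = _
            rw [← pow_add, ← h6, hp]; decide
      have : Nat.card {z : G // z * z = S.y} = 2 := by
        change Nat.card {z : G | z * z = S.y} = 2
        rw [e, Nat.card_coe_set_eq, Set.ncard_pair fun h => absurd ((hp _ _).1 h) (by decide)]
      rw [H19.sqCount, this]; rfl
    have s2 : H19.sqCount g = 0 := by
      have : IsEmpty {z : G // z * z = g} := ⟨fun ⟨z, hz⟩ => by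
        obtain ⟨k, hk, rfl⟩ := hmem z (h6 ▸ hz ▸
          ((Commute.refl z).mul_right (Commute.refl z)).pow_right 6)
        rw [← pow_add, ← pow_one g, ← pow_mul, hp] at hz
        unfold Nat.ModEq at hz; omega⟩
      simp [H19.sqCount]
    rw [H19.sqCount_eq_sum, ← Finset.sum_add_sum_compl S.B] at s1 s2
    rw [Finset.sum_congr (s₁ := S.B) rfl fun ψ h => by rw [S.val_B h S.hy S.y1],
      Finset.sum_congr (s₁ := S.Bᶜ) rfl fun ψ h => by
        rw [S.val_nB hG (Finset.mem_compl.1 h) S.hy S.y1, mul_neg], Finset.sum_neg_distrib] at s2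
    simp only [hu] at s1
    linear_combination (s1 - s2) / 2

theorem fs_b : H19.fs S.b.1 = 1 := by
  refine (H19.fs_of_real S.b.2 fun g => ?_).resolve_right
    (S.fs_ne hG (S.facts hG).1 (Or.inr (S.u_b hG)))
  obtain ⟨n, hn⟩ := int_of_unique (χ := S.b) (fun ψ h => S.eq_b hG (h.trans S.db)) g
  simp [hn]

theorem fs_f (h : S.f ∉ S.B) : H19.fs S.f.1 = 1 := by
  refine (H19.fs_of_real S.f.2 fun g => ?_).resolve_right (S.fs_ne hG h (Or.inr (S.u_f hG)))
  obtain ⟨n, hn⟩ := int_of_unique (χ := S.f) (fun ψ h => S.eq_f hG (h.trans S.df)) g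
  simp [hn]

/-- the remaining characters not vanishing at `y` -/
theorem rest [Fintype (IrrCharacter G)] [DecidableEq (IrrCharacter G)]
    (K : Finset (IrrCharacter G)) (hK : K ⊆ S.Bᶜ)
    (h : ∑ ψ ∈ K, H19.fs ψ.1 * S.u ψ + 4 = (∑ ψ ∈ K, S.u ψ ^ 2 : ℤ)) :
    ∃ T : Finset (IrrCharacter G), (∀ ψ, ψ ∈ T ↔ ψ ∉ S.B ∧ ψ ∉ K ∧ S.u ψ ≠ 0) ∧
      (∀ ψ ∈ T, S.u ψ = 1 ∧ H19.fs ψ.1 = 1) ∧ T.card + ∑ ψ ∈ K, S.u ψ ^ 2 = 5 ∧
      ∑ ψ ∈ T, (charDegree ψ.1 : ℤ) + ∑ ψ ∈ K, S.u ψ * charDegree ψ.1 = 0 ∧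
      ∑ ψ ∈ T, S.v ψ + ∑ ψ ∈ K, S.u ψ * S.v ψ = 0 := by
  obtain ⟨s1, s2, s3, s4⟩ := S.sums hG
  have hφ : ∀ ψ : IrrCharacter G, ∃ φ : ℤ, H19.fs ψ.1 = φ ∧ (φ = 0 ∨ φ = 1 ∨ φ = -1) := fun ψ => by
    rcases H19.fs_cases ψ.2 with h | h | h
    · exact ⟨0, by simp [h], by simp⟩
    · exact ⟨1, by simp [h], by simp⟩
    · exact ⟨-1, by simp [h], by simp⟩
  choose φ hφ hφ' using hφ
  rw [← Finset.sum_sdiff hK] at s1 s2 s3 s4
  simp only [hφ] at s4 h
  have s4' : ∑ ψ ∈ S.Bᶜ \ K, φ ψ * S.u ψ + ∑ ψ ∈ K, φ ψ * S.u ψ = 1 := by exact_mod_cast s4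
  have h' : ∑ ψ ∈ K, φ ψ * S.u ψ + 4 = ∑ ψ ∈ K, S.u ψ ^ 2 := by exact_mod_cast h
  have hle : ∀ ψ ∈ S.Bᶜ \ K, φ ψ * S.u ψ ≤ S.u ψ ^ 2 := fun ψ _ => by
    rcases hφ' ψ with h | h | h <;> rw [h] <;> nlinarith [sq_nonneg (2 * S.u ψ - 1),
      sq_nonneg (2 * S.u ψ + 1), Int.emod_emod_of_dvd (S.u ψ) (dvd_refl 2),
      Int.le_self_sq (S.u ψ), Int.le_self_sq (-S.u ψ)]
  have heq := (Finset.sum_eq_sum_iff_of_le hle).1 (by omega)
  set T := (S.Bᶜ \ K).filter (S.u · ≠ 0) with hT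
  have hT1 : ∀ ψ ∈ T, S.u ψ = 1 ∧ H19.fs ψ.1 = 1 := fun ψ hψ => by
    obtain ⟨h1, h2⟩ := Finset.mem_filter.1 hψ
    have h3 : φ ψ = S.u ψ := mul_right_cancel₀ h2 ((heq ψ h1).trans (sq _))
    have h4 := S.fs_ne hG (Finset.mem_compl.1 (Finset.mem_sdiff.1 h1).1)
    rw [hφ] at h4 ⊢
    rcases hφ' ψ with h | h | h
    · omega
    · exact ⟨by omega, by simp [h]⟩
    · exact absurd (by simp [h]) (h4 (Or.inr (by omega)))
  have hs : ∀ F : IrrCharacter G → ℤ, ∑ ψ ∈ S.Bᶜ \ K, S.u ψ * F ψ = ∑ ψ ∈ T, F ψ := fun F => by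
    rw [← Finset.sum_filter_of_ne (p := (S.u · ≠ 0)) fun ψ _ h => left_ne_zero_of_mul h]
    exact Finset.sum_congr rfl fun ψ h => by rw [(hT1 ψ h).1, one_mul]
  refine ⟨T, fun ψ => by simp [hT, and_assoc], hT1, ?_, hs _ ▸ s2, hs _ ▸ s3⟩
  simp only [sq] at s1 ⊢
  rw [hs, Finset.sum_congr rfl fun ψ h => (hT1 ψ h).1] at s1
  simpa using s1

theorem normc (K : Finset (IrrCharacter G)) : ∑ ψ ∈ K, S.v ψ ^ 2 ≤ 240 :=
  (sum_sq_le K S.c S.v fun ψ _ => S.hv ψ).trans (by exact_mod_cast (S.facts hG).2.1)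

theorem not_B11 {ψ : IrrCharacter G} (h : charDegree ψ.1 = 11) : ψ ∉ S.B := fun hψ => by
  classical
  have d1 : charDegree (H21.triv G).1 = 1 := H21.charDegree_one
  have ne : ∀ {χ ψ : IrrCharacter G} {m n : ℕ}, charDegree χ.1 = m → charDegree ψ.1 = n → m ≠ n →
      χ ≠ ψ := fun h1 h2 h e => h (h1.symm.trans (e ▸ h2))
  have hu : S.u ψ = 1 := by
    have := S.u_mod ψ
    rcases S.u_B hψ with h' | h' <;> omega
  have hv : S.v ψ = -9 := by
    have := S.v_mod_B hψ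
    have := S.v_mod4 hG ψ
    have := abs_lt.1 (S.v_lt hG (ne h d1 (by norm_num)))
    omega
  have r : ∑ χ ∈ S.B, S.u χ * S.v χ = 0 := by
    have r := S.rel_B (g := S.c) (by rw [S.oc]; norm_num)
    simp only [S.hv] at r
    exact_mod_cast r
  obtain ⟨hb, -, va, vb, vf, vY, ⟨ht, hf, hY⟩ | ⟨ht, hf, hY⟩⟩ := S.facts hG
  · have hsub : {H21.triv G, S.f, ψ} ⊆ S.B := by
      simp [Finset.insert_subset_iff, S.triv_B, hf, hψ]
    have hs : ∀ {R : Type} [AddCommMonoid R] (F : IrrCharacter G → R),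
        ∑ χ ∈ {H21.triv G, S.f, ψ}, F χ = F (H21.triv G) + F S.f + F ψ := fun F => by
      rw [Finset.sum_insert (by simp [ne d1 S.df, ne d1 h]), Finset.sum_pair (ne S.df h (by norm_num)),
        add_assoc]
    obtain ⟨r1, r2, h12, hr⟩ := Finset.card_eq_two.1 (show (S.B \ {H21.triv G, S.f, ψ}).card = 2 by
      rw [Finset.card_sdiff_of_subset hsub, S.cardB, Finset.card_eq_sum_ones, hs]; rfl)
    have m1 : r1 ∈ S.B := (Finset.mem_sdiff.1 (hr ▸ Finset.mem_insert_self _ _)).1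
    have m2 : r2 ∈ S.B :=
      (Finset.mem_sdiff.1 (hr ▸ Finset.mem_insert_of_mem (Finset.mem_singleton_self _))).1
    have ha : S.a ∉ S.B := fun h => by
      have := S.u_zero hG (ψ := S.a) (by rw [S.da]; norm_num)
      rcases S.u_B h with h | h <;> omega
    have n := S.normc hG (insert S.a (insert S.b (S.D.Y ∪ S.B)))
    rw [Finset.sum_insert (by
        simp only [Finset.mem_insert, Finset.mem_union, not_or]
        exact ⟨ne S.da S.db (by norm_num), fun h => ne S.da (S.degY h) (by norm_num) rfl, ha⟩),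
      Finset.sum_insert (by
        simp only [Finset.mem_union, not_or]
        exact ⟨fun h => ne S.db (S.degY h) (by norm_num) rfl, hb⟩),
      Finset.sum_union (Finset.disjoint_left.2 hY),
      Finset.sum_congr (s₁ := S.D.Y) rfl fun θ h => by rw [vY θ h], Finset.sum_const,
      S.D.cardY] at n
    rw [← Finset.sum_sdiff hsub, hr, Finset.sum_pair h12, hs] at n r
    rw [S.u_triv, S.u_f hG, hu] at r
    rw [va, vb] at n
    rw [S.v_triv, vf, hv, ht] at n r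
    simp only [nsmul_eq_mul, Nat.cast_ofNat] at n
    rcases S.u_B m1 with a | a <;> rcases S.u_B m2 with b | b <;> rw [a, b] at r <;>
      nlinarith [sq_nonneg (S.v r1 - 6), sq_nonneg (S.v r1 + 6), sq_nonneg (S.v r2 - 6),
        sq_nonneg (S.v r2 + 6)]
  · have hsub : insert (H21.triv G) (insert ψ S.D.Y) ⊆ S.B := by
      simp only [Finset.insert_subset_iff]
      exact ⟨S.triv_B, hψ, hY⟩
    have hs : ∀ {R : Type} [AddCommMonoid R] (F : IrrCharacter G → R),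
        ∑ χ ∈ insert (H21.triv G) (insert ψ S.D.Y), F χ =
          F (H21.triv G) + F ψ + ∑ χ ∈ S.D.Y, F χ := fun F => by
      rw [Finset.sum_insert (by
          simp only [Finset.mem_insert, not_or]
          exact ⟨ne d1 h (by norm_num), fun h => ne d1 (S.degY h) (by norm_num) rfl⟩),
        Finset.sum_insert fun h' => ne h (S.degY h') (by norm_num) rfl, add_assoc]
    obtain ⟨r1, hr⟩ := Finset.card_eq_one.1
      (show (S.B \ insert (H21.triv G) (insert ψ S.D.Y)).card = 1 by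
        rw [Finset.card_sdiff_of_subset hsub, S.cardB, Finset.card_eq_sum_ones, hs,
          Finset.sum_const, S.D.cardY]; rfl)
    have m1 : r1 ∈ S.B := (Finset.mem_sdiff.1 (hr ▸ Finset.mem_singleton_self _)).1
    have n := S.normc hG {r1}
    rw [← Finset.sum_sdiff hsub, hr, hs, Finset.sum_congr (s₁ := S.D.Y) rfl fun θ h => by
      rw [vY θ h, S.u_Y hG h], Finset.sum_const, S.D.cardY, S.u_triv, hu, S.v_triv, hv, ht] at r
    simp only [Finset.sum_singleton, nsmul_eq_mul, Nat.cast_ofNat] at n r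
    have : S.v r1 = 16 ∨ S.v r1 = -16 := by
      rcases S.u_B m1 with a | a <;> rw [a] at r <;> omega
    rcases this with a | a <;> rw [a] at n <;> omega

theorem exists_pair : ∃ χ χ' : IrrCharacter G, χ ≠ χ' ∧ charDegree χ.1 = 11 ∧
    charDegree χ'.1 = 11 ∧ H19.fs χ.1 = 1 ∧ H19.fs χ'.1 = 1 ∧
    (∀ ψ : IrrCharacter G, charDegree ψ.1 = 11 → ψ = χ ∨ ψ = χ') ∧
    ∀ ψ ∉ S.B, S.u ψ < 0 → ψ = S.b ∨ ψ = S.f := by
  classical
  have := Fintype.ofFinite (IrrCharacter G)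
  have ne : ∀ {χ ψ : IrrCharacter G} {m n : ℕ}, charDegree χ.1 = m → charDegree ψ.1 = n → m ≠ n →
      χ ≠ ψ := fun h1 h2 h e => h (h1.symm.trans (e ▸ h2))
  have hdeg : ∀ ψ ∉ S.B, ψ ∉ S.D.Y → S.u ψ = 1 →
      charDegree ψ.1 = 11 ∨ charDegree ψ.1 = 66 ∨ charDegree ψ.1 = 176 := fun ψ h1 h2 h3 => by
    have h4 := S.u_mod ψ
    have h5 := charDegree_sq_le ψ
    rw [hG] at h5
    refine deg_list _ (List.mem_range.2 (by nlinarith)) (hG ▸ H21.deg_dvd_card ψ) ?_ (by omega)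
    rcases S.cases' hG ψ with h | h | h | h | h | h | h
    · exact absurd (h.1 ▸ S.triv_B) h1
    any_goals omega
    exact absurd h.1 h2
  have h11 : ∀ ψ : IrrCharacter G, charDegree ψ.1 = 11 → S.u ψ ≠ 0 := fun ψ h e => by
    have := S.u_mod ψ; omega
  obtain ⟨hb, -, va, vb, vf, vY, ⟨ht, hf, hY⟩ | ⟨ht, hf, hY⟩⟩ := S.facts hG
  · have hbY : S.b ∉ S.D.Y := fun h => ne S.db (S.degY h) (by norm_num) rfl
    have hs : ∀ {R : Type} [AddCommMonoid R] (F : IrrCharacter G → R) (c : R),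
        (∀ θ ∈ S.D.Y, F θ = c) → ∑ χ ∈ insert S.b S.D.Y, F χ = F S.b + 2 • c := fun F c h => by
      rw [Finset.sum_insert hbY, Finset.sum_congr rfl h, Finset.sum_const, S.D.cardY]
    obtain ⟨T, hT, hT1, c1, c2, -⟩ := S.rest hG (insert S.b S.D.Y)
      (Finset.insert_subset (Finset.mem_compl.2 hb) fun θ h => Finset.mem_compl.2 (hY θ h)) (by
        rw [hs _ 0 fun θ h => by rw [H19.fs_eq_zero_of_not_real θ.2 (S.theta_x hG h).1, zero_mul],
          hs _ 1 fun θ h => by rw [S.u_Y hG h, one_pow], S.fs_b hG, S.u_b hG]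
        norm_num)
    rw [hs _ 1 fun θ h => by rw [S.u_Y hG h, one_pow], S.u_b hG] at c1
    rw [hs _ 16 fun θ h => by rw [S.u_Y hG h, S.degY h]; rfl, S.u_b hG, S.db] at c2
    obtain ⟨χ, χ', hne, rfl⟩ := Finset.card_eq_two.1 (show T.card = 2 by
      simp only [nsmul_eq_mul] at c1; omega)
    have m1 := (hT χ).1 (by simp)
    have m2 := (hT χ').1 (by simp)
    have d1 := hdeg χ m1.1 (fun h => m1.2.1 (Finset.mem_insert_of_mem h)) (hT1 χ (by simp)).1
    have d2 := hdeg χ' m2.1 (fun h => m2.2.1 (Finset.mem_insert_of_mem h)) (hT1 χ' (by simp)).1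
    rw [Finset.sum_pair hne] at c2
    simp only [nsmul_eq_mul] at c2
    refine ⟨χ, χ', hne, by omega, by omega, (hT1 χ (by simp)).2, (hT1 χ' (by simp)).2,
      fun ψ h => ?_, fun ψ h h' => ?_⟩
    · simpa using (hT ψ).2 ⟨S.not_B11 hG h, by
        simp only [Finset.mem_insert, not_or]
        exact ⟨ne h S.db (by norm_num), fun h' => ne h (S.degY h') (by norm_num) rfl⟩, h11 ψ h⟩
    · by_contra hc
      have := (hT1 ψ ((hT ψ).2 ⟨h, by
        simp only [Finset.mem_insert, not_or] at hc ⊢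
        exact ⟨hc.1, fun h => by have := S.u_Y hG h; omega⟩, h'.ne⟩)).1
      omega
  · have hbf : S.b ≠ S.f := ne S.db S.df (by norm_num)
    obtain ⟨T, hT, hT1, c1, c2, c3⟩ := S.rest hG {S.b, S.f}
      (by simp [Finset.insert_subset_iff, hb, hf]) (by
        rw [Finset.sum_pair hbf, Finset.sum_pair hbf, S.fs_b hG, S.fs_f hG hf, S.u_b hG, S.u_f hG]
        norm_num)
    rw [Finset.sum_pair hbf, S.u_b hG, S.u_f hG] at c1 c2 c3
    rw [S.db, S.df] at c2
    rw [vb, vf, ht] at c3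
    obtain ⟨l, hl, hnd, hm, hs', hsum⟩ := exists_sorted T fun χ => charDegree χ.1
    obtain ⟨χ, χ', ρ, rfl⟩ := List.length_eq_three.1 (show l.length = 3 by omega)
    have hd : ∀ ψ ∈ T, (charDegree ψ.1 = 11 ∨ charDegree ψ.1 = 66 ∨ charDegree ψ.1 = 176) ∧
        (5 : ℤ) ∣ -1 - S.v ψ ∧ (4 : ℤ) ∣ charDegree ψ.1 - S.v ψ := fun ψ h =>
      ⟨hdeg ψ ((hT ψ).1 h).1 (fun h' => ((hT ψ).1 h).1 (hY ψ h')) (hT1 ψ h).1,
        (hT1 ψ h).1 ▸ S.v_mod_nB hG ((hT ψ).1 h).1, S.v_mod4 hG ψ⟩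
    have m1 := (hm χ).1 (by simp)
    have m2 := (hm χ').1 (by simp)
    have m3 := (hm ρ).1 (by simp)
    have d1 := hd χ m1
    have d2 := hd χ' m2
    have d3 := hd ρ m3
    have n := S.normc hG T
    rw [hsum] at n c2 c3
    simp only [List.map_cons, List.map_nil, List.sum_cons, List.sum_nil, List.pairwise_cons,
      List.mem_cons, forall_eq_or_imp] at n c2 c3 hs'
    have key : charDegree χ.1 = 11 ∧ charDegree χ'.1 = 11 ∧ charDegree ρ.1 = 176 := by
      by_contra hc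
      obtain ⟨a, ha⟩ : ∃ a, S.v χ = 20 * a - 6 := ⟨(S.v χ + 6) / 20, by omega⟩
      obtain ⟨b, hb⟩ : ∃ a, S.v χ' = 20 * a - 6 := ⟨(S.v χ' + 6) / 20, by omega⟩
      obtain ⟨c, hc⟩ : ∃ a, S.v ρ = 20 * a - 6 := ⟨(S.v ρ + 6) / 20, by omega⟩
      rw [ha, hb, hc] at n c3
      nlinarith [Int.le_self_sq a, Int.le_self_sq b, Int.le_self_sq c]
    refine ⟨χ, χ', by rintro rfl; simp at hnd, key.1, key.2.1, (hT1 χ m1).2, (hT1 χ' m2).2,
      fun ψ h => ?_, fun ψ h h' => ?_⟩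
    · have := (hm ψ).2 ((hT ψ).2 ⟨S.not_B11 hG h, by
        simp [ne h S.db, ne h S.df], h11 ψ h⟩)
      simp only [List.mem_cons, List.not_mem_nil, or_false] at this
      rcases this with h' | h' | h'
      · exact Or.inl h'
      · exact Or.inr h'
      · exact absurd h' (ne h key.2.2 (by norm_num))
    · by_contra hc
      have := (hT1 ψ ((hT ψ).2 ⟨h, by simpa using hc, h'.ne⟩)).1
      omega

end S2

end Cfsg.Agent.H13.M12
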