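import Mathlib
import Cfsg.Agent.H13.M12D
import Cfsg.Agent.H58.SymSq
import Cfsg.Agent.H58.BrSing

/-! Simple groups of order `95040`: the action on `12` points. -/

namespace Cfsg.Agent.H13.M12

open Cfsg Cfsg.Agent.H58 Cfsg.Agent.H13.BrTools Cfsg.Agent.H13.ChTools MulAction
open scoped ComplexConjugate

attribute [local instance] M11.fact11 M11.fact5

section General
variable {G : Type*} [Group G] [Fintype G]

theorem inner_sq_one {χ : G → ℂ} (hχ : IsIrrCharacter G χ) (hfs : H19.fs χ = 1) :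
    classInner (fun g => (χ g * χ g - χ (g * g)) / 2) (fun _ => 1) = 0 ∧
    classInner (fun g => (χ g * χ g + χ (g * g)) / 2) (fun _ => 1) = 1 := by
  have h1 := H11.classInner_irr_self hχ
  have hr : ∀ g, conj (χ g) = χ g := fun g =>
    Complex.conj_eq_iff_im.2 (H19.real_of_fs_ne_zero hχ (by simp [hfs]) g)
  simp only [classInner, hr] at h1
  rw [H19.fs_def] at hfs
  simp only [H11.classInner_one_right, ← Finset.sum_div, Finset.sum_sub_distrib,
    Finset.sum_add_distrib]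
  exact ⟨by linear_combination (h1 - hfs) / 2, by linear_combination (h1 + hfs) / 2⟩

theorem inner_mul_swap {χ ψ ξ : G → ℂ} (hψ : ∀ g, conj (ψ g) = ψ g) (hξ : ∀ g, conj (ξ g) = ξ g) :
    classInner (fun g => χ g * ψ g) ξ = classInner (fun g => χ g * ξ g) ψ := by
  simp only [classInner, hψ, hξ]
  congr 1
  exact Finset.sum_congr rfl fun g _ => by ring

end General

/-- values at `y` -/
noncomputable def fy (d : ℕ) : ℂ := if d = 45 ∨ d = 55 then 0 else if d = 54 ∨ d = 44 then -1 else 1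
/-- values at `x` -/
noncomputable def fx (d : ℕ) : ℂ :=
  if d = 1 ∨ d = 45 then 2 else if d = 54 then -2 else if d = 16 then -1 else 0
/-- values at `y * c` -/
noncomputable def fw (k : ℤ) (d : ℕ) : ℂ :=
  if d = 45 ∨ d = 55 then 0 else if d = 54 ∨ d = 1 then 1 else if d = 16 then k else -1

variable {G : Type*} [Group G] [Fintype G] [IsSimpleGroup G]

namespace S2
variable (hG : Nat.card G = 95040) (S : S2 G)
include hG

theorem u_le (ψ : IrrCharacter G) : S.u ψ ≤ 1 := by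
  classical
  have := Fintype.ofFinite (IrrCharacter G)
  by_cases hB : ψ ∈ S.B
  · rcases S.u_B hB with h | h <;> omega
  by_contra hc
  obtain ⟨χ, -, -, h11, -⟩ := S.exists_pair hG
  have hu : S.u χ ≠ 0 := fun e => by have := S.u_mod χ; omega
  have hb := S.u_b hG
  have h1 : ψ ≠ S.b := fun e => by rw [e] at hc; omega
  have h2 : S.b ≠ χ := fun e => by have := S.db; rw [e] at this; omega
  have hs := (S.sums hG).1
  by_cases h3 : ψ = χ
  · have := S.u_mod χ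
    have h4 := Finset.single_le_sum (f := fun ψ => S.u ψ ^ 2) (fun _ _ => sq_nonneg _)
      (Finset.mem_compl.2 hB)
    have h5 : 6 ≤ S.u ψ := by rw [h3] at hc ⊢; omega
    nlinarith
  have h4 := Finset.sum_le_sum_of_subset_of_nonneg (f := fun ψ => S.u ψ ^ 2)
    (show {ψ, S.b, χ} ⊆ S.Bᶜ by
      simp [Finset.insert_subset_iff, hB, (S.facts hG).1, S.not_B11 hG h11])
    fun _ _ _ => sq_nonneg _
  rw [Finset.sum_insert (by simp [h1, h3]), Finset.sum_pair h2, hs, hb] at h4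
  have := sq_pos_of_ne_zero hu
  nlinarith

theorem small : ∃ k : ℤ, (k = 1 ∨ k = -1) ∧ ∀ ψ : IrrCharacter G, charDegree ψ.1 ≤ 65 →
    charDegree ψ.1 ∈ ({1, 45, 54, 16, 11, 44, 55} : Finset ℕ) ∧
    ψ.1 S.y = fy (charDegree ψ.1) ∧ ψ.1 S.x + ψ.1 S.x⁻¹ = fx (charDegree ψ.1) ∧
    ψ.1 (S.y * S.c) = fw k (charDegree ψ.1) := by
  have hk : ∃ k : ℤ, (k = 1 ∨ k = -1) ∧ ∀ θ ∈ S.D.Y, θ.1 (S.y * S.c) = k := by
    obtain ⟨-, -, -, -, -, -, ⟨-, -, hY⟩ | ⟨-, -, hY⟩⟩ := S.facts hG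
    · exact ⟨-1, Or.inr rfl, fun θ h => by
        rw [S.val_nB hG (hY θ h) S.hy S.y1, S.u_Y hG h]; simp⟩
    · exact ⟨1, Or.inl rfl, fun θ h => by rw [S.val_B (hY θ h) S.hy S.y1, S.u_Y hG h]⟩
  obtain ⟨k, hk1, hk⟩ := hk
  refine ⟨k, hk1, fun ψ hψ => ?_⟩
  have hu := S.hu ψ _ S.hy S.y1
  have hX : ∀ χ ∈ S.D.X, χ.1 S.x + χ.1 S.x⁻¹ = 2 * S.D.sg χ := fun χ h => by
    rw [S.D.valX' h S.hx S.x1, S.D.valX' h (inv_mem S.hx) (inv_ne_one.2 S.x1), two_mul]
  have o10 := S.o10 hG S.hy S.y1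
  rcases S.cases' hG ψ with ⟨rfl, h⟩ | ⟨rfl, h⟩ | ⟨rfl, h⟩ | h | h | ⟨h', h⟩ | h
  · rw [h]
    refine ⟨by simp, ?_, ?_, ?_⟩ <;> simp only [H21.triv_apply, fy, fx, fw] <;> norm_num
  · rw [h, hX _ ((S.memX _).2 (by simp)), (S.signs hG).1,
      S1.van5 hG (by rw [h]; norm_num) S.oy.symm.dvd, S1.van5 hG (by rw [h]; norm_num)
        (by rw [o10]; norm_num)]
    simp [fy, fx, fw]
  · rw [h, hX _ ((S.memX _).2 (by simp)), (S.signs hG).2.1, hu,
      S.val_nB hG (S.facts hG).1 S.hy S.y1, S.u_b hG]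
    simp [fy, fx, fw]
  · omega
  · omega
  · rw [h, (S.theta_x hG h').2, hu, hk _ h', S.u_Y hG h']
    simp [fy, fx, fw]
  · have h0 := H21.deg_ne_zero ψ
    have h1 := S.u_mod ψ
    have h2 := S.u_le hG ψ
    have h3 : S.u ψ < 0 → ψ ∈ S.B := fun hlt => by
      by_contra hB
      obtain ⟨-, -, -, -, -, -, -, -, H⟩ := S.exists_pair hG
      rcases H ψ hB hlt with rfl | rfl
      · rw [S.db] at h; omega
      · rw [S.df] at h; omega
    have h4 : S.u ψ < 0 → S.u ψ = -1 := fun hlt => by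
      rcases S.u_B (h3 hlt) with h | h <;> omega
    rw [S1.van11 hG h (g := S.x) S.ox.symm.dvd,
      S1.van11 hG h (g := S.x⁻¹) (by rw [orderOf_inv, S.ox])]
    have h5 : charDegree ψ.1 = 11 ∨ charDegree ψ.1 = 44 ∨ charDegree ψ.1 = 55 := by
      obtain ⟨j, hj⟩ := h
      have : j ≤ 5 := by omega
      interval_cases j <;> omega
    rcases h5 with h5 | h5 | h5
    · rw [S.val_nB hG (S.not_B11 hG h5) S.hy S.y1, hu, h5, show S.u ψ = 1 by omega]
      simp [fy, fx, fw]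
    · rw [S.val_B (h3 (by omega)) S.hy S.y1, hu, h5, show S.u ψ = -1 by omega]
      simp [fy, fx, fw]
    · rw [S1.van5 hG (ψ := ψ) (g := S.y) (by rw [h5]; norm_num) S.oy.symm.dvd,
        S1.van5 hG (ψ := ψ) (g := S.y * S.c) (by rw [h5]; norm_num) (by rw [o10]; norm_num), h5]
      simp [fy, fx, fw]

theorem decomp {Λ : G → ℂ} (hΛ : IsCharacter G Λ) {n : ℕ} (m1 : ℕ) (hn : n ≤ 65 + m1)
    (hm1 : classInner Λ (fun _ => 1) = m1) (h1 : Λ 1 = n) :
    ∃ (a b c d e f : ℕ) (k : ℤ), (k = 1 ∨ k = -1) ∧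
      n = m1 + 45 * a + 54 * b + 16 * c + 11 * d + 44 * e + 55 * f ∧
      Λ S.y = (m1 - b + c + d - e : ℤ) ∧ Λ S.x + Λ S.x⁻¹ = (2 * m1 + 2 * a - 2 * b - c : ℤ) ∧
      Λ (S.y * S.c) = (m1 + b + k * c - d - e : ℤ) ∧
      (d ≠ 0 → ∃ ψ : IrrCharacter G, charDegree ψ.1 = 11 ∧ classInner Λ ψ.1 ≠ 0) ∧
      (f ≠ 0 → ∃ ψ : IrrCharacter G, charDegree ψ.1 = 55 ∧ classInner Λ ψ.1 ≠ 0) := by
  classical
  have := Fintype.ofFinite (IrrCharacter G)
  obtain ⟨k, hk, H⟩ := S.small hG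
  obtain ⟨m, hm, hs⟩ := exists_apply_eq_sum hΛ
  have hmt : m (H21.triv G) = m1 := by
    have := hm (H21.triv G)
    rw [H21.triv_coe, hm1] at this
    exact_mod_cast this.symm
  have hd : n = ∑ ψ, m ψ * charDegree ψ.1 := by
    have := hs 1
    simp only [h1, ← H21.cast_deg] at this
    exact_mod_cast this
  have hle : ∀ ψ, m ψ ≠ 0 → charDegree ψ.1 ≤ 65 := fun ψ h => by
    by_cases e : ψ = H21.triv G
    · rw [e, show charDegree (H21.triv G).1 = 1 from H21.charDegree_one]; norm_num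
    have := Finset.sum_le_sum_of_subset (f := fun ψ => m ψ * charDegree ψ.1)
      (Finset.subset_univ {ψ, H21.triv G})
    rw [Finset.sum_pair e, hmt, ← hd, show charDegree (H21.triv G).1 = 1 from H21.charDegree_one]
      at this
    have := Nat.le_mul_of_pos_left (charDegree ψ.1) (Nat.pos_of_ne_zero h)
    omega
  have e1 := sum_by_deg m _ (fun ψ => ψ.1 1) (fun d => d) fun ψ h =>
    ⟨(H ψ (hle ψ h)).1, (H21.cast_deg ψ).symm⟩
  have e2 := sum_by_deg m _ (fun ψ => ψ.1 S.y) fy fun ψ h => ⟨(H ψ (hle ψ h)).1, (H ψ (hle ψ h)).2.1⟩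
  have e3 := sum_by_deg m _ (fun ψ => ψ.1 S.x + ψ.1 S.x⁻¹) fx fun ψ h =>
    ⟨(H ψ (hle ψ h)).1, (H ψ (hle ψ h)).2.2.1⟩
  have e4 := sum_by_deg m _ (fun ψ => ψ.1 (S.y * S.c)) (fw k) fun ψ h =>
    ⟨(H ψ (hle ψ h)).1, (H ψ (hle ψ h)).2.2.2⟩
  have ht : ∑ ψ with charDegree ψ.1 = 1, m ψ = m1 := by
    rw [← hmt]
    refine Finset.sum_eq_single_of_mem _ (Finset.mem_filter.2 ⟨Finset.mem_univ _,
      H21.charDegree_one⟩) fun ψ h hne => ?_
    exfalso
    have h := (Finset.mem_filter.1 h).2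
    rcases S.cases' hG ψ with h' | h' | h' | h' | h' | h' | h'
    · exact hne h'.1
    all_goals omega
  have hex : ∀ d, ∑ ψ with charDegree ψ.1 = d, m ψ ≠ 0 →
      ∃ ψ : IrrCharacter G, charDegree ψ.1 = d ∧ classInner Λ ψ.1 ≠ 0 := fun d h => by
    obtain ⟨ψ, h1, h2⟩ := Finset.exists_ne_zero_of_sum_ne_zero h
    exact ⟨ψ, (Finset.mem_filter.1 h1).2, by rw [hm]; exact_mod_cast h2⟩
  simp only [mul_add, Finset.sum_add_distrib, ← hs] at e1 e2 e3 e4
  rw [Finset.sum_insert (by decide), Finset.sum_insert (by decide), Finset.sum_insert (by decide),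
    Finset.sum_insert (by decide), Finset.sum_insert (by decide), Finset.sum_pair (by decide), ht]
    at e1 e2 e3 e4
  have h11 := hex 11
  have h55 := hex 55
  generalize ∑ ψ with charDegree ψ.1 = 45, m ψ = a at *
  generalize ∑ ψ with charDegree ψ.1 = 54, m ψ = b at *
  generalize ∑ ψ with charDegree ψ.1 = 16, m ψ = c at *
  generalize ∑ ψ with charDegree ψ.1 = 11, m ψ = d at *
  generalize ∑ ψ with charDegree ψ.1 = 44, m ψ = e at *
  generalize ∑ ψ with charDegree ψ.1 = 55, m ψ = f at *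
  refine ⟨a, b, c, d, e, f, k, hk, ?_, ?_, ?_, ?_, h11, h55⟩
  · rw [h1] at e1
    have : (n : ℂ) = (m1 + 45 * a + 54 * b + 16 * c + 11 * d + 44 * e + 55 * f : ℕ) := by
      rw [e1]; push_cast; ring
    exact_mod_cast this
  · rw [e2]; simp [fy]; ring
  · rw [e3]; simp [fx]; ring
  · rw [e4]; simp [fw]; ring

theorem vals11 {χ : IrrCharacter G} (h : charDegree χ.1 = 11) :
    χ.1 1 = 11 ∧ (∀ g ∈ (S.Q : Subgroup G), g ≠ 1 → χ.1 g = 1) ∧ χ.1 (S.y * S.c) = -1 ∧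
      χ.1 S.c = -1 ∧ ∀ g, 11 ∣ orderOf g → χ.1 g = 0 := by
  have hu : S.u χ = 1 := by
    have := S.u_mod χ
    have := S.u_le hG χ
    by_contra hc
    obtain ⟨-, -, -, -, -, -, -, -, H⟩ := S.exists_pair hG
    rcases H χ (S.not_B11 hG h) (by omega) with rfl | rfl
    · rw [S.db] at h; omega
    · rw [S.df] at h; omega
  refine ⟨by rw [← H21.cast_deg, h]; rfl, fun g hg h1 => by rw [S.hu χ g hg h1, hu]; simp,
    by rw [S.val_nB hG (S.not_B11 hG h) S.hy S.y1, hu]; simp, ?_,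
    fun g hg => S1.van11 hG h.symm.dvd hg⟩
  have h1 := S.v_mod_nB hG (S.not_B11 hG h)
  have h2 := S.v_mod4 hG χ
  have h3 := abs_lt.1 (S.v_lt hG (ψ := χ) fun e => by
    rw [e, show charDegree (H21.triv G).1 = 1 from H21.charDegree_one] at h; omega)
  rw [S.hv, show S.v χ = -1 by omega]; simp

omit [Fintype G] [IsSimpleGroup G] hG in
theorem sq_data : S.y * S.y ∈ (S.Q : Subgroup G) ∧ S.y * S.y ≠ 1 ∧
    S.y * S.c * (S.y * S.c) = S.y * S.y ∧ 11 ∣ orderOf (S.x * S.x) ∧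
    11 ∣ orderOf (S.x⁻¹ * S.x⁻¹) := by
  have hx : orderOf (S.x * S.x) = 11 := by
    rw [← sq, Nat.Coprime.orderOf_pow (by rw [S.ox]; norm_num), S.ox]
  refine ⟨mul_mem S.hy S.hy, fun h => ?_, ?_, hx.symm.dvd, ?_⟩
  · have := orderOf_dvd_of_pow_eq_one (show S.y ^ 2 = 1 by rw [sq, h])
    rw [S.oy] at this; omega
  · rw [← sq, (S.comm S.hy).mul_pow, S.c2, mul_one, sq]
  · rw [← mul_inv_rev, orderOf_inv, hx]

include S

theorem alt_irr {χ : IrrCharacter G} (h : charDegree χ.1 = 11) (hfs : H19.fs χ.1 = 1) :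
    IsIrrCharacter G (fun g => (χ.1 g * χ.1 g - χ.1 (g * g)) / 2) := by
  obtain ⟨v1, vy, vw, -, vx⟩ := S.vals11 hG h
  obtain ⟨q1, q2, q3, q4, q5⟩ := S.sq_data
  have hΛ := isCharacter_altSq (H11.irr_isCharacter χ)
  have hd : (χ.1 1 * χ.1 1 - χ.1 (1 * 1)) / 2 = (55 : ℕ) := by rw [mul_one, v1]; norm_num
  obtain ⟨a, b, c, d, e, f, k, hk, e1, e2, e3, e4, -, hf⟩ := S.decomp hG hΛ 0 (by norm_num)
    (by simpa using (inner_sq_one χ.2 hfs).1) hd
  rw [vy _ S.hy S.y1, vy _ q1 q2] at e2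
  rw [vx _ S.ox.symm.dvd, vx _ q4, vx _ q5, vx _ (by rw [orderOf_inv, S.ox])] at e3
  rw [q3, vw, vy _ q1 q2] at e4
  have e2' : (0 : ℤ) = (0 : ℕ) - b + c + d - e := by exact_mod_cast (by norm_num : (0 : ℂ) = _).trans e2
  have e3' : (0 : ℤ) = 2 * (0 : ℕ) + 2 * a - 2 * b - c := by
    exact_mod_cast (by norm_num : (0 : ℂ) = _).trans e3
  have e4' : (0 : ℤ) = (0 : ℕ) + b + k * c - d - e := by
    exact_mod_cast (by norm_num : (0 : ℂ) = _).trans e4
  obtain ⟨ψ, h55, hψ⟩ := hf (by rcases hk with rfl | rfl <;> omega)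
  have := eq_sum_of_inner_ne_zero hΛ {ψ} (by simpa using hψ)
    (by rw [Finset.sum_singleton, ← H21.cast_deg ψ, h55]; exact hd)
  simp only [Finset.sum_singleton] at this
  rw [funext this]; exact ψ.2

theorem sq_contains {χ : IrrCharacter G} (h : charDegree χ.1 = 11) (hfs : H19.fs χ.1 = 1) :
    ∃ ψ : IrrCharacter G, charDegree ψ.1 = 11 ∧ classInner (fun g => χ.1 g * χ.1 g) ψ.1 ≠ 0 := by
  obtain ⟨v1, -⟩ := S.vals11 hG h
  have hΛ := isCharacter_symSq (H11.irr_isCharacter χ)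
  have hd : (χ.1 1 * χ.1 1 + χ.1 (1 * 1)) / 2 = (66 : ℕ) := by rw [mul_one, v1]; norm_num
  obtain ⟨a, b, c, d, e, f, k, hk, e1, -, -, -, hf, -⟩ := S.decomp hG hΛ 1 (by norm_num)
    (by simpa using (inner_sq_one χ.2 hfs).2) hd
  obtain ⟨ψ, h11, hψ⟩ := hf (by
    rintro rfl
    have : a ≤ 1 := by omega
    have : b ≤ 1 := by omega
    have : e ≤ 1 := by omega
    interval_cases a <;> interval_cases b <;> interval_cases e <;> omega)
  refine ⟨ψ, h11, ?_⟩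
  have := H11.classInner_add_ne_zero hΛ (isCharacter_altSq (H11.irr_isCharacter χ))
    (H11.irr_isCharacter ψ) hψ
  convert this using 2
  ext g; simp only [Pi.add_apply]; ring

theorem exists_good : ∃ χ : IrrCharacter G, charDegree χ.1 = 11 ∧ H19.fs χ.1 = 1 ∧
    classInner χ.1 (fun g => χ.1 g * χ.1 g) ≠ 0 := by
  classical
  have := Fintype.ofFinite (IrrCharacter G)
  obtain ⟨χ, χ', hne, h, h', hfs, hfs', hall, hneg⟩ := S.exists_pair hG
  have hc : ∀ ψ : IrrCharacter G, IsCharacter G (fun g => ψ.1 g * ψ.1 g) := fun ψ =>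
    H11.isCharacter_mul (H11.irr_isCharacter ψ) (H11.irr_isCharacter ψ)
  by_contra hcon
  push Not at hcon
  have k1 := hcon χ h hfs
  have k2 := hcon χ' h' hfs'
  rw [H11.classInner_comm_of_isCharacter (H11.irr_isCharacter _) (hc _)] at k1 k2
  have hr : ∀ g, conj (χ.1 g) = χ.1 g := fun g =>
    Complex.conj_eq_iff_im.2 (H19.real_of_fs_ne_zero χ.2 (by simp [hfs]) g)
  have hr' : ∀ g, conj (χ'.1 g) = χ'.1 g := fun g =>
    Complex.conj_eq_iff_im.2 (H19.real_of_fs_ne_zero χ'.2 (by simp [hfs']) g)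
  obtain ⟨ψ, hψ, l1⟩ := S.sq_contains hG h hfs
  obtain rfl : ψ = χ' := (hall ψ hψ).resolve_left fun e => l1 (e ▸ k1)
  obtain ⟨ξ, hξ, l2⟩ := S.sq_contains hG h' hfs'
  obtain rfl : ξ = χ := (hall ξ hξ).resolve_right fun e => l2 (e ▸ k2)
  rw [inner_mul_swap hr hr'] at l1
  rw [inner_mul_swap hr' hr, show (fun g => ψ.1 g * ξ.1 g) = fun g => ξ.1 g * ψ.1 g from
    funext fun g => mul_comm _ _] at l2
  obtain ⟨m, hm, hs⟩ := exists_apply_eq_sum
    (H11.isCharacter_mul (H11.irr_isCharacter ξ) (H11.irr_isCharacter ψ))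
  let L : IrrCharacter G → ℤ := fun ρ => charDegree ρ.1 + if ρ ∈ S.B then 0 else 54 * S.u ρ
  have hL : ∀ ρ : IrrCharacter G, ρ.1 1 + 27 * (ρ.1 S.y - ρ.1 (S.y * S.c)) = L ρ := fun ρ => by
    rw [S.hu ρ _ S.hy S.y1, ← H21.cast_deg]
    by_cases hB : ρ ∈ S.B
    · rw [S.val_B hB S.hy S.y1]; simp [L, hB]
    · rw [S.val_nB hG hB S.hy S.y1]; simp [L, hB]; ring
  have hL0 : ∀ ρ, 0 ≤ L ρ := fun ρ => by
    by_cases hB : ρ ∈ S.B
    · simp [L, hB]
    by_cases hu : S.u ρ < 0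
    · rcases hneg ρ hB hu with rfl | rfl
      · simp [L, hB, S.db, S.u_b hG]
      · simp [L, hB, S.df, S.u_f hG]
    · simp only [L, hB, if_false]; omega
  obtain ⟨v1, vy, vw, -⟩ := S.vals11 hG h
  obtain ⟨v1', vy', vw', -⟩ := S.vals11 hG h'
  have l : ∀ ρ : IrrCharacter G, charDegree ρ.1 = 11 → L ρ = 65 := fun ρ hρ => by
    obtain ⟨w1, wy, ww, -⟩ := S.vals11 hG hρ
    have := hL ρ
    rw [w1, wy _ S.hy S.y1, ww] at this
    exact_mod_cast this.symm.trans (by norm_num : _ = (65 : ℂ))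
  have e : ∑ ρ, m ρ * L ρ = 121 := by
    have e1 := hs 1
    have e2 := hs S.y
    have e3 := hs (S.y * S.c)
    simp only [Pi.mul_apply, v1, v1', vy _ S.hy S.y1, vy' _ S.hy S.y1, vw, vw'] at e1 e2 e3
    have : ∑ ρ, (m ρ : ℂ) * L ρ = 121 := by
      simp only [← hL, mul_add, mul_sub, Finset.sum_add_distrib, Finset.sum_sub_distrib,
        mul_left_comm _ (27 : ℂ), ← Finset.mul_sum, ← e1, ← e2, ← e3]
      norm_num
    exact_mod_cast this
  have := Finset.sum_le_sum_of_subset_of_nonneg (f := fun ρ => m ρ * L ρ)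
    (Finset.subset_univ {ξ, ψ}) fun ρ _ _ => mul_nonneg (Nat.cast_nonneg _) (hL0 ρ)
  rw [Finset.sum_pair hne, e, l _ h, l _ h'] at this
  have m1 : m ξ ≠ 0 := fun e => l1 ((hm ξ).trans (by simp [e]))
  have m2 : m ψ ≠ 0 := fun e => l2 ((hm ψ).trans (by simp [e]))
  omega

theorem exists_index12 : ∃ H : Subgroup G, H.index = 12 ∧ S.x ∈ H ∧ S.y ∈ H ∧
    ∀ g, g * S.c * g⁻¹ ∉ H := by
  obtain ⟨χ, h, hfs, h2⟩ := S.exists_good hG
  obtain ⟨v1, vy, -, vc, vx⟩ := S.vals11 hG h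
  have hne : χ.1 ≠ fun _ => 1 := fun e => by
    have := congrFun e 1
    rw [v1] at this; norm_num at this
  obtain ⟨Ω, _, _, hΩ⟩ := AlgPerm.exists_perm χ.2 hne hfs (S.alt_irr hG h hfs) (fun e => by
    have := congrFun e 1
    simp only [mul_one, v1] at this; norm_num at this) h2
  have hc : Nat.card Ω = 12 := by
    have := hΩ 1
    rw [v1, fixedBy_one_eq_univ, Nat.card_coe_set_eq, Set.ncard_univ] at this
    exact_mod_cast this.trans (by norm_num : _ = (12 : ℂ))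
  have htr : IsPretransitive G Ω := by
    have := H11.classInner_permChar_one (G := G) Ω
    rw [show H11.permChar G Ω = (fun _ => 1) + χ.1 from funext fun g => hΩ g, H11.classInner_add_left,
      H11.classInner_one_one, H11.classInner_irr_of_ne χ.2 H11.isIrrCharacter_one hne,
      add_zero] at this
    exact (pretransitive_iff_subsingleton_quotient G Ω).2
      (Nat.card_eq_one_iff_unique.1 (by exact_mod_cast this.symm)).1
  have hx := hΩ S.x
  rw [vx _ S.ox.symm.dvd, add_zero] at hx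
  obtain ⟨hs, ⟨ω, hω⟩⟩ := Nat.card_eq_one_iff_unique.1 (by exact_mod_cast hx :
    Nat.card (fixedBy Ω S.x) = 1)
  refine ⟨stabilizer G ω, by rw [index_stabilizer_of_transitive, hc], hω, ?_, fun g hg => ?_⟩
  · have h1 : S.y⁻¹ • ω ∈ fixedBy Ω S.x := by
      rw [mem_fixedBy, ← mul_smul, eq_comm, inv_smul_eq_iff, ← mul_smul, ← mul_assoc, S.hxy]
      exact ((stabilizer G ω).pow_mem hω 3).symm
    have := congrArg Subtype.val (hs.elim ⟨_, h1⟩ ⟨ω, hω⟩)
    exact (inv_mem_iff (H := stabilizer G ω)).1 this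
  · have h0 := hΩ (g * S.c * g⁻¹)
    rw [H11.isClassFunction_of_isCharacter (H11.irr_isCharacter χ), vc, add_neg_cancel] at h0
    have : Nonempty (fixedBy Ω (g * S.c * g⁻¹)) := ⟨⟨ω, hg⟩⟩
    exact Nat.card_pos.ne' (Nat.cast_eq_zero.1 h0)

end S2

end Cfsg.Agent.H13.M12
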