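import Mathlib
import Cfsg.Agent.H13.M12B
import Cfsg.Agent.H58.Sieve2

/-! A search engine for the principal block of a prime dividing the order exactly once. -/

namespace Cfsg.Agent.H13.Eng

open Cfsg Cfsg.Agent.H58 Cfsg.Agent.H13.BrTools Cfsg.Agent.H13.ChTools MulAction
open scoped ComplexConjugate

/-- degree and value -/
abbrev It := ℕ × ℤ

/-- the sign of a degree -/
def sgd (p d : ℕ) : ℤ := bif Nat.beq (d % p) 1 then 1 else -1

/-- the sign of the exceptional degree -/
def eps (p e z : ℕ) : ℤ := bif Nat.beq (z % p) e then 1 else -1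

/-- the type of continuations -/
abbrev K := ℕ → ℤ → ℤ → ℕ → ℕ → List It → Bool

/-- the end of the search -/
def fin (f : List It → Bool) (s u : ℤ) (acc : List It) : Bool :=
  !(Nat.beq s.natAbs 0) || !(Nat.beq u.natAbs 0) || f acc

/-- take the item `x` some number of times -/
noncomputable def go1 (f : List It → Bool) (x : It) (d c : ℕ) (a b : ℤ) (k : K) : K := fun n =>
  Nat.rec (motive := fun _ => ℤ → ℤ → ℕ → ℕ → List It → Bool)
    (fun s u _ _ acc => fin f s u acc)
    (fun n ih s u q r acc => Nat.blt ((n + 1) * x.1) s.natAbs ||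
      (k (n + 1) s u q r acc &&
        (Nat.blt q d || Nat.blt r c || ih (s + a) (u + b) (q - d) (r - c) (x :: acc)))) n

/-- the search -/
noncomputable def go (p : ℕ) (W : It → ℤ) (f : List It → Bool) (l : List It) : K :=
  List.rec (motive := fun _ => K) (fun n s u _ _ acc => !(Nat.beq n 0) || fin f s u acc)
    (fun x _ ih => go1 f x (x.1 * x.1) (x.2.natAbs * x.2.natAbs) (sgd p x.1 * x.1)
      (sgd p x.1 * W x) ih) l

theorem sgd_pm (p d : ℕ) : sgd p d = 1 ∨ sgd p d = -1 := by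
  unfold sgd; cases Nat.beq (d % p) 1 <;> simp

theorem natAbs_sum_le {β : Type*} (p : ℕ) (it : β → It) (d : ℕ) (L : Multiset β)
    (h : ∀ y ∈ L, (it y).1 ≤ d) :
    (L.map fun y => sgd p (it y).1 * (it y).1).sum.natAbs ≤ L.card * d := by
  induction L using Multiset.induction_on with
  | empty => simp
  | cons y L ih =>
    have h1 := ih fun z hz => h z (Multiset.mem_cons_of_mem hz)
    have h2 := h y (Multiset.mem_cons_self _ _)
    rw [Multiset.map_cons, Multiset.sum_cons, Multiset.card_cons, add_mul, one_mul]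
    rcases sgd_pm p (it y).1 with e | e <;> rw [e] <;> omega

/-- the hypotheses of the search -/
structure Ok {β : Type*} (p : ℕ) (W : It → ℤ) (it : β → It) (L : Multiset β) (n : ℕ) (s u : ℤ)
    (q r : ℕ) : Prop where
  hn : L.card = n
  hs : s + (L.map fun y => sgd p (it y).1 * (it y).1).sum = 0
  hu : u + (L.map fun y => sgd p (it y).1 * W (it y)).sum = 0
  hq : (L.map fun y => (it y).1 * (it y).1).sum ≤ q
  hr : (L.map fun y => (it y).2.natAbs * (it y).2.natAbs).sum ≤ r

theorem fin_sound {β : Type*} {p : ℕ} {W : It → ℤ} {f : List It → Bool} {it : β → It}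
    {L : Multiset β} {s u : ℤ} {q r : ℕ} {acc : List β} (h : fin f s u (acc.map it) = true)
    (H : Ok p W it L 0 s u q r) :
    ∃ l : List β, (l : Multiset β) = L + acc ∧ f (l.map it) = true := by
  obtain rfl : L = 0 := Multiset.card_eq_zero.1 H.hn
  have h1 := H.hs
  have h2 := H.hu
  simp only [Multiset.map_zero, Multiset.sum_zero, add_zero] at h1 h2
  subst h1 h2
  exact ⟨acc, by simp, by simpa [fin] using h⟩

theorem go_sound {β : Type*} {p : ℕ} {W : It → ℤ} {f : List It → Bool} {it : β → It} :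
    ∀ c : List It, c.Pairwise (fun a b => b.1 ≤ a.1) → ∀ (n : ℕ) (s u : ℤ) (q r : ℕ)
      (acc : List β) (L : Multiset β), go p W f c n s u q r (acc.map it) = true →
      Ok p W it L n s u q r → (∀ y ∈ L, it y ∈ c) →
      ∃ l : List β, (l : Multiset β) = L + acc ∧ f (l.map it) = true := by
  intro c
  induction c with
  | nil =>
    intro _ n s u q r acc L h H hc
    obtain rfl : L = 0 := Multiset.eq_zero_of_forall_notMem fun y hy => by simpa using hc y hy
    obtain rfl : n = 0 := H.hn.symm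
    exact fin_sound (by simpa [go] using h) H
  | cons x c ihc =>
    intro hp n
    rw [List.pairwise_cons] at hp
    induction n with
    | zero => exact fun s u q r acc L h H _ => fin_sound h H
    | succ n ih =>
      intro s u q r acc L h H hc
      change (Nat.blt ((n + 1) * x.1) s.natAbs || (go p W f c (n + 1) s u q r (acc.map it) &&
        (Nat.blt q (x.1 * x.1) || Nat.blt r (x.2.natAbs * x.2.natAbs) ||
          go p W f (x :: c) n (s + sgd p x.1 * x.1) (u + sgd p x.1 * W x) (q - x.1 * x.1)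
            (r - x.2.natAbs * x.2.natAbs) (x :: acc.map it)))) = true at h
      simp only [Bool.or_eq_true, Bool.and_eq_true, Nat.blt_eq] at h
      rcases h with h | ⟨h1, h2⟩
      · exfalso
        have h1 := natAbs_sum_le p it x.1 L fun y hy => by
          rcases List.mem_cons.1 (hc y hy) with e | e
          · rw [e]
          · exact hp.1 _ e
        have h2 := H.hs
        rw [H.hn] at h1
        omega
      by_cases hx : ∃ y ∈ L, it y = x
      · obtain ⟨y, hy, rfl⟩ := hx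
        obtain ⟨L, rfl⟩ := Multiset.exists_cons_of_mem hy
        obtain ⟨a1, a2, a3, a4, a5⟩ := H
        simp only [Multiset.map_cons, Multiset.sum_cons, Multiset.card_cons] at a1 a2 a3 a4 a5
        obtain ⟨l, hl, hf⟩ := ih _ _ _ _ (y :: acc) L (h2.resolve_left (by omega))
          ⟨by omega, by linarith, by linarith, by omega, by omega⟩
          fun z hz => hc z (Multiset.mem_cons_of_mem hz)
        exact ⟨l, by rw [hl, ← Multiset.cons_coe, Multiset.add_cons, Multiset.cons_add], hf⟩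
      · exact ihc hp.2 _ _ _ _ _ acc L h1 H fun y hy =>
          (List.mem_cons.1 (hc y hy)).resolve_left fun e => hx ⟨y, hy, e⟩

/-- sortedness -/
def srt : List It → Bool
  | a :: b :: l => Nat.ble b.1 a.1 && srt (b :: l)
  | _ => true

theorem pairwise_of_srt : ∀ l : List It, srt l = true → l.Pairwise fun a b => b.1 ≤ a.1
  | [], _ => List.Pairwise.nil
  | [_], _ => List.pairwise_singleton _ _
  | a :: b :: l, h => by
    rw [srt, Bool.and_eq_true, Nat.ble_eq] at h
    have h1 := pairwise_of_srt (b :: l) h.2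
    refine List.pairwise_cons.2 ⟨fun c hc => ?_, h1⟩
    rcases List.mem_cons.1 hc with rfl | hc
    · exact h.1
    · exact ((List.pairwise_cons.1 h1).1 c hc).trans h.1

/-- the search for a block -/
noncomputable def blk (p e t : ℕ) (W : It → ℤ) (a1 : ℤ) (B1 B2 : ℕ) (X Z : List It)
    (f : It → List It → Bool) : Bool :=
  srt X && Z.all fun z => Nat.blt B1 (1 + t * (z.1 * z.1)) ||
    Nat.blt B2 (a1.natAbs * a1.natAbs + t * (z.2.natAbs * z.2.natAbs)) ||
    go p W (f z) X (e - 1) (1 - eps p e z.1 * z.1) (W (1, a1) - eps p e z.1 * W z)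
      (B1 - (1 + t * (z.1 * z.1)))
      (B2 - (a1.natAbs * a1.natAbs + t * (z.2.natAbs * z.2.natAbs))) []

/-- all numerical local data -/
def locAll (N p : ℕ) (Dv : List ℕ) (F : ℕ → ℕ → ℕ → Bool) : Bool :=
  (Dv ++ Dv.map (N / ·)).all fun n => n % p != 1 || (List.range p).all fun e =>
    decide (e < 2) || (p - 1) % e != 0 || N % (p * e * n) != 0 || F n e (N / (p * e * n))

/-- all divisors -/
def divAll (N : ℕ) (Dv : List ℕ) (F : ℕ → Bool) : Bool := (Dv ++ Dv.map (N / ·)).all F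

/-- the list contains the small divisors -/
def Dvs (N : ℕ) (Dv : List ℕ) : Prop := ∀ d, d ∣ N → d * d ≤ N → d ∈ Dv

theorem dvs_of_check {N : ℕ} {Dv : List ℕ} (b : ℕ) (hb : N < b * b)
    (h : ((List.range b).all fun d => N % d != 0 || Dv.contains d) = true) : Dvs N Dv :=
  fun d hd h1 => by
    have := List.all_eq_true.1 h d (List.mem_range.2 (by nlinarith))
    simpa [Nat.mod_eq_zero_of_dvd hd] using this

theorem Dvs.mem {N : ℕ} {Dv : List ℕ} (h : Dvs N Dv) (h0 : 0 < N) {d : ℕ} (hd : d ∣ N) :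
    d ∈ Dv ++ Dv.map (N / ·) := by
  obtain ⟨c, rfl⟩ := hd
  rcases le_total d c with h1 | h1
  · exact List.mem_append_left _ (h d (dvd_mul_right _ _) (Nat.mul_le_mul_left _ h1))
  · exact List.mem_append_right _ (List.mem_map.2 ⟨c, h c (dvd_mul_left _ _)
      (Nat.mul_le_mul_right _ h1), Nat.mul_div_cancel _ (Nat.pos_of_mul_pos_left h0)⟩)

theorem Dvs.divAll {N : ℕ} {Dv : List ℕ} (h : Dvs N Dv) (h0 : 0 < N) {F : ℕ → Bool}
    (H : divAll N Dv F = true) {d : ℕ} (hd : d ∣ N) : F d = true :=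
  List.all_eq_true.1 H d (h.mem h0 hd)

/-- lower bound for the degrees -/
def lo (p v : ℕ) : ℕ := bif Nat.beq v 1 then 2 else 2 * p

/-- candidates for the degrees -/
def cand (p r idx v : ℕ) (ok : ℕ → Bool) (vl : ℕ → List ℤ) (Dv : List ℕ) : List It :=
  (Dv.filter fun d => Nat.ble (lo p v) d && Nat.beq (idx % d) 0 &&
    (Nat.beq (d % p) r || Nat.beq (d % p + r) p) && ok d).flatMap fun d => (vl d).map (d, ·)

theorem mem_cand {p r idx v : ℕ} {ok : ℕ → Bool} {vl : ℕ → List ℤ} {Dv : List ℕ} {d : ℕ} {a : ℤ}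
    (h0 : d ∈ Dv) (h1 : lo p v ≤ d) (h2 : d ∣ idx) (h3 : d % p = r ∨ d % p + r = p)
    (h4 : ok d = true) (h5 : a ∈ vl d) : (d, a) ∈ cand p r idx v ok vl Dv := by
  simp only [cand, List.mem_flatMap, List.mem_filter, List.mem_map, Bool.and_eq_true,
    Bool.or_eq_true, Nat.ble_eq, Nat.beq_eq]
  exact ⟨d, ⟨h0, ⟨⟨h1, Nat.mod_eq_zero_of_dvd h2⟩, h3⟩, h4⟩, a, h5, rfl⟩

/-- the search for given local data -/
noncomputable def col (p n e v : ℕ) (Dv : List ℕ) (ok : ℕ → Bool) (vl : ℕ → List ℤ) (W : It → ℤ)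
    (a1 : ℤ) (B1 B2 : ℕ) (f : It → List It → Bool) : Bool :=
  blk p e ((p - 1) / e) W a1 B1 B2 (cand p 1 (e * n) v ok vl Dv) (cand p e (e * n) v ok vl Dv) f

/-- multiples of `g` -/
def vAux (g C d : ℕ) (ok : ℤ → Bool) : ℕ → ℕ → List ℤ
  | 0, _ => []
  | m + 1, a => bif Nat.blt C (a * a) || Nat.ble d a then [] else
      [(a : ℤ), -(a : ℤ)].filter ok ++ vAux g C d ok m (a + g)

theorem mem_vAux {g C d : ℕ} {ok : ℤ → Bool} {b : ℤ} (h1 : b.natAbs * b.natAbs ≤ C)
    (h2 : b.natAbs < d) (h3 : ok b = true) : ∀ (m a j : ℕ), j < m → b.natAbs = a + j * g →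
    b ∈ vAux g C d ok m a
  | 0, _, _, h, _ => absurd h (Nat.not_lt_zero _)
  | m + 1, a, j, h, e => by
    have h4 : a ≤ b.natAbs := e ▸ Nat.le_add_right _ _
    have h5 : (Nat.blt C (a * a) || Nat.ble d a) = false := by
      have := Nat.mul_le_mul h4 h4
      rw [Bool.eq_false_iff]
      simp only [ne_eq, Bool.or_eq_true, Nat.blt_eq, Nat.ble_eq]
      omega
    rw [vAux, h5, cond_false, List.mem_append]
    rcases j with _ | j
    · left
      rw [List.mem_filter]
      refine ⟨?_, h3⟩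
      simp only [List.mem_cons, List.not_mem_nil, or_false]
      omega
    · exact Or.inr (mem_vAux h1 h2 h3 m (a + g) j (by omega) (by rw [e]; ring))

/-- the possible values on an element with centraliser of order `C` -/
def vals (N C : ℕ) (ok : ℕ → ℤ → Bool) (d : ℕ) : List ℤ :=
  [0].filter (ok d) ++ vAux (d / Nat.gcd d (N / C)) C d (ok d) d (d / Nat.gcd d (N / C))

theorem mem_vals {N C d : ℕ} {ok : ℕ → ℤ → Bool} {b : ℤ} (h1 : b ^ 2 ≤ C) (h2 : |b| < d)
    (h3 : ok d b = true) (h4 : (d : ℤ) ∣ (N / C : ℕ) * b) : b ∈ vals N C ok d := by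
  have h5 : b.natAbs < d := by zify; exact h2
  have h0 : 0 < d := by omega
  rw [vals, List.mem_append]
  by_cases hb : b = 0
  · subst hb; exact Or.inl (List.mem_filter.2 ⟨List.mem_singleton_self _, h3⟩)
  have h6 : d ∣ N / C * b.natAbs := by
    have := Int.natAbs_dvd_natAbs.2 h4
    rwa [Int.natAbs_mul, Int.natAbs_natCast, Int.natAbs_natCast] at this
  have hg := Nat.gcd_pos_of_pos_left (N / C) h0
  obtain ⟨k, hk⟩ : d / Nat.gcd d (N / C) ∣ b.natAbs := by
    refine (Nat.coprime_div_gcd_div_gcd hg).dvd_of_dvd_mul_left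
      (Nat.dvd_of_mul_dvd_mul_left hg ?_)
    rwa [Nat.mul_div_cancel' (Nat.gcd_dvd_left _ _), ← mul_assoc,
      Nat.mul_div_cancel' (Nat.gcd_dvd_right _ _)]
  have h7 : 0 < d / Nat.gcd d (N / C) := Nat.div_pos (Nat.gcd_le_left _ h0) hg
  rcases k with _ | k
  · omega
  refine Or.inr (mem_vAux ?_ h5 h3 d _ k (by nlinarith) (by rw [hk]; ring))
  zify
  rw [abs_mul_abs_self, ← sq]
  exact h1

section
variable {G : Type*} [Group G] [Fintype G] {p : ℕ} [hp : Fact p.Prime]

/-- the numerical local data -/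
structure Loc (G : Type*) [Group G] (p : ℕ) (P : Sylow p G) (e t v n : ℕ) : Prop where
  hP : Nat.card P = p
  rel : (Subgroup.centralizer ((P : Subgroup G) : Set G)).relIndex
    (Subgroup.normalizer ((P : Subgroup G) : Set G)) = e
  two : 2 ≤ e
  het : e * t = p - 1
  hC : Nat.card (Subgroup.centralizer ((P : Subgroup G) : Set G)) = p * v
  hN : Nat.card (Subgroup.normalizer ((P : Subgroup G) : Set G)) = p * e * v
  hn : Nat.card (Sylow p G) = n
  idx : (Subgroup.centralizer ((P : Subgroup G) : Set G)).index = e * n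
  mod : n % p = 1
  tot : Nat.card G = p * e * n * v

theorem exists_loc (hperf : commutator G = ⊤) (P : Sylow p G) (hP : Nat.card P = p) :
    ∃ e t v n, Loc G p P e t v n ∧ Nonempty (BrData G p P e t) := by
  obtain ⟨e, t, he, h2, het, hD⟩ := exists_brData hperf P hP
  obtain ⟨v, hv⟩ : p ∣ Nat.card (Subgroup.centralizer ((P : Subgroup G) : Set G)) :=
    hP.symm.dvd.trans (Subgroup.card_dvd_of_le (le_centralizer_of_card_prime hP))
  have h1 := relIndex_mul_card_centralizer (P : Subgroup G)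
  have hi := index_centralizer_sylow P
  have h3 := (Subgroup.centralizer ((P : Subgroup G) : Set G)).card_mul_index
  have h4 := card_sylow_modEq_one p G
  rw [he] at h1 hi
  refine ⟨e, t, v, _, ⟨hP, he, h2, het, hv, by rw [← h1, hv]; ring, rfl, hi, ?_, ?_⟩, hD⟩
  · rw [h4, Nat.mod_eq_of_lt hp.out.one_lt]
  · rw [← h3, hv, hi]; ring

namespace Loc
variable {P : Sylow p G} {e t v n : ℕ} (L : Loc G p P e t v n)
include L

omit [Fintype G] in
theorem tpos : 0 < t := Nat.pos_of_ne_zero fun h => by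
  have := L.het; have := hp.out.two_le; subst h; omega

omit [Fintype G] in
theorem lt : e < p := by
  have := L.het; have := hp.out.two_le
  have := Nat.le_mul_of_pos_right e L.tpos
  omega

omit [Fintype G] hp in
theorem t_eq : (p - 1) / e = t := by
  rw [← L.het, Nat.mul_div_cancel_left _ (by have := L.two; omega)]

omit [Fintype G] in
theorem ne_two : p ≠ 2 := by have := L.lt; have := L.two; omega

theorem of_all {N : ℕ} (hN : Nat.card G = N) {Dv : List ℕ} (hD : Dvs N Dv)
    {F : ℕ → ℕ → ℕ → Bool} (h : locAll N p Dv F = true) : F n e v = true := by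
  have h0 : 0 < N := hN ▸ Nat.card_pos
  have h1 := L.tot
  rw [hN] at h1
  have h2 := List.all_eq_true.1 h n (hD.mem h0 ⟨p * e * v, by rw [h1]; ring⟩)
  simp only [L.mod, bne_self_eq_false, Bool.false_or, List.all_eq_true, List.mem_range] at h2
  have h3 := h2 e L.lt
  have h4 : N / (p * e * n) = v := by
    rw [h1, Nat.mul_div_cancel_left _ (Nat.pos_of_mul_pos_right (h1 ▸ h0))]
  simpa [show ¬ e < 2 from not_lt.2 L.two, Nat.mod_eq_zero_of_dvd (Dvd.intro _ L.het), h4,
    Nat.mod_eq_zero_of_dvd (Dvd.intro _ h1.symm)] using h3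

theorem selfCent (h : v = 1) : SelfCent p G :=
  selfCent_of_card_centralizer P L.hP (by rw [L.hC, h, mul_one])

omit [Fintype G] in
theorem v_eq (h : SelfCent p G) : v = 1 := by
  obtain ⟨x, hx, hx1⟩ := exists_mem_ne_one L.hP
  have := h.card_centralizer (orderOf_eq_of_mem_of_card_prime hp.out L.hP hx hx1)
  rw [centralizer_singleton_eq L.hP hx hx1, L.hC] at this
  exact (Nat.mul_eq_left hp.out.ne_zero).1 this

theorem sg_eq (D : BrData G p P e t) {χ : IrrCharacter G} (hχ : χ ∈ D.X) :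
    D.sg χ = sgd p (charDegree χ.1) ∧ (charDegree χ.1 % p = 1 ∨ charDegree χ.1 % p + 1 = p) := by
  obtain ⟨k, hk⟩ := D.deg_modEq L.hP hχ
  have h1 := L.ne_two
  have h2 := hp.out.two_le
  have h3 := Nat.mod_lt (charDegree χ.1) hp.out.pos
  have h4 := Nat.div_add_mod (charDegree χ.1) p
  generalize charDegree χ.1 / p = q at h4
  unfold sgd
  generalize charDegree χ.1 % p = r at *
  have h5 : (p : ℤ) ∣ r - D.sg χ := ⟨k - q, by rw [← h4] at hk; push_cast at hk; linarith⟩
  rcases D.sg_pm χ hχ with h | h <;> rw [h] at h5 ⊢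
  · have := Int.eq_zero_of_abs_lt_dvd h5 (by rw [abs_lt]; omega)
    obtain rfl : r = 1 := by omega
    simp
  · have := Int.eq_zero_of_abs_lt_dvd (h5.sub (dvd_refl _)) (by rw [abs_lt]; omega)
    rw [show Nat.beq r 1 = false by rw [Bool.eq_false_iff, ne_eq, Nat.beq_eq]; omega]
    exact ⟨rfl, Or.inr (by omega)⟩

theorem eps_eq (D : BrData G p P e t) :
    D.ε = eps p e D.z ∧ (D.z % p = e ∨ D.z % p + e = p) := by
  obtain ⟨k, hk⟩ := D.z_modEq' L.hP L.het
  have h1 := L.lt
  have h2 := L.two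
  have h3 := Nat.mod_lt D.z hp.out.pos
  have h4 := Nat.div_add_mod D.z p
  have h6 : p ≠ e + e := fun h => by
    have := hp.out.eq_one_or_self_of_dvd 2 ⟨e, by omega⟩
    omega
  generalize D.z / p = q at h4
  unfold eps
  generalize D.z % p = r at *
  have h5 : (p : ℤ) ∣ r - D.ε * e := ⟨k - q, by rw [← h4] at hk; push_cast at hk; linarith⟩
  rcases D.eps_pm with h | h <;> rw [h] at h5 ⊢
  · have := Int.eq_zero_of_abs_lt_dvd h5 (by rw [abs_lt]; omega)
    obtain rfl : r = e := by omega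
    simp
  · have := Int.eq_zero_of_abs_lt_dvd (h5.sub (dvd_refl _)) (by rw [abs_lt]; omega)
    rw [show Nat.beq r e = false by rw [Bool.eq_false_iff, ne_eq, Nat.beq_eq]; omega]
    exact ⟨rfl, Or.inr (by omega)⟩

theorem lo_le [IsSimpleGroup G] (hG : ¬ IsMulCommutative G) (D : BrData G p P e t)
    {χ : IrrCharacter G} (hχ : χ ∈ D.X ∨ χ ∈ D.Y) (h1 : χ ≠ H21.triv G) :
    lo p v ≤ charDegree χ.1 := by
  unfold lo
  by_cases hv : v = 1
  · have := H21.deg_ne_zero χ
    have : charDegree χ.1 ≠ 1 := fun h => h1 (eq_triv_of_deg_one (commutator_eq_top hG) h)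
    rw [hv]; change 2 ≤ _; omega
  · rw [show Nat.beq v 1 = false by rwa [Bool.eq_false_iff, ne_eq, Nat.beq_eq], cond_false]
    exact not_lt.1 fun h => hv (L.v_eq (selfCent_of_deg_lt hG P L.hP D.hM ((D.mem χ).2 hχ) h1 h))

open Classical in
theorem col_sound [IsSimpleGroup G] (hG : ¬ IsMulCommutative G) {N : ℕ} (hN : Nat.card G = N)
    {Dv : List ℕ} (hD : Dvs N Dv) (D : BrData G p P e t) {ok : ℕ → Bool} {vl : ℕ → List ℤ}
    {W : It → ℤ} {a1 : ℤ} {B1 B2 : ℕ} {f : It → List It → Bool}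
    (h : col p n e v Dv ok vl W a1 B1 B2 f = true) (w : IrrCharacter G → ℤ) {b : ℤ}
    (hb : ∀ θ ∈ D.Y, w θ = b) (ha : w (H21.triv G) = a1)
    (hok : ∀ χ, χ ∈ D.X ∨ χ ∈ D.Y → χ ≠ H21.triv G →
      ok (charDegree χ.1) = true ∧ w χ ∈ vl (charDegree χ.1))
    (hW : D.ε * W (D.z, b) = ∑ χ ∈ D.X, D.sg χ * W (charDegree χ.1, w χ))
    (h1 : ∑ χ ∈ D.X, charDegree χ.1 ^ 2 + t * D.z ^ 2 ≤ B1)
    (h2 : ∑ χ ∈ D.X, w χ ^ 2 + t * b ^ 2 ≤ B2) :
    ∃ l : List (IrrCharacter G), l.Nodup ∧ (∀ χ, χ ∈ l ↔ χ ∈ D.X ∧ χ ≠ H21.triv G) ∧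
      f (D.z, b) (l.map fun χ => (charDegree χ.1, w χ)) = true := by
  have hmem : ∀ χ : IrrCharacter G, charDegree χ.1 ∈ Dv := fun χ =>
    hD _ (hN ▸ H21.deg_dvd_card χ) (by rw [← hN, ← sq]; exact charDegree_sq_le χ)
  obtain ⟨θ, hθ⟩ : D.Y.Nonempty := Finset.card_pos.1 (D.cardY.symm ▸ L.tpos)
  have hθ1 := D.ne_triv_of_mem_Y hθ
  have hz := D.degY θ hθ
  rw [col, blk, L.t_eq, Bool.and_eq_true, List.all_eq_true] at h
  have h3 := h.2 (D.z, b) (mem_cand (hz ▸ hmem θ) (hz ▸ L.lo_le hG D (Or.inr hθ) hθ1)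
    (L.idx ▸ D.z_dvd L.hP L.tpos) (L.eps_eq D).2 (hz ▸ (hok θ (Or.inr hθ) hθ1).1)
    (hz ▸ hb θ hθ ▸ (hok θ (Or.inr hθ) hθ1).2))
  have d1 : charDegree (H21.triv G).1 = 1 := H21.charDegree_one
  have h4 := D.deg_eq L.tpos
  rw [← Finset.add_sum_erase _ _ D.triv_mem] at hW h1 h2 h4
  rw [D.sg_triv L.hP, d1] at hW h4
  rw [d1] at h1
  rw [ha] at hW h2
  have h5 : (a1.natAbs * a1.natAbs + ∑ χ ∈ D.X.erase (H21.triv G), (w χ).natAbs * (w χ).natAbs +
      t * (b.natAbs * b.natAbs) : ℕ) ≤ B2 := by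
    zify
    simpa only [← sq, sq_abs] using h2
  simp only [sq] at h1
  simp only [Bool.or_eq_true, Nat.blt_eq] at h3
  have hs : ∀ χ ∈ D.X.erase (H21.triv G), D.sg χ = sgd p (charDegree χ.1) := fun χ h =>
    (L.sg_eq D (Finset.mem_of_mem_erase h)).1
  rw [Finset.sum_congr rfl fun χ h => by rw [hs χ h], (L.eps_eq D).1] at hW h4
  obtain ⟨l, hl, hf⟩ := go_sound (it := fun χ : IrrCharacter G => (charDegree χ.1, w χ)) _
    (pairwise_of_srt _ h.1) _ _ _ _ _ [] (D.X.erase (H21.triv G)).val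
    (h3.resolve_left (by omega))
    ⟨by rw [Finset.card_val, Finset.card_erase_of_mem D.triv_mem, D.cardX],
      by rw [← Finset.sum_eq_multiset_sum]; push_cast at h4; linarith,
      by rw [← Finset.sum_eq_multiset_sum]; linarith,
      by rw [← Finset.sum_eq_multiset_sum]; dsimp only; omega,
      by rw [← Finset.sum_eq_multiset_sum]; dsimp only; omega⟩
    fun χ hχ => by
      obtain ⟨a, b⟩ := Finset.mem_erase.1 hχ
      exact mem_cand (hmem χ) (L.lo_le hG D (Or.inl b) a) (L.idx ▸ D.degX_dvd L.hP b)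
        (L.sg_eq D b).2 (hok χ (Or.inl b) a).1 (hok χ (Or.inl b) a).2
  rw [Multiset.coe_nil, add_zero] at hl
  exact ⟨l, Multiset.coe_nodup.1 (hl ▸ (D.X.erase _).nodup), fun χ => by
    rw [← Multiset.mem_coe, hl, Finset.mem_val, Finset.mem_erase, and_comm], hf⟩

end Loc
end

end Cfsg.Agent.H13.Eng
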