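import Mathlib
import Cfsg.Agent.H13.OrdRel

/-! Simple groups of order `10200960`: finite checks, part one. -/

namespace Cfsg.Agent.H13.M23

open Cfsg Cfsg.Agent.H58 Cfsg.Agent.H13.BrTools Cfsg.Agent.H13.ChTools Cfsg.Agent.H13.Eng MulAction

theorem fact23 : Fact (Nat.Prime 23) := ⟨by norm_num⟩
theorem fact7 : Fact (Nat.Prime 7) := ⟨by norm_num⟩

/-- the small divisors -/
def Dv : List ℕ := [3168, 3080, 3036, 2944, 2898, 2880, 2772, 2760, 2688, 2640, 2576, 2530, 2520,
  2464, 2415, 2310, 2277, 2240, 2208, 2112, 2070, 2024, 2016, 1980, 1932, 1920, 1848, 1840, 1771,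
  1760, 1680, 1656, 1610, 1584, 1540, 1518, 1472, 1449, 1440, 1408, 1386, 1380, 1344, 1320, 1288,
  1265, 1260, 1232, 1155, 1152, 1120, 1104, 1056, 1035, 1012, 1008, 990, 966, 960, 924, 920, 896,
  880, 840, 828, 805, 792, 770, 759, 736, 720, 704, 693, 690, 672, 660, 644, 640, 630, 616, 576,
  560, 552, 528, 506, 504, 495, 483, 480, 462, 460, 448, 440, 420, 414, 396, 385, 384, 368, 360,
  352, 345, 336, 330, 322, 320, 315, 308, 288, 280, 276, 264, 253, 252, 240, 231, 230, 224, 220,
  210, 207, 198, 192, 184, 180, 176, 168, 165, 161, 160, 154, 144, 140, 138, 132, 128, 126, 120,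
  115, 112, 110, 105, 99, 96, 92, 90, 88, 84, 80, 77, 72, 70, 69, 66, 64, 63, 60, 56, 55, 48, 46,
  45, 44, 42, 40, 36, 35, 33, 32, 30, 28, 24, 23, 22, 21, 20, 18, 16, 15, 14, 12, 11, 10, 9, 8, 7,
  6, 5, 4, 3, 2, 1]

theorem hDv : Dvs 10200960 Dv := dvs_of_check 3194 (by norm_num) (by decide +kernel)

theorem a1 : locAll 10200960 23 Dv (fun n e v => (n == 40320 && e == 11 && v == 1) ||
    (n == 1680 && (e == 11 || e == 22)) || col 23 n e v Dv (fun _ => true) (fun _ => [0])
      (fun _ => 0) 0 10200960 0 fun _ _ => false) = true := by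
  decide +kernel

theorem a2 : divAll 10200960 Dv (fun C => (C % 506 != 0 || C == 10200960) ||
    col 23 1680 11 24 Dv (fun _ => true) (vals 10200960 C fun d a => (d - a) % (4 * 23) == 0)
      (fun x => x.2) 1 10200960 C fun _ _ => false) = true := by
  decide +kernel

theorem a3 : divAll 10200960 Dv (fun C => (C % 506 != 0 || C == 10200960) ||
    col 23 1680 22 12 Dv (fun _ => true) (vals 10200960 C fun d a => (d - a) % (4 * 23) == 0)
      (fun x => x.2) 1 10200960 C fun _ _ => false) = true := by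
  decide +kernel

theorem b1 : locAll 10200960 7 Dv (fun n e v => v % 23 == 0 || v % 11 != 0 ||
    col 7 n e v Dv (okp 23 11) (fun _ => [0]) (fun x => tw 23 11 x.1) 0 10200960 0 fun z l =>
      e == 3 && (n == 736 || n == 11040) && allIn [92, 69, 24] z l) = true := by
  decide +kernel

/-- the relations on the column of an involution -/
def W1 (x : It) : ℤ := x.2 + 100000 * tw 23 11 x.1 + 10000000 * (x.2 * x.2 * (10200960 / x.1 : ℕ))

theorem b2 : ∀ n ∈ [736, 11040], divAll 10200960 Dv (fun C => (C % 128 != 0 || C % 23 == 0) ||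
    col 7 n 3 (485760 / n) Dv [92, 69, 24].contains (vals 10200960 C fun d a => (d - a) % 4 == 0)
      W1 1 10200960 C fun _ _ => false) = true := by
  decide +kernel

theorem b3 : locAll 10200960 11 Dv (fun n e v => v % 23 == 0 || v % 7 == 0 ||
    (n == 185472 && e == 5 && v == 1) ||
    col 11 n e v Dv (okp 23 11) (fun _ => [0]) (fun x => tw 23 11 x.1) 0 10200960 0 fun z l =>
      (e == 2 && (l == [(23, 0)] && z.1 == 24 || l == [(45, 0)] && v % 5 != 0)) ||
      (n == 15456 && e == 5 && v == 12 && allIn [23, 160, 230, 276, 483, 736, 1288] z l)) =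
    true := by
  decide +kernel

theorem b4 : divAll 10200960 Dv (fun C => (C % 110 != 0 || C % 23 == 0) ||
    col 11 15456 5 12 Dv [23, 160, 230, 276, 483, 736, 1288].contains
      (vals 10200960 C fun d a => (d - a) % (4 * 11) == 0) W1 1 10200960 C fun _ _ => false) =
    true := by
  decide +kernel

end Cfsg.Agent.H13.M23
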