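import Mathlib

/-! An arithmetic lemma on sums of four squares. -/

set_option autoImplicit false

namespace Cfsg.Agent.H13.K4Ar

def Key (x y z : ℤ) : Prop := ∀ b c d : ℤ,
  (b * x + c * y + d * z) ^ 2 + (b * x + c * y + d * z) ≤ (1 + x ^ 2 + y ^ 2 + z ^ 2) * (b ^ 2 + c ^ 2 + d ^ 2)

theorem bnd {x y z : ℤ} (h : Key x y z) (k b c d r s t : ℤ) (h1 : k * x = 8 * b + r)
    (h2 : k * y = 8 * c + s) (h3 : k * z = 8 * d + t) :
    (8 * k - k ^ 2 - (r ^ 2 + s ^ 2 + t ^ 2)) * (x ^ 2 + y ^ 2 + z ^ 2) ≤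
      r ^ 2 + s ^ 2 + t ^ 2 + (4 - k) ^ 2 := by
  have e := h b c d
  have hr : r = k * x - 8 * b := by linarith
  have hs : s = k * y - 8 * c := by linarith
  have ht : t = k * z - 8 * d := by linarith
  have := sq_nonneg (r * x + s * y + t * z - (4 - k))
  subst hr hs ht
  nlinarith [e, this]

theorem odd3 (x : ℤ) (hx : x % 2 = 1) : (∃ b r : ℤ, 3 * x = 8 * b + r ∧ r ^ 2 = 1) ∨
    ((∃ b r : ℤ, 1 * x = 8 * b + r ∧ r ^ 2 = 1) ∧ ∃ b r : ℤ, 3 * x = 8 * b + r ∧ r ^ 2 = 9) := by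
  have : x % 8 = 1 ∨ x % 8 = 3 ∨ x % 8 = 5 ∨ x % 8 = 7 := by omega
  rcases this with h | h | h | h
  · exact .inr ⟨⟨x / 8, 1, by omega, by norm_num⟩, 3 * (x / 8), 3, by omega, by norm_num⟩
  · exact .inl ⟨3 * (x / 8) + 1, 1, by omega, by norm_num⟩
  · exact .inl ⟨3 * (x / 8) + 2, -1, by omega, by norm_num⟩
  · exact .inr ⟨⟨x / 8 + 1, -1, by omega, by norm_num⟩, 3 * (x / 8) + 3, -3, by omega, by norm_num⟩

theorem odd2 (x : ℤ) (hx : x % 2 = 1) : ∃ b r : ℤ, 2 * x = 8 * b + r ∧ r ^ 2 = 4 := by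
  have : x % 4 = 1 ∨ x % 4 = 3 := by omega
  rcases this with h | h
  · exact ⟨x / 4, 2, by omega, by norm_num⟩
  · exact ⟨x / 4 + 1, -2, by omega, by norm_num⟩

theorem two (x : ℤ) (hx : x % 4 = 2) : ∃ b r : ℤ, x = 8 * b + r ∧ r ^ 2 = 4 := by
  have : x % 8 = 2 ∨ x % 8 = 6 := by omega
  rcases this with h | h
  · exact ⟨x / 8, 2, by omega, by norm_num⟩
  · exact ⟨x / 8 + 1, -2, by omega, by norm_num⟩

theorem small {x y z : ℤ} (hx : x % 2 = 1) (hy : y % 2 = 1) (hz : z % 4 = 2)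
    (h : x ^ 2 + y ^ 2 + z ^ 2 ≤ 15) :
    1 + x ^ 2 + y ^ 2 + z ^ 2 = 7 ∨ 1 + x ^ 2 + y ^ 2 + z ^ 2 = 15 := by
  have a1 : -4 < x ∧ x < 4 := by constructor <;> nlinarith [sq_nonneg y, sq_nonneg z]
  have a2 : -4 < y ∧ y < 4 := by constructor <;> nlinarith [sq_nonneg x, sq_nonneg z]
  have a3 : -4 < z ∧ z < 4 := by constructor <;> nlinarith [sq_nonneg x, sq_nonneg y]
  obtain ⟨_, _⟩ := a1
  obtain ⟨_, _⟩ := a2
  obtain ⟨_, _⟩ := a3
  interval_cases x <;> interval_cases y <;> interval_cases z <;> omega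

theorem fin {x y z : ℤ} (h : Key x y z) (hx : x % 2 = 1) (hy : y % 2 = 1) (hz : z % 2 = 0) :
    1 + x ^ 2 + y ^ 2 + z ^ 2 = 3 ∨ 1 + x ^ 2 + y ^ 2 + z ^ 2 = 7 ∨ 1 + x ^ 2 + y ^ 2 + z ^ 2 = 15 := by
  have : z % 4 = 0 ∨ z % 4 = 2 := by omega
  rcases this with h4 | h4
  · obtain ⟨b, r, e1, e2⟩ := odd2 x hx
    obtain ⟨c, s, f1, f2⟩ := odd2 y hy
    have := bnd h 2 b c (z / 4) r s 0 e1 f1 (by omega)
    rw [e2, f2] at this
    have a1 : -2 < x ∧ x < 2 := by constructor <;> nlinarith [sq_nonneg y, sq_nonneg z]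
    have a2 : -2 < y ∧ y < 2 := by constructor <;> nlinarith [sq_nonneg x, sq_nonneg z]
    have a3 : -2 < z ∧ z < 2 := by constructor <;> nlinarith [sq_nonneg x, sq_nonneg y]
    obtain ⟨_, _⟩ := a1
    obtain ⟨_, _⟩ := a2
    obtain ⟨_, _⟩ := a3
    left
    clear this
    interval_cases x <;> interval_cases y <;> interval_cases z <;> omega
  · right
    refine small hx hy h4 ?_
    obtain ⟨d, t, g1, g2⟩ := two z h4
    obtain ⟨d', t', g3, g4⟩ := two (3 * z) (by omega)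
    have p := add_nonneg (add_nonneg (sq_nonneg x) (sq_nonneg y)) (sq_nonneg z)
    rcases odd3 x hx with ⟨b, r, e1, e2⟩ | ⟨⟨b', r', e3, e4⟩, b, r, e1, e2⟩ <;>
      rcases odd3 y hy with ⟨c, s, f1, f2⟩ | ⟨⟨c', s', f3, f4⟩, c, s, f1, f2⟩
    · have := bnd h 3 b c d' r s t' e1 f1 g3
      rw [e2, f2, g4] at this
      linarith
    · have := bnd h 3 b c d' r s t' e1 f1 g3
      rw [e2, f2, g4] at this
      linarith
    · have := bnd h 3 b c d' r s t' e1 f1 g3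
      rw [e2, f2, g4] at this
      linarith
    · have := bnd h 1 b' c' d r' s' t e3 f3 (by rw [one_mul]; exact g1)
      rw [e4, f4, g2] at this
      linarith

theorem key (q x y z : ℤ) (hq : q = 1 + x ^ 2 + y ^ 2 + z ^ 2)
    (H : ∀ a b c d : ℤ, q ∣ b - a * x → q ∣ c - a * y → q ∣ d - a * z →
      q * a ≤ a ^ 2 + b ^ 2 + c ^ 2 + d ^ 2) : Key x y z := by
  intro b c d
  have q0 : 0 < q := by rw [hq]; positivity
  have := H (b * x + c * y + d * z) ((b * x + c * y + d * z) * x - q * b)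
    ((b * x + c * y + d * z) * y - q * c) ((b * x + c * y + d * z) * z - q * d)
    ⟨-b, by ring⟩ ⟨-c, by ring⟩ ⟨-d, by ring⟩
  rw [← hq]
  refine le_of_mul_le_mul_left ?_ q0
  have e : (b * x + c * y + d * z) ^ 2 * q =
    (b * x + c * y + d * z) ^ 2 * (1 + x ^ 2 + y ^ 2 + z ^ 2) := by rw [← hq]
  nlinarith [this, e]

theorem ar (q x y z : ℤ) (hq : q = 1 + x ^ 2 + y ^ 2 + z ^ 2) (ho : Odd q)
    (H : ∀ a b c d : ℤ, q ∣ b - a * x → q ∣ c - a * y → q ∣ d - a * z →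
      q * a ≤ a ^ 2 + b ^ 2 + c ^ 2 + d ^ 2) : q = 1 ∨ q = 3 ∨ q = 7 ∨ q = 15 := by
  have h := key q x y z hq H
  have sq : ∀ w : ℤ, w ^ 2 % 2 = w % 2 := fun w => by
    rcases Int.emod_two_eq_zero_or_one w with e | e <;> simp [pow_two, Int.mul_emod, e]
  have s1 := sq x
  have s2 := sq y
  have s3 := sq z
  have o := Int.odd_iff.1 ho
  have : (x % 2 = 0 ∧ y % 2 = 0 ∧ z % 2 = 0) ∨ (x % 2 = 1 ∧ y % 2 = 1 ∧ z % 2 = 0) ∨
      (x % 2 = 1 ∧ z % 2 = 1 ∧ y % 2 = 0) ∨ (y % 2 = 1 ∧ z % 2 = 1 ∧ x % 2 = 0) := by omega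
  rcases this with ⟨a, b, c⟩ | ⟨a, b, c⟩ | ⟨a, b, c⟩ | ⟨a, b, c⟩
  · have := bnd h 4 (x / 2) (y / 2) (z / 2) 0 0 0 (by omega) (by omega) (by omega)
    have p := add_nonneg (add_nonneg (sq_nonneg x) (sq_nonneg y)) (sq_nonneg z)
    left
    linarith
  · right
    rw [hq]
    exact fin h a b c
  · have := fin (x := x) (y := z) (z := y) (fun b c d => by have := h b d c; linarith) a b c
    omega
  · have := fin (x := y) (y := z) (z := x) (fun b c d => by have := h d b c; linarith) a b c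
    omega

end Cfsg.Agent.H13.K4Ar
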