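import Cfsg.Agent.H63.A8Defs
import Cfsg.Agent.H95.AutAlt
import Cfsg.Agent.H58.Simple

/-!
# A standard subgroup `A₈`: the set-up and the elementary kit
-/

set_option autoImplicit false

namespace Cfsg.Agent.H13.A8K

open Cfsg Cfsg.Agent.H63 Cfsg.Agent.H63.SL Cfsg.Agent.H63.WR Cfsg.Agent.H63.A8 Subgroup
open Equiv (swap)
open Equiv.Perm (sign)
open scoped commutatorElement

universe u

theorem cA_val (p : S8) (a : Alt) : (cA p a).1 = p * a.1 * p⁻¹ := rfl

theorem cA_mul (p q : S8) (a : Alt) : cA (p * q) a = cA p (cA q a) :=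
  Subtype.ext (by simp only [cA_val, mul_inv_rev, mul_assoc])

theorem cA_one (a : Alt) : cA 1 a = a := Subtype.ext (by simp [cA_val])

theorem cA_coe (b a : Alt) : cA b.1 a = b * a * b⁻¹ := Subtype.ext rfl

theorem cA_ext {p q : S8} (h : ∀ a, cA p a = cA q a) : p = q := by
  have : q⁻¹ * p = 1 := by
    refine H95.AutAlt.eq_one_of_comm (by simp) fun g hg => ?_
    have := congrArg Subtype.val (h ⟨g, hg⟩)
    simp only [cA_val] at this
    rw [mul_inv_rev, inv_inv]
    calc q⁻¹ * p * g * (p⁻¹ * q) = q⁻¹ * (p * g * p⁻¹) * q := by group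
      _ = g := by rw [this]; group
  exact (inv_mul_eq_one.mp this).symm

theorem set : A8.SetStmt.{u} := by
  classical
  intro G _ _ X L t R ⟨e⟩
  let ι : Alt →* G := L.subtype.comp e.symm.toMonoidHom
  have hι : ∀ a, ι a = (e.symm a : G) := fun _ => rfl
  have inj : Function.Injective ι := fun a b h => e.symm.injective (Subtype.ext h)
  have tc : ∀ a, Commute (ι a) t := fun a => R.tc _ (e.symm a).2
  have ex : ∀ g, Commute g t → ∃ ρ : S8, ∀ a, g * ι a * g⁻¹ = ι (cA ρ a) := by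
    intro g hg
    have hN : g ∈ N[L] := R.cN (mem_centralizer_singleton_iff.mpr hg)
    let ψ : MulAut Alt := (e.symm.trans (L.normalizerMonoidHom ⟨g, hN⟩)).trans e
    obtain ⟨ρ, hρ⟩ := H95.AutAlt.exists_conj (by simp) (by simp) ψ
    refine ⟨ρ, fun a => ?_⟩
    have : cA ρ a = ψ a := Subtype.ext (hρ a).symm
    rw [this, hι, hι]
    simp [ψ]
  let π : G → S8 := fun g => if h : Commute g t then (ex g h).choose else 1
  have act : ∀ g, Commute g t → ∀ a, g * ι a * g⁻¹ = ι (cA (π g) a) := by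
    intro g hg
    have : π g = (ex g hg).choose := dif_pos hg
    rw [this]
    exact (ex g hg).choose_spec
  refine ⟨ι, π, ?_, inj, ?_, ?_, tc, ?_, act, ?_⟩
  · ext x
    constructor
    · rintro ⟨a, rfl⟩
      exact (e.symm a).2
    · intro hx
      exact ⟨e ⟨x, hx⟩, by simp [hι]⟩
  · rw [← pow_two, ← R.t2, pow_orderOf_eq_one]
  · intro h
    have := R.t2
    rw [h, orderOf_one] at this
    omega
  · intro g h hg hh
    refine cA_ext fun a => inj ?_
    rw [← act _ (hg.mul_left hh), cA_mul, ← act _ hg, ← act _ hh]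
    group
  · intro b
    refine cA_ext fun a => inj ?_
    rw [← act _ (tc b), cA_coe]
    simp

section Kit

variable {G : Type u} [Group G] {ι : Alt →* G} {π : G → S8} {t : G}

theorem one (h : Hb ι π t) : π 1 = 1 := by
  have := h.mul 1 1 (Commute.one_left t) (Commute.one_left t)
  rw [one_mul] at this
  exact mul_eq_left.mp this.symm

theorem ker (h : Hb ι π t) (g : G) (hg : Commute g t) : π g = 1 ↔ ∀ a, Commute g (ι a) := by
  constructor
  · intro h1 a
    have := h.act g hg a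
    rw [h1, cA_one] at this
    exact mul_inv_eq_iff_eq_mul.mp this
  · intro h1
    refine cA_ext fun a => h.inj ?_
    rw [← h.act g hg, cA_one, (h1 a).eq, mul_inv_cancel_right]

theorem pt (h : Hb ι π t) : π t = 1 := (ker h t (Commute.refl t)).mpr fun a => (h.tc a).symm

theorem inv (h : Hb ι π t) (g : G) (hg : Commute g t) : π g⁻¹ = (π g)⁻¹ := by
  rw [eq_inv_iff_mul_eq_one, ← h.mul _ _ hg.inv_left hg, inv_mul_cancel, one h]

theorem pow (h : Hb ι π t) (g : G) (hg : Commute g t) (n : ℕ) : π (g ^ n) = π g ^ n := by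
  induction n with
  | zero => simp [one h]
  | succ n ih => rw [pow_succ, h.mul _ _ (hg.pow_left n) hg, ih, pow_succ]

theorem hom (h : Hb ι π t) : ∃ f : C1[t] →* S8, ∀ g, f g = π g :=
  ⟨MonoidHom.mk' (fun g => π g) fun a b => h.mul _ _ (mem_centralizer_singleton_iff.mp a.2)
    (mem_centralizer_singleton_iff.mp b.2), fun _ => rfl⟩

theorem tn (h : Hb ι π t) (a : Alt) : ι a ≠ t := by
  intro e
  have h1 : a = 1 := Subtype.ext (by rw [← h.sec a, e, pt h]; rfl)
  exact h.t1 (by rw [← e, h1, map_one])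

/-- An element acting as an even permutation. -/
theorem split (h : Hb ι π t) (g : G) (hg : Commute g t) (a : Alt) (ha : π g = a.1) :
    Commute (g * (ι a)⁻¹) t ∧ π (g * (ι a)⁻¹) = 1 :=
  ⟨hg.mul_left (h.tc a).inv_left, by
    rw [h.mul _ _ hg (h.tc a).inv_left, inv h _ (h.tc a), h.sec, ha, mul_inv_cancel]⟩

theorem pow_split (h : Hb ι π t) {k : G} (hk : Commute k t) (h1 : π k = 1) (a : Alt) {n : ℕ}
    (hn : (k * ι a) ^ n = 1) : k ^ n = 1 := by
  have h2 : a ^ n = 1 := by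
    have := pow h _ (hk.mul_left (h.tc a)) n
    rw [hn, one h, h.mul _ _ hk (h.tc a), h1, one_mul, h.sec] at this
    exact Subtype.ext (by simpa using this.symm)
  rwa [((ker h k hk).mp h1 a).mul_pow, ← map_pow, h2, map_one, mul_one] at hn

theorem ev' (h : Hy ι π t) (g : G) (hg : Commute g t) (h2 : Is2 g) (a : Alt) (ha : π g = a.1) :
    g = ι a ∨ g = t * ι a := by
  obtain ⟨h3, h4⟩ := split h.toHb g hg a ha
  obtain ⟨n, hn⟩ := h2
  rcases h.r2 _ h3 h4 ⟨n, pow_split h.toHb h3 h4 a (by rwa [inv_mul_cancel_right])⟩ with e | e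
  · exact Or.inl (mul_inv_eq_one.mp e)
  · exact Or.inr (mul_inv_eq_iff_eq_mul.mp e)

/-- The kernel. -/
def K0 (h : Hb ι π t) : Subgroup G where
  carrier := {k | Commute k t ∧ π k = 1}
  one_mem' := ⟨Commute.one_left t, one h⟩
  mul_mem' := fun ha hb => ⟨ha.1.mul_left hb.1, by rw [h.mul _ _ ha.1 hb.1, ha.2, hb.2, one_mul]⟩
  inv_mem' := fun ha => ⟨ha.1.inv_left, by rw [inv h _ ha.1, ha.2, inv_one]⟩

theorem mem_K0 (h : Hb ι π t) {k : G} : k ∈ K0 h ↔ Commute k t ∧ π k = 1 := Iff.rfl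

theorem odd [Finite G] (h : Hy ι π t) : ∃ O : Subgroup G, Odd (Nat.card O) ∧ O ≤ C1[t] ∧
    C1[t] ≤ N[O] ∧ ∀ k, Commute k t → (π k = 1 ↔ k ∈ O ∨ k * t ∈ O) := by
  have : Fact (Nat.Prime 2) := ⟨Nat.prime_two⟩
  obtain ⟨P⟩ : Nonempty (Sylow 2 (K0 h.toHb)) := inferInstance
  have hP : ∀ x ∈ (P : Subgroup (K0 h.toHb)), x.1 = 1 ∨ x.1 = t := by
    intro x hx
    obtain ⟨n, hn⟩ := P.2 ⟨x, hx⟩
    exact h.r2 _ x.2.1 x.2.2 ⟨n, by simpa using congrArg (fun y => y.1.1) hn⟩
  obtain ⟨K, hK, hc⟩ := H58.exists_normal_complement_of_normalizer_le P (by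
    intro x _ y hy
    apply Subtype.ext
    rcases hP y hy with e | e
    · simp [e]
    · simpa [e] using x.2.1.eq.symm)
  have hodd : Odd (Nat.card K) := by
    rw [← hc.index_eq_card, ← Nat.not_even_iff_odd, even_iff_two_dvd]
    exact P.not_dvd_index
  have hO : Nat.card (K.map (K0 h.toHb).subtype) = Nat.card K :=
    card_map_of_injective (K0 h.toHb).subtype_injective
  have dec : ∀ k, Commute k t → π k = 1 →
      k ∈ K.map (K0 h.toHb).subtype ∨ k * t ∈ K.map (K0 h.toHb).subtype := by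
    intro k hk h1
    obtain ⟨⟨o, p⟩, e⟩ := hc.2 ⟨k, hk, h1⟩
    have e' : o.1.1 * p.1.1 = k := congrArg Subtype.val e
    rcases hP _ p.2 with e2 | e2
    · exact Or.inl ⟨o.1, o.2, by rw [← e', e2, mul_one]; rfl⟩
    · exact Or.inr ⟨o.1, o.2, by rw [← e', e2, mul_assoc, h.t2, mul_one]; rfl⟩
  have sub : ∀ k ∈ K.map (K0 h.toHb).subtype, Commute k t ∧ π k = 1 := by
    rintro _ ⟨o, -, rfl⟩
    exact o.2
  have pw : ∀ k ∈ K.map (K0 h.toHb).subtype, k ^ Nat.card K = 1 := by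
    intro k hk
    rw [← hO]
    simpa using congrArg Subtype.val (pow_card_eq_one' (x := (⟨k, hk⟩ : K.map _)))
  have nrm : ∀ g, Commute g t → ∀ k ∈ K.map (K0 h.toHb).subtype,
      g * k * g⁻¹ ∈ K.map (K0 h.toHb).subtype := by
    intro g hg k hk
    obtain ⟨k1, k2⟩ := sub k hk
    have c1 : Commute (g * k * g⁻¹) t := (hg.mul_left k1).mul_left hg.inv_left
    have c2 : π (g * k * g⁻¹) = 1 := by
      rw [h.mul _ _ (hg.mul_left k1) hg.inv_left, h.mul _ _ hg k1, k2, inv h.toHb _ hg, mul_one,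
        mul_inv_cancel]
    refine (dec _ c1 c2).resolve_right fun h3 => h.t1 ?_
    have h4 := pw _ h3
    rw [c1.mul_pow, conj_pow, pw k hk, mul_one, mul_inv_cancel, one_mul] at h4
    obtain ⟨m, hm⟩ := hodd
    rwa [hm, pow_succ, pow_mul, pow_two, h.t2, one_pow, one_mul] at h4
  refine ⟨K.map (K0 h.toHb).subtype, hO ▸ hodd,
    fun k hk => mem_centralizer_singleton_iff.mpr (sub k hk).1, fun g hg => ?_, fun k hk => ?_⟩
  · have hg' : Commute g t := mem_centralizer_singleton_iff.mp hg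
    refine mem_normalizer_iff.mpr fun k => ⟨nrm g hg' k, fun hk => ?_⟩
    simpa [mul_assoc] using nrm g⁻¹ hg'.inv_left _ hk
  · refine ⟨dec k hk, ?_⟩
    rintro (h1 | h1)
    · exact (sub _ h1).2
    · have := (sub _ h1).2
      rwa [h.mul _ _ hk (Commute.refl t), pt h.toHb, mul_one] at this

theorem der [Finite G] (h : Hy ι π t) : ∀ g ∈ ⁅C1[t], C1[t]⁆, Is2 g → ∃ a, g = ι a := by
  obtain ⟨O, hodd, hle, hN, hO⟩ := odd h
  have oc : ∀ o ∈ O, Commute o t := fun o ho => mem_centralizer_singleton_iff.mp (hle ho)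
  have ok : ∀ o ∈ O, ∀ a, Commute o (ι a) := fun o ho =>
    (ker h.toHb o (oc o ho)).mp ((hO o (oc o ho)).mpr (Or.inl ho))
  let M : Subgroup G :=
    { carrier := {g | ∃ o ∈ O, ∃ a, g = o * ι a}
      one_mem' := ⟨1, O.one_mem, 1, by simp⟩
      mul_mem' := by
        rintro _ _ ⟨o, ho, a, rfl⟩ ⟨o', ho', b, rfl⟩
        exact ⟨o * o', O.mul_mem ho ho', a * b, by
          rw [map_mul, mul_assoc, ← mul_assoc (ι a), ← (ok o' ho' a).eq]; group⟩
      inv_mem' := by
        rintro _ ⟨o, ho, a, rfl⟩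
        exact ⟨o⁻¹, O.inv_mem ho, a⁻¹, by rw [(ok o ho a).eq, mul_inv_rev, map_inv]⟩ }
  have mM : ∀ g, g ∈ M ↔ ∃ o ∈ O, ∃ a, g = o * ι a := fun _ => Iff.rfl
  have nM : ∀ g, Commute g t → ∀ x ∈ M, g * x * g⁻¹ ∈ M := by
    rintro g hg _ ⟨o, ho, a, rfl⟩
    refine ⟨g * o * g⁻¹, (mem_normalizer_iff.mp (hN (mem_centralizer_singleton_iff.mpr hg)) o).mp ho,
      cA (π g) a, ?_⟩
    rw [← h.act g hg]
    group
  have evn : ∀ g, Commute g t → sign (π g) = 1 → ∀ x, Commute x t → ⁅g, x⁆ ∈ M := by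
    intro g hg hs x hx
    have hg1 : ∀ g ∈ M, ⁅g, x⁆ ∈ M := fun g hg => by
      have := M.mul_mem hg (nM x hx _ (M.inv_mem hg))
      rwa [commutatorElement_def, mul_assoc, mul_assoc, ← mul_assoc x]
    obtain ⟨h3, h4⟩ := split h.toHb g hg ⟨π g, Equiv.Perm.mem_alternatingGroup.mpr hs⟩ rfl
    rcases (hO _ h3).mp h4 with h5 | h5
    · exact hg1 g ⟨_, h5, _, (inv_mul_cancel_right _ _).symm⟩
    · have h6 : g * t ∈ M := ⟨_, h5, ⟨π g, Equiv.Perm.mem_alternatingGroup.mpr hs⟩, by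
        rw [mul_assoc, mul_assoc, ← (h.tc _).eq, inv_mul_cancel_left]⟩
      have h7 : ⁅g * t, x⁆ = ⁅g, x⁆ := by
        rw [commutatorElement_def, commutatorElement_def, mul_assoc g t, ← hx.eq]
        group
      exact h7 ▸ hg1 _ h6
  have hM : ⁅C1[t], C1[t]⁆ ≤ M := by
    refine commutator_le.mpr fun g hg x hx => ?_
    have hg' : Commute g t := mem_centralizer_singleton_iff.mp hg
    have hx' : Commute x t := mem_centralizer_singleton_iff.mp hx
    rcases Int.units_eq_one_or (sign (π g)) with e | e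
    · exact evn g hg' e x hx'
    rcases Int.units_eq_one_or (sign (π x)) with e' | e'
    · rw [← commutatorElement_inv]
      exact M.inv_mem (evn x hx' e' g hg')
    have c1 : Commute (g⁻¹ * x) t := hg'.inv_left.mul_left hx'
    have h1 := evn _ c1 (by
      rw [h.mul _ _ hg'.inv_left hx', inv h.toHb _ hg', map_mul, map_inv, e, e']; rfl) g hg'
    have h2 := nM g hg' _ (M.inv_mem h1)
    have h3 : g * ⁅g⁻¹ * x, g⁆⁻¹ * g⁻¹ = ⁅g, x⁆ := by
      simp only [commutatorElement_def]; group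
    exact h3 ▸ h2
  intro g hg ⟨n, hn⟩
  obtain ⟨o, ho, a, rfl⟩ := hM hg
  have h1 := pow_split h.toHb (oc o ho) ((hO o (oc o ho)).mpr (Or.inl ho)) a hn
  have h2 : o ^ Nat.card O = 1 :=
    congrArg Subtype.val (pow_card_eq_one' (x := (⟨o, ho⟩ : O)))
  have h3 : o = 1 := by
    have := pow_gcd_eq_one.mpr ⟨h1, h2⟩
    rwa [Nat.Coprime.gcd_eq_one (Nat.Coprime.pow_left n (Nat.coprime_two_left.mpr hodd)),
      pow_one] at this
  exact ⟨a, by rw [h3, one_mul]⟩

theorem nl_aux [Finite G] (h : Hy ι π t) {a b d : Alt} (h1 : ⁅b, d⁆ = a) (h2 : Commute b a)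
    (h3 : Commute d a) : ¬ IsConj t (ι a) := by
  intro hc
  obtain ⟨g, hg⟩ := isConj_iff.mp hc
  have e : t = g⁻¹ * ι a * g := by rw [← hg]; group
  have c : ∀ x : Alt, Commute x a → g⁻¹ * ι x * g ∈ C1[t] := fun x hx => by
    refine mem_centralizer_singleton_iff.mpr ?_
    rw [e]
    calc g⁻¹ * ι x * g * (g⁻¹ * ι a * g) = g⁻¹ * ι (x * a) * g := by rw [map_mul]; group
      _ = _ := by rw [hx.eq, map_mul]; group
  have h4 := commutator_mem_commutator (c b h2) (c d h3)
  have h5 : ⁅g⁻¹ * ι b * g, g⁻¹ * ι d * g⁆ = t := by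
    rw [e, ← h1, map_commutatorElement]
    simp only [commutatorElement_def]
    group
  obtain ⟨x, hx⟩ := der h t (h5 ▸ h4) ⟨1, by rw [pow_one, pow_two, h.t2]⟩
  exact tn h.toHb x hx.symm

theorem nl [Finite G] (f : F8a) (h : Hy ι π t) (a : Alt) : ¬ IsConj t (ι a) := by
  intro hc
  obtain ⟨g, hg⟩ := isConj_iff.mp hc
  have a2 : a * a = 1 := h.inj (by
    rw [map_mul, ← hg, map_one]
    calc g * t * g⁻¹ * (g * t * g⁻¹) = g * (t * t) * g⁻¹ := by group
      _ = 1 := by rw [h.t2]; group)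
  have cj : ∀ b d : Alt, b.1 * a.1 * b.1⁻¹ = d.1 → IsConj t (ι d) := fun b d e =>
    hc.trans (isConj_iff.mpr ⟨ι b, by
      rw [← map_inv, ← map_mul, ← map_mul]; exact congrArg ι (Subtype.ext e)⟩)
  have sg : ∀ b : Alt, sign (b.1 * a.1 * b.1⁻¹) = 1 := fun b =>
    Equiv.Perm.mem_alternatingGroup.mp (b * a * b⁻¹).2
  obtain ⟨b, e | e | e | e | e⟩ := f.inv a.1 (congrArg Subtype.val a2)
  · have : a = 1 := Subtype.ext e
    rw [this, map_one, isConj_one_left] at hc
    exact h.t1 hc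
  · have := sg b
    rw [e] at this
    exact absurd this (by decide)
  · exact nl_aux h (a := w) (b := b13) (d := v) (by decide) (by unfold Commute SemiconjBy; decide)
      (by unfold Commute SemiconjBy; decide) (cj b w e)
  · have := sg b
    rw [e] at this
    exact absurd this (by decide)
  · exact nl_aux h (a := z) (b := w2) (d := y) (by decide) (by unfold Commute SemiconjBy; decide)
      (by unfold Commute SemiconjBy; decide) (cj b z e)

end Kit

theorem kit : A8.KitStmt.{u} := fun f _ _ _ _ _ _ h =>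
  ⟨one h.toHb, pt h.toHb, inv h.toHb, pow h.toHb, hom h.toHb, ker h.toHb, tn h.toHb, ev' h, der h,
    nl f.toF8a h, odd h⟩

theorem eqns_A8K : True := by
  have := @K0.eq_1.{0}
  trivial

end Cfsg.Agent.H13.A8K
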