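import Cfsg.Agent.Lead.A9Defs

/-!
Abelian `2`-subgroups of `S₉`: the Sylow subgroup as the automorphism group of a binary tree.
-/

set_option autoImplicit false

namespace Cfsg.Agent.H13.A9F8b

open Cfsg.Agent.Lead.A9 Subgroup Finset
open Equiv (swap)
open Equiv.Perm (sign)

/-- The tree automorphism with code `k`. -/
def act (k i : ℕ) : ℕ :=
  i ^^^ (4 * (k % 2)) ^^^ (2 * ((k >>> (1 + i / 4)) % 2)) ^^^ ((k >>> (3 + i / 2)) % 2)

def fa (k : Fin 128) (i : Fin 9) : Fin 9 := if i.1 = 8 then i else Fin.ofNat 9 (act k i)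

/-- The code of a product. -/
def mulc (k l : Fin 128) : Fin 128 :=
  Fin.ofNat 128 ((fa k (fa l 0)).1 / 2 % 2 * 2 + (fa k (fa l 4)).1 / 2 % 2 * 4 + (k.1 + l.1) % 2 +
    (fa k (fa l 0)).1 % 2 * 8 + (fa k (fa l 2)).1 % 2 * 16 + (fa k (fa l 4)).1 % 2 * 32 +
    (fa k (fa l 6)).1 % 2 * 64)

theorem fa_inj : ∀ k, ∀ i j, fa k i = fa k j → i = j := by decide +kernel

theorem fa_gen : ∀ j : Fin 7, ∀ l, (fun m => (List.finRange 9).all fun i =>
    fa (Fin.ofNat 128 (2 ^ j.1)) (fa l i) == fa m i) (mulc (Fin.ofNat 128 (2 ^ j.1)) l) = true := by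
  decide +kernel

theorem fa_dec : ∀ k : Fin 128, k ≠ 0 → ∃ j : Fin 7, 2 ^ j.1 ≤ k.1 ∧
    ∀ i, fa k i = fa (Fin.ofNat 128 (2 ^ j.1)) (fa (Fin.ofNat 128 (k.1 - 2 ^ j.1)) i) := by
  decide +kernel

theorem fa_zero : ∀ i, fa 0 i = i := by decide +kernel

theorem fa_mul (k l : Fin 128) : ∃ m, ∀ i, fa k (fa l i) = fa m i := by
  induction hn : k.1 using Nat.strong_induction_on generalizing k with
  | _ n ih =>
    by_cases h0 : k = 0
    · exact ⟨l, fun i => by rw [h0, fa_zero]⟩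
    obtain ⟨j, h1, h2⟩ := fa_dec k h0
    have h3 : 0 < 2 ^ j.1 := Nat.pos_of_ne_zero (by positivity)
    obtain ⟨m, hm⟩ := ih _ (show (Fin.ofNat 128 (k.1 - 2 ^ j.1)).1 < n from
      (Nat.mod_le _ _).trans_lt (by omega)) _ rfl
    have h := fa_gen j m
    simp only [List.all_eq_true, beq_iff_eq] at h
    exact ⟨_, fun i => by rw [h2, hm, h i (List.mem_finRange i)]⟩

theorem fa_code : ∀ k, mulc k 0 = k := by decide +kernel

noncomputable def tt (k : Fin 128) : S8 :=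
  Equiv.ofBijective (fa k) (Finite.injective_iff_bijective.1 (fa_inj k))

theorem tt_apply (k : Fin 128) (i : Fin 9) : tt k i = fa k i := rfl

theorem tt_inj : Function.Injective tt := fun k l h => by
  have h1 : ∀ i, fa k i = fa l i := fun i => DFunLike.congr_fun h i
  have h2 : ∀ k : Fin 128, k.1 % 2 = (fa k 0).1 / 4 := by decide +kernel
  rw [← fa_code k, ← fa_code l, mulc, mulc]
  simp only [h1, Fin.val_zero, add_zero, h2]

noncomputable def T0 : Submonoid S8 where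
  carrier := Set.range tt
  one_mem' := ⟨0, Equiv.ext fa_zero⟩
  mul_mem' := by
    rintro _ _ ⟨k, rfl⟩ ⟨l, rfl⟩
    obtain ⟨m, h⟩ := fa_mul k l
    exact ⟨m, Equiv.ext fun i => (h i).symm⟩

noncomputable def T8 : Subgroup S8 :=
  { T0 with
    inv_mem' := fun {x} hx => (Submonoid.powers_le.2 hx : Submonoid.powers x ≤ T0)
      (mem_powers_iff_mem_zpowers.2 (inv_mem (mem_zpowers x))) }

theorem card_T8 : Nat.card T8 = 2 ^ 7 := by
  change Nat.card (Set.range tt) = _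
  rw [Nat.card_range_of_injective tt_inj, Nat.card_eq_fintype_card, Fintype.card_fin]
  rfl

theorem into (E : Subgroup S8) (hE : IsPGroup 2 E) :
    ∃ a : Alt, ∀ p ∈ E, a.1 * p * a.1⁻¹ ∈ T8 := by
  have : Fact (Nat.Prime 2) := ⟨Nat.prime_two⟩
  have h1 : ¬ 2 ∣ T8.index := by
    have := T8.card_mul_index
    rw [card_T8, Nat.card_eq_fintype_card, Fintype.card_perm, Fintype.card_fin] at this
    have h2 : T8.index = 2835 := by
      norm_num [Nat.factorial] at this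
      omega
    rw [h2]; decide
  obtain ⟨Q, hQ⟩ := hE.exists_le_sylow
  obtain ⟨g, hg⟩ := MulAction.exists_smul_eq S8 Q ((IsPGroup.of_card card_T8).toSylow h1)
  have h3 : ∀ p ∈ E, g * p * g⁻¹ ∈ T8 := fun p hp => by
    have : g * p * g⁻¹ ∈ ((g • Q : Sylow 2 S8) : Subgroup S8) := by
      rw [Sylow.coe_subgroup_smul]
      exact smul_mem_pointwise_smul _ _ _ (hQ hp)
    rwa [hg] at this
  rcases Int.units_eq_one_or (sign g) with h | h
  · exact ⟨⟨g, h⟩, h3⟩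
  · have h4 : swap (0 : Fin 9) 1 ∈ T8 := ⟨8, Equiv.ext (by decide +kernel)⟩
    refine ⟨⟨swap 0 1 * g, by simp [h]⟩, fun p hp => ?_⟩
    have := mul_mem (mul_mem h4 (h3 p hp)) (inv_mem h4)
    simpa only [mul_assoc, mul_inv_rev] using this

theorem codes (E : Subgroup S8) (hE : IsPGroup 2 E) : ∃ (a : Alt) (A : Finset (Fin 128)),
    A.card = Nat.card E ∧ (∀ k ∈ A, a.1⁻¹ * tt k * a.1 ∈ E) ∧
      ∀ p ∈ E, ∃ k ∈ A, a.1 * p * a.1⁻¹ = tt k := by
  classical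
  obtain ⟨a, ha⟩ := into E hE
  have h1 : ∀ p ∈ E, ∃ k, a.1⁻¹ * tt k * a.1 ∈ E ∧ a.1 * p * a.1⁻¹ = tt k := fun p hp => by
    obtain ⟨k, hk⟩ := ha p hp
    exact ⟨k, by rw [hk]; simpa only [mul_assoc, inv_mul_cancel, mul_one, inv_mul_cancel_left]
      using hp, hk.symm⟩
  refine ⟨a, univ.filter fun k => a.1⁻¹ * tt k * a.1 ∈ E, ?_, fun k hk => (mem_filter.1 hk).2,
    fun p hp => ?_⟩
  · rw [← Fintype.card_coe, ← Nat.card_eq_fintype_card]
    refine Nat.card_congr (Equiv.ofBijective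
      (fun k => ⟨a.1⁻¹ * tt k.1 * a.1, (mem_filter.1 k.2).2⟩) ⟨fun k l h => ?_, fun p => ?_⟩)
    · exact Subtype.ext (tt_inj (mul_left_cancel (mul_right_cancel (congrArg Subtype.val h))))
    · obtain ⟨k, h2, h3⟩ := h1 p p.2
      exact ⟨⟨k, mem_filter.2 ⟨mem_univ _, h2⟩⟩, Subtype.ext (by
        change a.1⁻¹ * tt k * a.1 = p
        rw [← h3]; group)⟩
  · obtain ⟨k, h2, h3⟩ := h1 p hp
    exact ⟨k, mem_filter.2 ⟨mem_univ _, h2⟩, h3⟩

/-- commuting codes -/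
abbrev com (k l : Fin 128) : Prop := ∀ i, fa k (fa l i) = fa l (fa k i)

/-- codes of square one -/
abbrev sq1 (k : Fin 128) : Prop := ∀ i, fa k (fa k i) = i

/-- the type of the left component -/
def tl (k : Fin 128) : Fin 4 := Fin.ofNat 4 (k.1 / 2 % 2 * 2 + (k.1 / 8 + k.1 / 16) % 2)

/-- the type of the right component -/
def tr (k : Fin 128) : Fin 4 := Fin.ofNat 4 (k.1 / 4 % 2 * 2 + (k.1 / 32 + k.1 / 64) % 2)

/-- the maximal abelian subgroups of `D₈ × D₈` -/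
def MM (s r : Fin 4) : Finset (Fin 128) :=
  univ.filter fun k => k.1 % 2 = 0 ∧ (tl k = 0 ∨ tl k = s) ∧ (tr k = 0 ∨ tr k = r)

theorem f1 : ∀ k : Fin 128, k.1 % 2 ≠ 0 → (univ.filter fun l => com k l).card ≤ 16 ∧
    (univ.filter fun l => com k l ∧ sq1 l).card < 16 := by decide +kernel

theorem f3 : ∀ k l : Fin 128, k.1 % 2 = 0 → l.1 % 2 = 0 → com k l →
    (tl k = 0 ∨ tl l = 0 ∨ tl l = tl k) ∧ (tr k = 0 ∨ tr l = 0 ∨ tr l = tr k) := by decide +kernel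

theorem f4 : ∀ s r, (MM s r).card ≤ 16 ∧ (((MM s r).filter sq1).card < 16 ∨
    (s = 2 ∧ r = 2) ∨ (s = 2 ∧ r = 1) ∨ (s = 1 ∧ r = 2) ∨ (s = 1 ∧ r = 1)) := by decide +kernel

theorem cover (A : Finset (Fin 128)) (h : ∀ k ∈ A, ∀ l ∈ A, com k l) :
    (∃ k ∈ A, k.1 % 2 ≠ 0) ∨ ∃ s r, A ⊆ MM s r := by
  by_cases h0 : ∃ k ∈ A, k.1 % 2 ≠ 0
  · exact .inl h0
  push Not at h0
  obtain ⟨s, hs⟩ : ∃ s, ∀ l ∈ A, tl l = 0 ∨ tl l = s := by
    by_cases h1 : ∃ k ∈ A, tl k ≠ 0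
    · obtain ⟨k, hk, h2⟩ := h1
      exact ⟨tl k, fun l hl => (f3 k l (h0 k hk) (h0 l hl) (h k hk l hl)).1.resolve_left h2⟩
    · push Not at h1
      exact ⟨0, fun l hl => .inl (h1 l hl)⟩
  obtain ⟨r, hr⟩ : ∃ s, ∀ l ∈ A, tr l = 0 ∨ tr l = s := by
    by_cases h1 : ∃ k ∈ A, tr k ≠ 0
    · obtain ⟨k, hk, h2⟩ := h1
      exact ⟨tr k, fun l hl => (f3 k l (h0 k hk) (h0 l hl) (h k hk l hl)).2.resolve_left h2⟩
    · push Not at h1
      exact ⟨0, fun l hl => .inl (h1 l hl)⟩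
  exact .inr ⟨s, r, fun k hk => mem_filter.2 ⟨mem_univ _, h0 k hk, hs k hk, hr k hk⟩⟩

theorem com_of {E : Subgroup S8} (hc : ∀ p ∈ E, ∀ q ∈ E, Commute p q) {a : S8} {k l : Fin 128}
    (hk : a⁻¹ * tt k * a ∈ E) (hl : a⁻¹ * tt l * a ∈ E) : com k l := fun i => by
  have h1 := (hc _ hk _ hl).map (MulAut.conj a)
  simp only [MulAut.conj_apply, mul_assoc, mul_inv_cancel, mul_one, mul_inv_cancel_left] at h1
  exact DFunLike.congr_fun h1.eq i

theorem ab (E : Subgroup S8) (hc : ∀ p ∈ E, ∀ q ∈ E, Commute p q) : Nat.card E ≠ 32 := fun h => by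
  obtain ⟨a, A, h1, h2, -⟩ := codes E (IsPGroup.of_card (n := 5) h)
  have h3 : ∀ k ∈ A, ∀ l ∈ A, com k l := fun k hk l hl => com_of hc (h2 k hk) (h2 l hl)
  have h4 : A.card ≤ 16 := by
    rcases cover A h3 with ⟨k, hk, h0⟩ | ⟨s, r, h0⟩
    · exact (card_le_card fun l hl => mem_filter.2 ⟨mem_univ _, h3 k hk l hl⟩).trans (f1 k h0).1
    · exact (card_le_card h0).trans (f4 s r).1
  omega

theorem fin {E : Subgroup S8} {a b : S8} {A : Finset (Fin 128)} (h2 : ∀ k ∈ A, a⁻¹ * tt k * a ∈ E)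
    (h3 : ∀ p ∈ E, ∃ k ∈ A, a * p * a⁻¹ = tt k) (f : Fin 16 → S8)
    (g1 : ∀ k ∈ A, ∃ j, ∀ i, b (fa k i) = f j (b i))
    (g2 : ∀ j, ∃ k ∈ A, ∀ i, b (fa k i) = f j (b i)) (p : S8) :
    p ∈ E ↔ ∃ j, b * a * p * (b * a)⁻¹ = f j := by
  constructor
  · intro hp
    obtain ⟨k, hk, e⟩ := h3 p hp
    obtain ⟨j, hj⟩ := g1 k hk
    have : b * tt k = f j * b := Equiv.ext hj
    refine ⟨j, ?_⟩
    rw [← mul_inv_eq_iff_eq_mul] at this
    rw [← this, ← e]; group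
  · rintro ⟨j, e⟩
    obtain ⟨k, hk, hj⟩ := g2 j
    have h4 : b * tt k = f j * b := Equiv.ext hj
    have h5 : p = a⁻¹ * tt k * a := by
      calc p = a⁻¹ * (b⁻¹ * (b * a * p * (b * a)⁻¹ * b)) * a := by group
        _ = _ := by rw [e, ← h4, inv_mul_cancel_left]
    rw [h5]
    exact h2 k hk

theorem e16 (E : Subgroup S8) (hs : ∀ p ∈ E, p * p = 1) (h : Nat.card E = 16) : ∃ a : Alt,
    (∀ p, p ∈ E ↔ ∃ k, a.1 * p * a.1⁻¹ = (vv k).1) ∨ (∀ p, p ∈ E ↔ ∃ k, a.1 * p * a.1⁻¹ = vb k) ∨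
      ∀ p, p ∈ E ↔ ∃ k, a.1 * p * a.1⁻¹ = bb k := by
  obtain ⟨a, A, h1, h2, h5⟩ := codes E (IsPGroup.of_card (n := 4) h)
  have hc : ∀ p ∈ E, ∀ q ∈ E, Commute p q := fun p hp q hq => by
    have e := hs _ (mul_mem hp hq)
    have e1 := inv_eq_of_mul_eq_one_left (hs p hp)
    have e2 := inv_eq_of_mul_eq_one_left (hs q hq)
    have e3 := inv_eq_of_mul_eq_one_left e
    rw [mul_inv_rev, e1, e2] at e3
    exact e3.symm
  have h3 : ∀ k ∈ A, ∀ l ∈ A, com k l := fun k hk l hl => com_of hc (h2 k hk) (h2 l hl)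
  have h4 : ∀ k ∈ A, sq1 k := fun k hk i => by
    have e : tt k * tt k = 1 := by
      calc _ = a.1 * (a.1⁻¹ * tt k * a.1 * (a.1⁻¹ * tt k * a.1)) * a.1⁻¹ := by group
        _ = 1 := by rw [hs _ (h2 k hk), mul_one, mul_inv_cancel]
    exact DFunLike.congr_fun e i
  rcases cover A h3 with ⟨k, hk, h0⟩ | ⟨s, r, h0⟩
  · have := (card_le_card fun l hl => mem_filter.2 ⟨mem_univ _, h3 k hk l hl, h4 l hl⟩).trans_lt
      (f1 k h0).2
    omega
  have h6 : A = MM s r := eq_of_subset_of_card_le h0 (by have := (f4 s r).1; omega)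
  rcases (f4 s r).2 with h7 | ⟨rfl, rfl⟩ | ⟨rfl, rfl⟩ | ⟨rfl, rfl⟩ | ⟨rfl, rfl⟩
  · have := (card_le_card fun l hl => mem_filter.2 ⟨h0 hl, h4 l hl⟩).trans_lt h7
    omega
  all_goals subst h6
  · exact ⟨1 * a, .inl (fin (b := 1) h2 h5 _ (by decide +kernel) (by decide +kernel))⟩
  · exact ⟨1 * a, .inr (.inl (fin (b := 1) h2 h5 _ (by decide +kernel) (by decide +kernel)))⟩
  · exact ⟨y * a, .inr (.inl (fin (b := y.1) h2 h5 _ (by decide +kernel) (by decide +kernel)))⟩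
  · exact ⟨1 * a, .inr (.inr (fin (b := 1) h2 h5 _ (by decide +kernel) (by decide +kernel)))⟩

theorem f8b : F8b := ⟨ab, e16⟩

theorem eqns_A9F8b : True := by
  have := @act.eq_1
  have := @fa.eq_1
  have := @mulc.eq_1
  have := @tt.eq_1
  have := @T0.eq_1
  have := @T8.eq_1
  have := @com.eq_1
  have := @sq1.eq_1
  have := @tl.eq_1
  have := @tr.eq_1
  have := @MM.eq_1
  trivial

end Cfsg.Agent.H13.A9F8b
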