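import Cfsg.Agent.H74.CksDefs
import Cfsg.Agent.H82.Zsigmondy
import Cfsg.Agent.H9.InvCount
import Cfsg.Agent.S0003
import Cfsg.Agent.S0205
import Cfsg.Agent.S0243
import Cfsg.Agent.S0256
import Cfsg.Agent.S0293
import Cfsg.Agent.S0294
import Cfsg.Agent.S1063
import Cfsg.Agent.S1064
import Cfsg.Agent.S1065
import Cfsg.Agent.S2140
import Cfsg.Agent.S2146
import Cfsg.Agent.S2147

/-! Project CKS, pieces FLN, FEN, FON: numerical endgames. -/

set_option autoImplicit false

namespace Cfsg.Agent.H13.CksFln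

open Cfsg Subgroup Cfsg.Agent.H74.Cks

/-- a primitive prime divisor -/
theorem ppd {a c : ℕ} (ha : 1 < a) (hc : 6 < c) :
    ∃ r, r.Prime ∧ r ∣ a ^ c - 1 ∧ ¬ r ∣ a ∧ ∀ d, 0 < d → d < c → ¬ r ∣ a ^ d - 1 := by
  obtain ⟨r, hr, h⟩ := H82.zsigmondy a c ha (by omega) (by omega) (by omega)
  have key : ∀ d, r ∣ a ^ d - 1 ↔ c ∣ d := fun d => by
    rw [← h.pow_eq_one_iff_dvd, ← ZMod.natCast_eq_zero_iff,
      Nat.cast_sub (Nat.one_le_pow _ _ (by omega)), sub_eq_zero, Nat.cast_pow, Nat.cast_one]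
  refine ⟨r, hr, (key c).2 dvd_rfl, fun h1 => ?_, fun d h1 h2 h3 =>
    (Nat.le_of_dvd h1 ((key d).1 h3)).not_gt h2⟩
  have h2 := Nat.dvd_sub (dvd_pow h1 (by omega : c ≠ 0)) ((key c).2 dvd_rfl)
  rw [Nat.sub_sub_self (Nat.one_le_pow _ _ (by omega))] at h2
  exact hr.not_dvd_one h2

theorem pp_eq {G : Type} [Group G] {p a m : ℕ} (hp : p.Prime) (h : Nat.card G = p ^ a * m)
    (hm : ¬ p ∣ m) : pp p G = p ^ a := by
  rw [pp, h, Nat.factorization_mul (pow_ne_zero _ hp.ne_zero) (by rintro rfl; exact hm (dvd_zero _)),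
    hp.factorization_pow, Finsupp.add_apply, Finsupp.single_eq_same,
    Nat.factorization_eq_zero_of_not_dvd hm, add_zero]

theorem char_eq {F : Type} [Field F] [Fintype F] {p r : ℕ} [hp : Fact p.Prime] [CharP F p]
    (hr : r.Prime) (h : Fintype.card F = r) : p = r :=
  (Nat.prime_dvd_prime_iff_eq hp.out hr).1
    (h ▸ (CharP.cast_eq_zero_iff F p _).1 (Nat.cast_card_eq_zero F))

theorem ord35 {K : Type*} [Group K] [Finite K] (h : Nat.card K = 35) :
    ∃ x : K, orderOf x = 35 := by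
  have := Fact.mk (by norm_num : Nat.Prime 7)
  have := Fact.mk Nat.prime_five
  obtain ⟨x, hx⟩ := exists_prime_orderOf_dvd_card' (G := K) 7 (by rw [h]; norm_num)
  obtain ⟨y, hy⟩ := exists_prime_orderOf_dvd_card' (G := K) 5 (by rw [h]; norm_num)
  have h1 : Nat.card (zpowers x) = 7 := by rw [Nat.card_zpowers, hx]
  have h2 := (zpowers x).card_mul_index
  rw [h1, h] at h2
  have : (zpowers x).Normal := normal_of_index_eq_minFac_card (by rw [h]; norm_num; omega)
  have h3 := orderOf_dvd_natCard (MulAut.conjNormal (H := zpowers x) y)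
  rw [IsCyclic.card_mulAut, h1] at h3
  have h4 := Nat.dvd_gcd h3 (hy ▸ orderOf_map_dvd (MulAut.conjNormal (H := zpowers x)) y)
  rw [show Nat.gcd (Nat.totient 7) 5 = 1 by decide, Nat.dvd_one, orderOf_eq_one_iff] at h4
  have h5 := MulAut.conjNormal_apply (H := zpowers x) y ⟨x, mem_zpowers x⟩
  rw [h4, MulAut.one_apply, eq_mul_inv_iff_mul_eq] at h5
  exact ⟨x * y, by
    rw [Commute.orderOf_mul_eq_mul_orderOf_of_coprime h5 (by rw [hx, hy]; norm_num), hx, hy]⟩

theorem not35 (σ : Equiv.Perm (Fin 8)) : orderOf σ ≠ 35 := fun h => by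
  have h1 : ∀ n ∈ σ.cycleType, n = 5 ∨ n = 7 := fun n hn => by
    have h2 := h ▸ Equiv.Perm.dvd_of_mem_cycleType hn
    have h3 := Equiv.Perm.two_le_of_mem_cycleType hn
    have h4 := (Multiset.le_sum_of_mem hn).trans σ.sum_cycleType_le
    rw [Fintype.card_fin] at h4
    interval_cases n <;> omega
  have h2 : ∀ a b, (∀ n ∈ σ.cycleType, n = a ∨ n = b) → ¬ 35 ∣ b → a ∈ σ.cycleType :=
    fun a b k hb => by
      by_contra h0
      refine hb (h ▸ σ.lcm_cycleType ▸ Multiset.lcm_dvd.2 fun n hn => ?_)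
      rw [(k n hn).resolve_left fun e => h0 (e ▸ hn)]
  have h3 : ({5, 7} : Multiset ℕ) ≤ σ.cycleType := by
    refine (Multiset.le_iff_subset (by decide)).2 fun n hn => ?_
    rcases Multiset.mem_cons.1 hn with rfl | hn
    · exact h2 _ _ h1 (by decide)
    · rw [Multiset.mem_singleton.1 hn]
      exact h2 _ _ (fun n k => (h1 n k).symm) (by decide)
  obtain ⟨t, ht⟩ := Multiset.le_iff_exists_add.1 h3
  have h4 := σ.sum_cycleType_le
  rw [ht, Multiset.sum_add, Fintype.card_fin] at h4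
  have : ({5, 7} : Multiset ℕ).sum = 12 := by decide
  omega

theorem not315 {G : Type*} [Group G] [Finite G] (e : G ≃* alternatingGroup (Fin 8))
    (H : Subgroup G) : Nat.card H ≠ 315 := fun h => by
  have := S0205.result (G := H) (by rw [h]; decide)
  obtain ⟨K, hK⟩ := S0003.result (G := H) 35 9 h (by norm_num)
  obtain ⟨x, hx⟩ := ord35 hK
  refine not35 (e x).1 ?_
  rw [orderOf_coe, MulEquiv.orderOf_eq, orderOf_coe, orderOf_coe, hx]

theorem fln : FlnStmt := by
  intro F _ _ p _ _ n hn H h2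
  have hc := S0243.result (F := F) rfl (n + 1) (by omega)
  have c2 : n = 3 → Fintype.card F = 2 → Nat.card (PL (n + 1) F) = 2 ^ 6 * 315 := by
    rintro rfl h
    rw [h] at hc
    simpa using hc.trans (show _ = 20160 by decide)
  refine ⟨fun h e => ?_, ?_⟩
  · obtain rfl := char_eq (p := p) Nat.prime_two h
    rcases hn.eq_or_lt with rfl | hn
    · obtain ⟨φ⟩ := S0256.result h
      have h3 := H.card_mul_index
      rw [e, pp_eq Nat.prime_two (c2 rfl h) (by decide), c2 rfl h] at h3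
      have : Nat.card H = 315 := by omega
      exact not315 φ H this
    rw [h] at hc
    replace hc : Nat.card (PL (n + 1) F) = ∏ i : Fin (n + 1), (2 ^ (n + 1) - 2 ^ (i : ℕ)) := by
      simpa using hc
    have h3 : 2 ^ (∑ i ∈ Finset.range (n + 1), i) ∣ Nat.card (PL (n + 1) F) := by
      rw [hc, ← Finset.prod_pow_eq_pow_sum, ← Fin.prod_univ_eq_prod_range (fun i => 2 ^ i)]
      exact Finset.prod_dvd_prod_of_dvd _ _ fun i _ =>
        Nat.dvd_sub (pow_dvd_pow _ i.2.le) dvd_rfl
    rw [Nat.prime_two.pow_dvd_iff_le_factorization Nat.card_pos.ne'] at h3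
    have h4 := Finset.sum_range_id_mul_two (n + 1)
    rw [Nat.add_sub_cancel] at h4
    have h5 := h2.dvd
    rw [e, pp] at h5
    generalize (Nat.card (PL (n + 1) F)).factorization 2 = M at h3 h5
    obtain ⟨r, hr, r1, r2, r3⟩ := ppd one_lt_two (c := M) (by nlinarith)
    obtain ⟨i, -, hi⟩ := (Prime.dvd_finsetProd_iff hr.prime _).1
      (hc ▸ r1.trans ((Dvd.intro_left _ rfl).trans h5))
    have := i.2
    rw [show 2 ^ (n + 1) - 2 ^ (i : ℕ) = 2 ^ (i : ℕ) * (2 ^ (n + 1 - i) - 1) by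
      rw [Nat.mul_sub, ← pow_add, Nat.add_sub_cancel' this.le, mul_one], hr.dvd_mul] at hi
    exact hi.elim (fun k => r2 (hr.dvd_of_dvd_pow k))
      (r3 _ (by omega) (by nlinarith [Nat.sub_le (n + 1) i]))
  · rintro rfl (h | h) ⟨c, e⟩ k
    · obtain rfl := char_eq (p := p) Nat.prime_two h
      obtain ⟨φ⟩ := S0256.result h
      have := alternatingGroup.isSimpleGroup (α := Fin 8) (by simp)
      have := φ.isSimpleGroup
      have h3 := H9.card_dvd_factorial_index h2.max.1
      rw [pp_eq Nat.prime_two (c2 rfl h) (by decide), h, e] at k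
      rw [c2 rfl h, e] at h3
      have : c ≤ 3 := (Nat.pow_le_pow_iff_right one_lt_two).1 (by omega)
      refine ⟨h, e.trans ?_⟩
      interval_cases c <;> first | rfl | exact absurd h3 (by decide)
    · obtain rfl := char_eq (p := p) Nat.prime_three h
      have h3 := (S2140.result h 4 (by norm_num) (by norm_num)).1 H h2.max.1
      rw [h, show Nat.gcd (3 + 1) (3 - 1) = 2 by decide,
        show ∏ i : Fin (3 + 1), (3 ^ (3 + 1) - 3 ^ (i : ℕ)) = 24261120 by decide] at hc
      change 2 * (2 * Nat.card (PL (3 + 1) F)) = _ at hc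
      rw [pp_eq (a := 6) (m := 8320) Nat.prime_three (by omega) (by decide), h] at k
      omega

theorem fen : FenStmt := by
  intro F _ _ h
  refine ⟨fun H h2 e => ?_, fun H h2 e => ?_, fun H h2 e => ?_⟩
  · have hc := S1063.result h
    rw [show Nat.gcd 3 (2 - 1) = 1 by decide, one_mul] at hc
    have h3 := h2.dvd
    rw [e, pp_eq (a := 36) Nat.prime_two (by simpa only [mul_assoc] using hc) (by decide +kernel),
      hc] at h3
    exact absurd h3 (by decide +kernel)
  · have hc := S1064.result h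
    rw [show Nat.gcd 2 (2 - 1) = 1 by decide, one_mul] at hc
    have h3 := h2.dvd
    rw [e, pp_eq (a := 63) Nat.prime_two (by simpa only [mul_assoc] using hc) (by decide +kernel),
      hc] at h3
    exact absurd h3 (by decide +kernel)
  · have hc := S1065.result h
    have h3 := h2.dvd
    rw [e, pp_eq (a := 120) Nat.prime_two (by simpa only [mul_assoc] using hc) (by decide +kernel),
      hc] at h3
    exact absurd h3 (by decide +kernel)

theorem small {p c m N b : ℕ} (hp : 1 < p) (h0 : 0 < N) (hN : N < p ^ b) (h : m ≤ p ^ c)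
    (hd : p ^ c * (p ^ c - 1) ∣ N) (k : ∀ c < b, m ≤ p ^ c → ¬ p ^ c * (p ^ c - 1) ∣ N) : False :=
  k c ((Nat.pow_lt_pow_iff_right hp).1
    ((Nat.le_of_dvd h0 ((Dvd.intro _ rfl).trans hd)).trans_lt hN)) h hd

theorem fon : FonStmt := by
  intro F _ _ p _ _
  refine ⟨fun h n hn H h2 _ ⟨c, e⟩ => ?_, fun h a b hab H h2 _ ⟨c, e⟩ => ?_⟩
  · obtain rfl := char_eq (p := p) Nat.prime_two h
    have h3 := (S2146.result h n hn).1 H h2.max.1
    have hc := S0293.result h n hn
    have h4 := h2.dvd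
    rw [e] at h3 h4
    obtain ⟨m, rfl⟩ : ∃ m, n = m + 1 := ⟨n - 1, by omega⟩
    rw [Nat.add_sub_cancel] at h3 hc
    have h5 : 2 * m < c := by
      refine (Nat.pow_lt_pow_iff_right one_lt_two).1 (lt_of_lt_of_le ?_ h3)
      have : 1 < 2 ^ m := Nat.one_lt_two_pow (by omega)
      rw [two_mul, pow_add]
      exact Nat.mul_lt_mul_of_pos_left (by omega) (by omega)
    obtain ⟨r, hr, r1, r2, r3⟩ := ppd one_lt_two (c := c) (by omega)
    have h6 := hc ▸ (r1.trans ((Dvd.intro_left _ rfl).trans h4)).mul_left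
      (Nat.gcd 4 (2 ^ (m + 1) - 1))
    rw [hr.dvd_mul, hr.dvd_mul, Prime.dvd_finsetProd_iff hr.prime] at h6
    rcases h6 with (k | k) | ⟨i, hi, k⟩
    · exact r2 (hr.dvd_of_dvd_pow k)
    · exact r3 _ (by omega) (by omega) k
    · rw [Finset.mem_range] at hi
      exact r3 _ (by omega) (by omega) k
  · have h3 := (S2147.result (F := F) rfl 5 (by norm_num) a b hab).1 H h2.max.1
    have hc := S0294.result (F := F) rfl 5 (by norm_num) a b hab
    have h4 := hc ▸ h2.dvd.mul_left (Nat.gcd 4 (Fintype.card F ^ 5 + 1))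
    rw [e] at h3 h4
    rcases h with h | h
    · obtain rfl := char_eq (p := p) Nat.prime_two h
      rw [h] at h3 h4
      exact small (b := 50) one_lt_two (by decide +kernel) (by decide +kernel) h3 h4
        (by decide +kernel)
    · obtain rfl := char_eq (p := p) Nat.prime_three h
      rw [h] at h3 h4
      exact small (b := 50) (by norm_num) (by decide +kernel) (by decide +kernel) h3 h4
        (by decide +kernel)

end Cfsg.Agent.H13.CksFln
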