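import Cfsg.Agent.H74.CksDefs
import Cfsg.Agent.H9.BaerSuzuki

/-! Project CKS, piece LAD: the ladder lemmas for a chamber-transitive subgroup. -/

set_option autoImplicit false

namespace Cfsg.Agent.H13.CksLad

open Cfsg Subgroup Cfsg.Agent.H35 Cfsg.Agent.H74.Cks

variable {G : Type} [Group G] {p n : ℕ} (S : Sys G p n)

theorem B_le_P (J : Finset (Fin n)) : S.B ≤ S.P J := BN.B_le_PJ _

theorem s_mem_P {J : Finset (Fin n)} {i : Fin n} (h : i ∈ J) : S.s i ∈ S.P J :=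
  BN.s_mem_parabolic_iff'.2 (Finset.mem_coe.2 (Finset.mem_map_of_mem _ h))

theorem P_Q {J : Finset (Fin n)} {x u : G} (hx : x ∈ S.P J) (hu : u ∈ S.Q J) :
    x * u * x⁻¹ ∈ S.Q J := (mem_normalizer_iff.1 (S.sp.U_normal _ hx) u).1 hu

theorem B_U {x u : G} (hx : x ∈ S.B) (hu : u ∈ S.U) : x * u * x⁻¹ ∈ S.U :=
  (mem_normalizer_iff.1 (S.sp.U_normal _ (BN.B_le_PJ _ hx)) u).1 hu

theorem U_le_B : S.U ≤ S.B := S.sp.U_le _

theorem Q_le_U (J : Finset (Fin n)) : S.Q J ≤ S.U := S.anti _ _ (Finset.empty_subset _)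

theorem iSup_P (i : Fin n) : ⨆ j, S.P {j} = ⊤ := by
  rw [eq_top_iff, ← BN.parabolic_S, BN.parabolic_le_iff]
  refine ⟨(B_le_P S {i}).trans (le_iSup (fun j => S.P {j}) i), fun x hx => ?_⟩
  obtain ⟨j, e⟩ := S.e.surjective ⟨x, hx⟩
  have h := s_mem_P S (Finset.mem_singleton_self j)
  rw [Sys.s, e] at h
  exact le_iSup (fun j => S.P {j}) j h

theorem mem_sup {A B : Subgroup G} (h : A ≤ normalizer (B : Set G)) {g : G} (hg : g ∈ A ⊔ B) :
    ∃ a ∈ A, ∃ b ∈ B, g = a * b := by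
  rw [← SetLike.mem_coe, coe_mul_of_left_le_normalizer_right _ _ h] at hg
  obtain ⟨a, ha, b, hb, e⟩ := hg
  exact ⟨a, ha, b, hb, e.symm⟩

variable {S} {H : Subgroup G}

theorem ft_P (h : S.Ft H) (J : Finset (Fin n)) :
    ∀ g ∈ S.P J, ∃ h ∈ H ⊓ S.P J, ∃ b ∈ S.B, g = h * b := fun g hg => by
  obtain ⟨x, hx, b, hb, rfl⟩ := h g
  exact ⟨x, ⟨hx, (mul_mem_cancel_right (B_le_P S J hb)).1 hg⟩, b, hb, rfl⟩

theorem dec [Finite G] (h : S.Setup H) {J : Finset (Fin n)} {g : G} (hg : g ∈ S.HJ H J)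
    (hB : g ∈ S.B) : ∃ u ∈ (H ⊓ S.U) ⊔ S.Q J, ∃ t ∈ H ⊓ S.T, g = u * t := by
  obtain ⟨x, hx, r, hr, rfl⟩ := mem_sup (inf_le_right.trans (S.sp.U_normal _)) hg
  have h1 : x ∈ (H ⊓ S.T) ⊔ (H ⊓ S.U) := by
    rw [sup_comm, ← h.2]
    exact ⟨hx.1, (mul_mem_cancel_right (S.sp.U_le _ hr)).1 hB⟩
  have h2 : ∀ t ∈ H ⊓ S.T, ∀ v ∈ H ⊓ S.U, t * v * t⁻¹ ∈ H ⊓ S.U := fun t ht v hv =>
    ⟨H.mul_mem (H.mul_mem ht.1 hv.1) (H.inv_mem ht.1), B_U S ht.2.1 hv.2⟩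
  obtain ⟨t, ht, v, hv, rfl⟩ := mem_sup (fun t ht => mem_normalizer_fintype (h2 t ht)) h1
  refine ⟨t * v * t⁻¹ * (t * r * t⁻¹), mul_mem (mem_sup_left (h2 t ht v hv))
    (mem_sup_right (P_Q S (B_le_P S J ht.2.1) hr)), t, ht, ?_⟩
  group

theorem lad (bas : Bas1Stmt) : LadStmt := by
  intro G _ _ _ p n _ S H h
  obtain ⟨-, -, -, -, hUT, -, -, hq, -, -, hX, -⟩ := bas S
  have le : ∀ J, (H ⊓ S.U) ⊔ S.Q J ≤ S.U := fun J => sup_le inf_le_right (Q_le_U S J)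
  have le' : ∀ J, (H ⊓ S.U) ⊔ S.Q J ≤ S.HJ H J := fun J =>
    sup_le_sup_right (inf_le_inf_left _ ((U_le_B S).trans (B_le_P S J))) _
  have le'' : ∀ J, H ⊓ S.T ≤ S.HJ H J := fun J =>
    (inf_le_inf_left _ (inf_le_left.trans (B_le_P S J))).trans le_sup_left
  have h2 : ∀ J, S.HJ H J ⊓ S.T = H ⊓ S.T := fun J => by
    refine le_antisymm (fun g hg => ?_) (le_inf (le'' J) inf_le_right)
    obtain ⟨u, hu, t, ht, rfl⟩ := dec h hg.1 hg.2.1
    have : u ∈ S.U ⊓ S.T := ⟨le J hu, (S.T.mul_mem_cancel_right ht.2).1 hg.2⟩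
    rw [hUT, mem_bot] at this
    rwa [this, one_mul]
  have XU : ∀ i, S.X i ≤ S.U := fun i => (hX i).1 ▸ le_sup_left
  have h6 : ∀ i, H ⊓ S.U ≤ S.Q {i} → ¬ S.Full H {i} := fun i hi hf => by
    refine (hX i).2.2.1 ?_
    rw [← (hX i).2.1, left_eq_inf, ← sup_eq_right.2 hi, hf]
    exact XU i
  refine ⟨fun i y _ => ?_, fun J => ⟨?_, h2 J, ?_⟩, ft_P h.1, fun J hJ => ?_,
    fun J K hJK hK => ?_, h6, fun hf hn => ?_, fun hc hn hV => ?_⟩
  · obtain ⟨x, hx, b, hb, e⟩ := h.1 (y * S.s i)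
    exact ⟨b⁻¹, inv_mem hb, by rwa [e, mul_inv_cancel_right]⟩
  · refine le_antisymm (fun g hg => ?_) (le_inf (le' J) (le J))
    obtain ⟨u, hu, t, ht, rfl⟩ := dec h hg.1 (U_le_B S hg.2)
    have : t ∈ S.U ⊓ S.T := ⟨(mul_mem_cancel_left (le J hu)).1 hg.2, ht.2⟩
    rw [hUT, mem_bot] at this
    rwa [this, mul_one]
  · refine le_antisymm (fun g hg => ?_) (sup_le (le_inf (le' J) ((le J).trans (U_le_B S)))
      (le_inf (le'' J) (inf_le_right.trans inf_le_left)))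
    obtain ⟨u, hu, t, ht, rfl⟩ := dec h hg.1 hg.2
    exact mul_mem (mem_sup_left hu) (mem_sup_right ht)
  · have hU : S.U ≤ S.HJ H J := hJ ▸ le' J
    have : (⨆ i ∈ J, S.L i) ≤ S.HJ H J := iSup₂_le fun i hi => sup_le ((XU i).trans hU) (by
      rintro _ ⟨y, hy, rfl⟩
      obtain ⟨x, hx, b, hb, e⟩ := ft_P h.1 J _ (s_mem_P S hi)
      have := mul_mem (mul_mem (mem_sup_left hx) (hU (B_U S hb (XU i hy))))
        (inv_mem (mem_sup_left hx))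
      convert this using 1
      simp only [MulEquiv.coe_toMonoidHom, MulAut.conj_apply, e]
      group)
    exact ⟨this, fun t ht => ((h2 J).le ⟨this ht.2, ht.1⟩).1⟩
  · refine le_antisymm (le J) (hK.ge.trans (sup_le_sup_left (S.anti _ _ ?_) _))
    exact Finset.map_subset_map.2 hJK
  · have hU : S.U ≤ H := by
      rw [Sys.Full, hq, sup_bot_eq] at hf
      exact hf ▸ inf_le_left
    have h1 : normalClosure (S.U : Set G) ≤ H := (closure_le _).2 fun x hx => by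
      obtain ⟨u, hu, e⟩ := Group.mem_conjugatesOfSet_iff.1 hx
      obtain ⟨g, rfl⟩ := isConj_iff.1 e
      obtain ⟨y, hy, b, hb, rfl⟩ := h.1 g
      have := mul_mem (mul_mem hy (hU (B_U S hb hu))) (inv_mem hy)
      rwa [show y * (b * u * b⁻¹) * y⁻¹ = y * b * u * (y * b)⁻¹ by group] at this
    rcases (inferInstance : (normalClosure (S.U : Set G)).Normal).eq_bot_or_eq_top with e | e
    · exact ((hX ⟨0, hn⟩).2.2.1
        (le_bot_iff.1 ((XU _).trans (le_normalClosure.trans e.le)))).elim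
    · exact top_le_iff.1 (e ▸ h1)
  · let N := normalizer ((H ⊓ S.U : Subgroup G) : Set G)
    have h1 : ∀ i, H ⊓ S.P {i} ≤ N := fun i x hx => mem_normalizer_fintype fun v hv =>
      ⟨H.mul_mem (H.mul_mem hx.1 hv.1) (H.inv_mem hx.1), Q_le_U S _ (P_Q S hx.2 (hV i hv))⟩
    have h3 : ∀ x : G, ∀ k ∈ H ⊓ N, ∀ b ∈ S.B, ∃ k' ∈ H ⊓ N, ∃ b' ∈ S.B, k * b * x = k' * b' := by
      intro x
      refine iSup_induction (fun j => S.P {j}) (C := fun x => ∀ k ∈ H ⊓ N, ∀ b ∈ S.B,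
        ∃ k' ∈ H ⊓ N, ∃ b' ∈ S.B, k * b * x = k' * b') ((iSup_P S ⟨0, hn⟩).ge (mem_top x))
        (fun i y hy k hk b hb => ?_) (fun k hk b hb => ⟨k, hk, b, hb, mul_one _⟩)
        fun y z hy hz k hk b hb => ?_
      · obtain ⟨a, ha, c, hc, e⟩ := ft_P h.1 {i} _ (mul_mem (B_le_P S _ hb) hy)
        exact ⟨k * a, mul_mem hk ⟨ha.1, h1 i ha⟩, c, hc, by rw [mul_assoc, e, mul_assoc]⟩
      · obtain ⟨k', hk', b', hb', e⟩ := hy k hk b hb
        rw [← mul_assoc, e]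
        exact hz k' hk' b' hb'
    have h4 : H ≤ N := fun x hx => by
      obtain ⟨k, hk, b, hb, e⟩ := h3 x 1 (one_mem _) 1 (one_mem _)
      rw [one_mul, one_mul] at e
      subst e
      exact N.mul_mem hk.2 (h1 ⟨0, hn⟩ ⟨(H.mul_mem_cancel_left hk.1).1 hx, B_le_P S _ hb⟩)
    rcases (hc.le_iff.1 h4) with e | e
    · refine (normalizer_eq_top_iff.1 e).eq_bot_or_eq_top.resolve_right fun e' => ?_
      exact hc.1 (top_le_iff.1 (e'.ge.trans inf_le_left))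
    · obtain ⟨g, g1, g2, g3⟩ := H9.exists_mem_normalizer_of_lt (S.sp.U_pgroup ∅)
        (lt_of_le_of_ne (inf_le_right (a := H)) fun e' => h6 ⟨0, hn⟩ (hV _)
          (le_antisymm (le _) (e'.ge.trans le_sup_left)))
      exact (g2 ⟨e.le g3, g1⟩).elim

end Cfsg.Agent.H13.CksLad
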