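import Cfsg.Agent.H11.CyLp
import Cfsg.Agent.H16.IvSk
import Cfsg.Agent.H87.Transfer

/-! Project CY, chapter LP, piece A: for `p ≡ 1 mod 4` the centraliser of a line group is odd. -/

set_option autoImplicit false

namespace Cfsg.Agent.H13.CyLpA

open Subgroup MulAction Cfsg.Agent.H11.Cy Cfsg.Agent.H11.Cy.Lp Cfsg.Agent.H83
open Cfsg.Agent.H11.EL (Nm Ct C1 Ex)

section gen
variable {G : Type} [Group G]

theorem grow [Finite G] (Y S : Subgroup G) (hS : IsPGroup 2 S) (h : Y ≤ S)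
    (hn : ∀ n ∈ S, n ∈ normalizer (Y : Set G) → n ∈ Y) : S ≤ Y := by
  have := hS.isNilpotent
  by_contra hne
  have h1 : Y.subgroupOf S < ⊤ := lt_top_iff_ne_top.2 fun e => hne (subgroupOf_eq_top.1 e)
  obtain ⟨n, h2, h3⟩ := SetLike.exists_of_lt (Group.normalizerCondition_of_isNilpotent _ h1)
  rw [← subgroupOf_normalizer_eq h] at h2
  exact h3 (hn n n.2 h2)

theorem pw [Finite G] {S : Subgroup G} (hS : IsPGroup 2 S) {c : G} (hc : c ∈ S) :
    ∃ k : ℕ, c ^ 2 ^ k = 1 := by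
  obtain ⟨k, hk⟩ := hS ⟨c, hc⟩
  exact ⟨k, congrArg Subtype.val hk⟩

theorem inv_pow' [Finite G] {S : Subgroup G} (hS : IsPGroup 2 S) {c : G} (hc : c ∈ S) (c1 : c ≠ 1) :
    ∃ n : ℕ, orderOf (c ^ n) = 2 := by
  obtain ⟨k, hk⟩ := pw hS hc
  obtain ⟨j, -, hj⟩ := (Nat.dvd_prime_pow Nat.prime_two).1 (orderOf_dvd_of_pow_eq_one hk)
  refine ⟨_, orderOf_pow_orderOf_div (orderOf_pos c).ne' ?_⟩
  rw [hj]
  refine dvd_pow_self 2 fun e => c1 ?_
  rwa [e, pow_zero, orderOf_eq_one_iff] at hj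

theorem cen [Finite G] {S N : Subgroup G} (hS : IsPGroup 2 S) (hN : S ≤ normalizer (N : Set G))
    (hne : S ⊓ N ≠ ⊥) : ∃ z, z ∈ S ∧ z ∈ N ∧ orderOf z = 2 ∧ ∀ s ∈ S, Commute s z := by
  have := inf_centralizer_ne_bot (p := 2) (V := S ⊓ N) (P := S) (hS.to_le inf_le_left) hS
    ((le_inf le_normalizer hN).trans (inf_normalizer_le_normalizer_inf)) hne
  obtain ⟨⟨c, hc⟩, c1⟩ := (ne_bot_iff_exists_ne_one).1 this
  obtain ⟨n, hn⟩ := inv_pow' hS hc.1.1 (fun e => c1 (Subtype.ext e))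
  exact ⟨c ^ n, pow_mem hc.1.1 n, pow_mem hc.1.2 n, hn,
    fun s hs => Commute.pow_right (mem_centralizer_iff.1 hc.2 s hs) n⟩

theorem sq2 {v : G} (h : orderOf v = 2) : v * v = 1 := by rw [← pow_two, ← h, pow_orderOf_eq_one]
theorem ne2 {v : G} (h : orderOf v = 2) : v ≠ 1 := by rintro rfl; simp at h
theorem ord2 {v : G} (h : v * v = 1) (h1 : v ≠ 1) : orderOf v = 2 :=
  orderOf_eq_prime (by rw [pow_two, h]) h1

theorem mem2 {N : Subgroup G} {v g : G} (hv : v ∈ normalizer (N : Set G)) (vv : v * v = 1)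
    (h : g ∈ N ⊔ zpowers v) : g ∈ N ∨ g * v ∈ N := by
  rw [← SetLike.mem_coe, coe_mul_of_right_le_normalizer_left _ _ (zpowers_le.2 hv)] at h
  obtain ⟨l, hl, _, ⟨n, rfl⟩, rfl⟩ := h
  have e : v ^ (2 : ℤ) = 1 := by rw [zpow_two, vv]
  rcases Int.even_or_odd' n with ⟨m, rfl | rfl⟩
  · left; simpa [zpow_mul, e] using hl
  · right; simpa [zpow_add, zpow_mul, e, mul_assoc, vv] using hl

theorem uniq2 [Finite G] {f a b : G} (ha : a ∈ zpowers f) (hb : b ∈ zpowers f) (oa : orderOf a = 2)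
    (ob : orderOf b = 2) : a = b := by
  classical
  have := Fintype.ofFinite (zpowers f)
  have h := IsCyclic.card_orderOf_eq_totient (α := zpowers f) (d := 2) (by
    rw [← oa, ← Nat.card_eq_fintype_card]; exact (zpowers f).orderOf_dvd_natCard ha)
  rw [Nat.totient_two, Finset.card_eq_one] at h
  obtain ⟨c, hc⟩ := h
  have m : ∀ x (hx : x ∈ zpowers f), orderOf x = 2 → (⟨x, hx⟩ : zpowers f) = c := fun x hx o =>
    Finset.mem_singleton.1 (hc ▸ Finset.mem_filter.2 ⟨Finset.mem_univ _, by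
      rw [← Subgroup.orderOf_coe]; exact o⟩)
  exact congrArg Subtype.val ((m a ha oa).trans (m b hb ob).symm)

theorem nK {F : Subgroup G} {g k : G} (hg : g ∈ Nm F) (hk : k ∈ Ct F) : g * k * g⁻¹ ∈ Ct F :=
  mem_centralizer_iff.2 fun l hl => by
    have := mem_centralizer_iff.1 hk _ ((mem_normalizer_iff''.1 hg l).1 hl)
    calc l * (g * k * g⁻¹) = g * (g⁻¹ * l * g * k) * g⁻¹ := by group
      _ = _ := by rw [this]; group
end gen

variable {G : Type} [Group G] [Finite G] {Ω : Type} [MulAction G Ω] {p : ℕ} {A : Ω → Subgroup G}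

/-- involutions centralising a line group -/
def TT (A : Ω → Subgroup G) (v : G) : Prop := ∃ c d, c ≠ d ∧ v ∈ Kl A c d ∧ orderOf v = 2

omit [Finite G] in
theorem TT.cj (st : St p A) {v : G} (h : TT A v) (g : G) : TT A (g * v * g⁻¹) := by
  obtain ⟨c, d, e, h1, h2⟩ := h
  refine ⟨g • c, g • d, fun e' => e (smul_left_cancel g e'), ?_, ?_⟩
  · rw [Kl, H16.IvSk.Fl_smul st]; exact H16.IvSk.cen_conj g h1
  · rw [← h2]; exact (SemiconjBy.orderOf_eq g (show g * v = g * v * g⁻¹ * g by group)).symm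

omit [Finite G] in
theorem pP (st : St p A) (h : L2 p A) (p1 : p % 4 = 1) {a b : Ω} (ab : a ≠ b) {v : G} (hv : TT A v)
    (hM : v ∈ Nm (Fl A a b)) (hi : v ∈ Kl A a b ⊔ Fl A a b) : v ∈ Kl A a b := by
  by_contra n
  obtain ⟨c, d, cd, vK, vo⟩ := hv
  obtain ⟨z, hz, e⟩ := (((h.lv a b ab).par v hM (by rw [sq2 vo]; exact one_mem _) n).2 p1).1 hi
  have vc : v ∈ Ct (A c) := centralizer_le (show (A c : Set G) ⊆ _ from
    (le_sup_left : A c ≤ Fl A c d)) vK
  have vz : v ∈ Ct (A z) := by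
    by_cases q : c = z
    · exact q ▸ vc
    · exact centralizer_le (show (A z : Set G) ⊆ _ from (le_sup_right : A z ≤ Fl A c z))
        (h.mc.ep.eps c z q v ⟨(h.mc.ep.kfix c d cd v).1 vK c (h.la c d cd).mx, e⟩ vc)
  obtain ⟨z', hz', q⟩ : ∃ z' ∈ Ln A a b, z ≠ z' := by
    by_cases q : z = a
    · exact ⟨b, (h.la a b ab).my, q ▸ ab⟩
    · exact ⟨a, (h.la a b ab).mx, q⟩
  have sp := h.mc.ep.span a b ab z hz z' hz' q
  obtain ⟨k, hk, l, hl, rfl⟩ := (h.la z z' q).CM v vz (by rwa [sp])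
  have cm : Commute l k := mem_centralizer_iff.1 hk l (mem_sup_left hl)
  have l2 : l ^ 2 = 1 := (h.la z z' q).ctr _ (pow_mem (mem_sup_left hl) 2) (by
    have : k ^ 2 * l ^ 2 = 1 := by rw [← cm.symm.mul_pow, pow_two, sq2 vo]
    rw [eq_inv_of_mul_eq_one_right this]; exact inv_mem (pow_mem hk 2))
  have lp : orderOf l ∣ p := st.card z ▸ (A z).orderOf_dvd_natCard hl
  have : orderOf l = 1 := by
    rcases (Nat.dvd_prime Nat.prime_two).1 (orderOf_dvd_of_pow_eq_one l2) with r | r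
    · exact r
    · rw [r] at lp; omega
  rw [orderOf_eq_one_iff.1 this, mul_one, Kl, ← sp] at n
  exact n hk

omit [Finite G] in
theorem pC (h : L2 p A) {c d : Ω} (cd : c ≠ d) {v w g : G} (hv : v ∈ Kl A c d) (hw : w ∈ Kl A c d)
    (wo : orderOf w = 2) (e : g * v = w * g) : g ∈ Nm (Fl A c d) :=
  (h.mc.ep.nrm c d cd g).2 fun z hz => h.ti2 c d cd w hw wo _ (by
    rw [← mul_smul, ← e, mul_smul, (h.mc.ep.kfix c d cd v).1 hv z hz])

omit [Finite G] in
theorem pD (h : L2 p A) {a b c d : Ω} (ab : a ≠ b) (cd : c ≠ d) {v : G} (hv : v ∈ Kl A c d)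
    (hv' : v ∈ Kl A a b) (vo : orderOf v = 2) : Fl A c d = Fl A a b :=
  h.mc.ep.span a b ab c (h.ti2 a b ab v hv' vo c ((h.mc.ep.kfix c d cd v).1 hv c (h.la c d cd).mx))
    d (h.ti2 a b ab v hv' vo d ((h.mc.ep.kfix c d cd v).1 hv d (h.la c d cd).my)) cd

omit [Finite G] in
theorem nofix (h : L2 p A) (p1 : p % 4 = 1) {a b : Ω} (ab : a ≠ b) {v : G} (hM : v ∈ Nm (Fl A a b))
    (vv : v * v = 1) (ho : v ∉ Kl A a b ⊔ Fl A a b) : ∀ z ∈ Ln A a b, v • z ≠ z := fun z hz e =>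
  ho ((((h.lv a b ab).par v hM (by rw [vv]; exact one_mem _) fun c => ho (mem_sup_left c)).2 p1).2
    ⟨z, hz, e⟩)

omit [Finite G] in
theorem stab (h : L2 p A) {a b : Ω} (ab : a ≠ b) {v w : G} (hM : v ∈ Nm (Fl A a b))
    (wF : w ∈ Fl A a b) (wo : orderOf w = 2) (wH : w ∈ Hs G a b) (c : Commute v w) {z : Ω}
    (hz : z = a ∨ z = b) : v • z = a ∨ v • z = b := by
  have la := h.la a b ab
  by_contra n
  push Not at n
  have zl : z ∈ Ln A a b := by rcases hz with rfl | rfl; exacts [la.mx, la.my]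
  have wz : w • z = z := by rcases hz with rfl | rfl; exacts [wH.1, wH.2]
  exact ne2 wo (la.ctr w wF (la.three w a la.mx b la.my _ ((h.mc.ep.nrm a b ab v).1 hM z zl) ab
    n.2.symm n.1.symm wH.1 wH.2 (by rw [← mul_smul, ← c.eq, mul_smul, wz])))

omit [Finite G] in
theorem swap (h : L2 p A) (p1 : p % 4 = 1) {a b : Ω} (ab : a ≠ b) {v w : G} (hM : v ∈ Nm (Fl A a b))
    (vv : v * v = 1) (ho : v ∉ Kl A a b ⊔ Fl A a b) (wF : w ∈ Fl A a b) (wo : orderOf w = 2)
    (wH : w ∈ Hs G a b) (c : Commute v w) : v • a = b ∧ v • b = a :=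
  ⟨(stab h ab hM wF wo wH c (.inl rfl)).resolve_left (nofix h p1 ab hM vv ho a (h.la a b ab).mx),
   (stab h ab hM wF wo wH c (.inr rfl)).resolve_right (nofix h p1 ab hM vv ho b (h.la a b ab).my)⟩

omit [Finite G] in
theorem conjL (h : L2 p A) (p1 : p % 4 = 1) {a b : Ω} (ab : a ≠ b) {u c : G} (hM : u ∈ Nm (Fl A a b))
    (uu : u * u = 1) (ho : u ∉ Kl A a b ⊔ Fl A a b) (ua : u • a = b) (ub : u • b = a)
    (cF : c ∈ Fl A a b) (cH : c ∈ Hs G a b) : ∃ g ∈ Fl A a b, g * u * g⁻¹ = c * u := by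
  obtain ⟨f, s, lc⟩ := h.lc a b ab
  have lt := h.lt a b ab f s lc
  have la := h.la a b ab
  have ui : u⁻¹ = u := inv_eq_of_mul_eq_one_right uu
  have si : s⁻¹ = s := inv_eq_of_mul_eq_one_right (sq2 lc.so)
  have uf : u * f * u⁻¹ = f⁻¹ := eq_inv_of_mul_eq_one_left (la.ctr _
    (mul_mem ((mem_normalizer_iff.1 hM f).1 lc.fL) lc.fL) (lt.inv u ua ub f lc.fH))
  have ufn : ∀ n : ℤ, f ^ n * u * (f ^ n)⁻¹ = f ^ (2 * n) * u := fun n => by
    have : u * f ^ (-n) * u⁻¹ = f ^ n := by rw [← conj_zpow, uf]; simp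
    calc _ = f ^ n * (u * f ^ (-n) * u⁻¹) * u := by group
      _ = _ := by rw [this]; group
  have rH : s * u ∈ Hs G a b := ⟨show (s * u) • a = a by rw [mul_smul, ua, lc.sy],
    show (s * u) • b = b by rw [mul_smul, ub, lc.sx]⟩
  obtain ⟨m, hm⟩ := lc.TL (s * u * (s * u)) (by
    rw [show s * u * (s * u) = s * (u * s * u⁻¹) by rw [ui]; group]
    exact mul_mem lc.sL ((mem_normalizer_iff.1 hM s).1 lc.sL)) (mul_mem rH rH)
  obtain ⟨n, rfl⟩ := lc.TL c cF cH
  simp only at hm ⊢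
  rcases Int.even_or_odd' n with ⟨j, rfl | rfl⟩
  · exact ⟨f ^ j, zpow_mem lc.fL j, ufn j⟩
  rcases Int.even_or_odd' m with ⟨i, rfl | rfl⟩
  · exfalso
    have cm : Commute (s * u) (f ^ (-i)) := (lt.com _ rH).zpow_right _
    refine nofix h p1 ab (v := s * u * f ^ (-i))
      (mul_mem (mul_mem (le_normalizer lc.sL) hM) (le_normalizer (zpow_mem lc.fL _))) ?_
      (fun c => ho ?_) a la.mx (mul_mem rH (zpow_mem lc.fH _)).1
    · rw [← pow_two, cm.mul_pow, pow_two, ← hm]; group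
    · have := mul_mem (mul_mem (mem_sup_right (inv_mem lc.sL)) c) (mem_sup_right (zpow_mem lc.fL i))
      rwa [show s⁻¹ * (s * u * f ^ (-i)) * f ^ i = u by group] at this
  · refine ⟨f ^ (j - i) * s, mul_mem (zpow_mem lc.fL _) lc.sL, ?_⟩
    have e : s * u * s⁻¹ = f ^ (2 * i + 1) * u := by
      rw [hm, si, mul_assoc (s * u), mul_assoc s u u, uu, mul_one]
    calc _ = f ^ (j - i) * (s * u * s⁻¹) * (f ^ (j - i))⁻¹ := by group
      _ = f ^ (2 * i + 1) * (f ^ (j - i) * u * (f ^ (j - i))⁻¹) := by rw [e]; group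
      _ = _ := by rw [ufn]; group

omit [Finite G] in
theorem nt (st : St p A) (h : L2 p A) (p1 : p % 4 = 1) {a b : Ω} (ab : a ≠ b) {t w v : G}
    (tK : t ∈ Kl A a b) (tO : orderOf t = 2) (wF : w ∈ Fl A a b) (wo : orderOf w = 2)
    (wH : w ∈ Hs G a b) (hv : TT A v) (vM : v ∈ Nm (Fl A a b)) (vo : v ∉ Kl A a b ⊔ Fl A a b)
    (ct : Commute v t) (cw : Commute v w) : ¬ TT A (v * t) := by
  intro hvt
  have la := h.la a b ab
  obtain ⟨c, d, cd, vK, o⟩ := id hv
  obtain ⟨f, s, lc⟩ := h.lc c d cd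
  have idx := (h.lt c d cd f s lc).idx
  have tM := pC h cd vK vK o ct.eq.symm
  have wM := pC h cd vK vK o cw.eq.symm
  have vM' : v ∈ Nm (Fl A c d) := centralizer_le_normalizer _ vK
  have tw : Commute w t := mem_centralizer_iff.1 tK w wF
  have wK : w ∉ Kl A a b := fun e => ne2 wo (la.ctr w wF e)
  have n1 : t ∉ Kl A c d ⊔ Fl A c d := fun e => vo (mem_sup_left (by
    rw [Kl, ← pD h ab cd (pP st h p1 cd ⟨a, b, ab, tK, tO⟩ tM e) tK tO]; exact vK))
  obtain ⟨va, vb⟩ := swap h p1 ab vM (sq2 o) vo wF wo wH cw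
  obtain ⟨g, gF, hg⟩ := conjL h p1 ab vM (sq2 o) vo va vb wF wH
  have n2 : w ∉ Kl A c d ⊔ Fl A c d := fun e => by
    have := pP st h p1 cd (hg ▸ hv.cj st g) (mul_mem wM vM') (mul_mem e (mem_sup_left vK))
    exact wK (pP st h p1 ab ⟨c, d, cd, (mul_mem_cancel_right vK).1 this, wo⟩ (le_normalizer wF)
      (mem_sup_right wF))
  have e : g * (v * t) * g⁻¹ = v * (w * t) := by
    calc _ = g * v * g⁻¹ * (g * t * g⁻¹) := by group
      _ = _ := by rw [hg, mem_centralizer_iff.1 tK g gF, ← cw.eq]; group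
  have k := pP st h p1 cd (e ▸ hvt.cj st g) (mul_mem vM' (mul_mem wM tM))
    (mul_mem (mem_sup_left vK) (idx w wM t tM n2 n1))
  have k1 : w * t ≠ 1 := fun e => wK (by rw [eq_inv_of_mul_eq_one_left e]; exact inv_mem tK)
  refine wK ((mul_mem_cancel_right tK).1 (pP st h p1 ab ⟨c, d, cd, (mul_mem_cancel_left vK).1 k,
    ord2 ?_ k1⟩ (mul_mem (le_normalizer wF) (centralizer_le_normalizer _ tK))
    (mul_mem (mem_sup_right wF) (mem_sup_left tK))))
  rw [← pow_two, tw.mul_pow, pow_two, pow_two, sq2 wo, sq2 tO, one_mul]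

theorem main (st : St p A) (h : L2 p A) (p1 : p % 4 = 1) {a b : Ω} (ab : a ≠ b) {S : Subgroup G}
    (hS : IsSylowIn 2 S (Nm (Fl A a b))) {t w w' u : G} (tS : t ∈ S) (tK : t ∈ Kl A a b)
    (tO : orderOf t = 2) (tZ : ∀ s ∈ S, Commute s t) (wF : w ∈ Fl A a b)
    (wo : orderOf w = 2) (wZ : ∀ s ∈ S, Commute s w) (wH : w ∈ Hs G a b) (w'S : w' ∈ S)
    (w'F : w' ∈ Fl A a b) (w'o : orderOf w' = 2) (ww : w' ≠ w) (uS : u ∈ S) (hu : TT A u)
    (uo : u ∉ Kl A a b ⊔ Fl A a b) : False := by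
  have : Fact (Nat.Prime 2) := ⟨Nat.prime_two⟩
  have la := h.la a b ab
  have S2 := hS.isPGroup
  have tT : TT A t := ⟨a, b, ab, tK, tO⟩
  have tt := sq2 tO
  obtain ⟨c, d, cd, uK, o⟩ := id hu
  have uu := sq2 o
  obtain ⟨f, s, lc⟩ := h.lc a b ab
  have idx := (h.lt a b ab f s lc).idx
  have ne : ∀ r ∈ Kl A a b, orderOf r = 2 → Commute r u → r ∉ Kl A c d ⊔ Fl A c d :=
    fun r rK ro cm e => uo (mem_sup_left (by
      rw [Kl, ← pD h ab cd (pP st h p1 cd ⟨a, b, ab, rK, ro⟩ (pC h cd uK uK o cm.eq) e) rK ro]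
      exact uK))
  have ck : ∀ k ∈ S, k ∈ Kl A a b → Commute k u → k = 1 ∨ k = t := by
    have one : ∀ k ∈ S, k ∈ Kl A a b → Commute k u → k ∈ Kl A c d ⊔ Fl A c d → k = 1 :=
      fun k kS kK cm e => by
        by_contra k1
        obtain ⟨n, hn⟩ := inv_pow' S2 kS k1
        exact ne _ (pow_mem kK n) hn (cm.pow_left n) (pow_mem e n)
    intro k kS kK cm
    by_cases e : k ∈ Kl A c d ⊔ Fl A c d
    · exact .inl (one k kS kK cm e)
    obtain ⟨f', s', lc'⟩ := h.lc c d cd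
    have ct := (tZ u uS).symm
    have := one _ (mul_mem kS tS) (mul_mem kK tK) (cm.mul_left ct) ((h.lt c d cd f' s' lc').idx k
      (pC h cd uK uK o cm.eq) t (pC h cd uK uK o ct.eq) e (ne t tK tO ct))
    exact .inr ((eq_inv_of_mul_eq_one_left this).trans (inv_eq_of_mul_eq_one_right tt))
  have uN : u ∈ normalizer (Kl A a b : Set G) := mem_normalizer_fintype fun k hk => nK (hS.le uS) hk
  have R : ∀ k ∈ S, k ∈ Kl A a b → k = 1 ∨ k = t := by
    have := grow (S ⊓ (Kl A a b ⊔ zpowers u) ⊓ C1 u) (S ⊓ (Kl A a b ⊔ zpowers u))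
      (S2.to_le inf_le_left) inf_le_left fun g hg hn => by
        refine ⟨hg, mem_centralizer_singleton_iff.2 ?_⟩
        have m := (mem_normalizer_iff.1 hn u).1 ⟨⟨uS, mem_sup_right (mem_zpowers u)⟩,
          mem_centralizer_singleton_iff.2 rfl⟩
        have cK : g * u * g⁻¹ * u⁻¹ ∈ Kl A a b := by
          rcases mem2 uN uu hg.2 with r | r
          · rw [show g * u * g⁻¹ * u⁻¹ = g * (u * g⁻¹ * u⁻¹) by group]
            exact mul_mem r (nK (hS.le uS) (inv_mem r))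
          · rw [show g * u * g⁻¹ * u⁻¹ = g * u * (u * (g * u)⁻¹ * u⁻¹) by group]
            exact mul_mem r (nK (hS.le uS) (inv_mem r))
        rcases ck _ (mul_mem m.1.1 (inv_mem uS)) cK (Commute.mul_left
          (mem_centralizer_singleton_iff.1 m.2) (Commute.refl u).inv_left) with r | r
        · exact mul_inv_eq_iff_eq_mul.1 (mul_inv_eq_one.1 r)
        · refine (nt st h p1 ab tK tO wF wo wH hu (hS.le uS) uo (tZ u uS) (wZ u uS) ?_).elim
          rw [(tZ u uS).eq, ← eq_mul_of_mul_inv_eq r]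
          exact hu.cj st g
    exact fun k kS kK => ck k kS kK (mem_centralizer_singleton_iff.1 (this ⟨kS, mem_sup_left kK⟩).2)
  have syl : Odd S.index := by
    obtain ⟨T, hT, ST⟩ := exists_isSylowIn_ge (H := ⊤) le_top S2
    have e : T ≤ S := grow S T hT.isPGroup ST fun g gT gN => by
      have mS := (mem_normalizer_iff.1 gN t).1 tS
      have o' : orderOf (g * t * g⁻¹) = 2 := (tT.cj st g).choose_spec.choose_spec.2.2
      by_cases i : g * t * g⁻¹ ∈ Kl A a b ⊔ Fl A a b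
      · obtain ⟨k, hk⟩ := pw hT.isPGroup gT
        exact hS.mem_of_norm (pC h ab tK (pP st h p1 ab (tT.cj st g) (hS.le mS) i) o' (by group)) hk gN
      exfalso
      have cz : Commute (g * t * g⁻¹) w' := by
        have := (tZ _ ((mem_normalizer_iff''.1 gN w').1 w'S)).eq
        calc g * t * g⁻¹ * w' = g * (t * (g⁻¹ * w' * g)) * g⁻¹ := by group
          _ = _ := by rw [← this]; group
      have sw := swap h p1 ab (hS.le mS) (sq2 o') i wF wo wH (wZ _ mS)
      rcases stab h ab (hS.le w'S) wF wo wH (wZ _ w'S) (.inl rfl) with r | r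
      · refine ww (uniq2 (lc.TL _ w'F ⟨r, ?_⟩) (lc.TL _ wF wH) w'o wo)
        exact (stab h ab (hS.le w'S) wF wo wH (wZ _ w'S) (.inr rfl)).resolve_left
          fun r' => ab (smul_left_cancel w' (r.trans r'.symm))
      · refine nofix h p1 ab (hS.le (mul_mem mS w'S)) ?_
          (fun e => i ((mul_mem_cancel_right (mem_sup_right w'F)).1 e)) a la.mx
          (by rw [mul_smul, r, sw.2])
        rw [← pow_two, cz.mul_pow, pow_two, pow_two, sq2 o', sq2 w'o, one_mul]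
    have := hT.not_dvd_relIndex
    rw [← le_antisymm ST e, relIndex_top_right] at this
    exact Nat.odd_iff.2 (by omega)
  have dec : ∀ e ∈ S, e ∈ Kl A a b ⊔ Fl A a b → e ∈ Fl A a b ∨ e * t ∈ Fl A a b := fun e eS hi => by
    obtain ⟨k, hk, l, hl, rfl⟩ := la.dec e hi
    have cm : Commute l k := mem_centralizer_iff.1 hk l hl
    have lt : Commute l t := mem_centralizer_iff.1 tK l hl
    obtain ⟨n, hn⟩ := pw S2 eS
    rw [cm.symm.mul_pow] at hn
    have kn : k ^ 2 ^ n = 1 := la.ctr _ (by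
      rw [eq_inv_of_mul_eq_one_left hn]; exact inv_mem (pow_mem hl _)) (pow_mem hk _)
    have kt : Commute k t := by
      have := (tZ _ eS).mul_left lt.inv_left
      rwa [mul_inv_cancel_right] at this
    have sy := hS.inf_normal (N := Kl A a b) (centralizer_le_normalizer _)
      fun g hg => mem_normalizer_fintype fun k hk => nK hg hk
    have kS := sy.mem_of_norm hk kn (mem_normalizer_fintype fun r hr => by
      rcases R r hr.1 hr.2 with rfl | rfl
      · simp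
      · rwa [kt.eq, mul_inv_cancel_right])
    rcases R k kS.1 hk with rfl | rfl
    · exact .inl (by rwa [one_mul])
    · exact .inr (by rwa [mul_assoc, cm.eq, ← mul_assoc, tt, one_mul])
  have ut : u * t * (u * t) = 1 := by rw [← pow_two, (tZ u uS).mul_pow, pow_two, pow_two, uu, tt, one_mul]
  have utS := mul_mem uS tS
  have m1 : u * t ∈ Fl A a b ⊔ zpowers (u * t) := mem_sup_right (mem_zpowers _)
  obtain ⟨N, n1, n2, n3⟩ := H87.thompson_transfer_involution (M := S ⊓ (Fl A a b ⊔ zpowers (u * t)))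
    syl (x := t) (by
      rw [inf_relIndex_left]
      refine relIndex_eq_two_iff_exists_notMem_and.2 ⟨t, tS, fun e => ?_, fun e eS => ?_⟩
      · rcases mem2 (hS.le utS) ut e with r | r
        · exact ne2 tO (la.ctr t r tK)
        · rw [(tZ u uS).eq, ← mul_assoc, tt, one_mul] at r
          exact uo (mem_sup_right r)
      · by_cases i : e ∈ Kl A a b ⊔ Fl A a b
        · exact (dec e eS i).symm.imp mem_sup_left mem_sup_left
        · refine (dec _ (mul_mem eS uS) (idx e (hS.le eS) u (hS.le uS) i uo)).imp (fun r => ?_)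
            fun r => ?_
          · have := mul_mem (mem_sup_left r) m1
            rwa [← mul_assoc, mul_assoc e, uu, mul_one] at this
          · rw [mul_assoc] at r
            exact (mul_mem_cancel_right m1).1 (mem_sup_left r))
    (by rw [pow_two, tt]) (fun g ⟨mS, hm⟩ => by
      have gT := tT.cj st g
      have o' : orderOf (g * t * g⁻¹) = 2 := gT.choose_spec.choose_spec.2.2
      generalize g * t * g⁻¹ = v at mS hm gT o'
      rcases mem2 (hS.le utS) ut hm with r | r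
      · exact ne2 o' (la.ctr v r (pP st h p1 ab gT (hS.le mS) (mem_sup_right r)))
      have vo : v ∉ Kl A a b ⊔ Fl A a b := fun e => uo ((mul_mem_cancel_right (mem_sup_left tK)).1
        ((mul_mem_cancel_left e).1 (mem_sup_right r)))
      have s1 := swap h p1 ab (hS.le mS) (sq2 o') vo wF wo wH (wZ _ mS)
      have s2 := swap h p1 ab (hS.le uS) uu uo wF wo wH (wZ _ uS)
      have ta := (h.mc.ep.kfix a b ab t).1 tK a la.mx
      have tb := (h.mc.ep.kfix a b ab t).1 tK b la.my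
      obtain ⟨g0, -, e⟩ := conjL h p1 ab (hS.le uS) uu uo s2.1 s2.2 r
        ⟨show (v * (u * t)) • a = a by rw [mul_smul, mul_smul, ta, s2.1, s1.2],
         show (v * (u * t)) • b = b by rw [mul_smul, mul_smul, tb, s2.2, s1.1]⟩
      refine nt st h p1 ab tK tO wF wo wH gT (hS.le mS) vo (tZ _ mS) (wZ _ mS) ?_
      rw [(tZ u uS).eq, mul_assoc v, mul_assoc t, uu, mul_one] at e
      exact e ▸ hu.cj st g0)
  exact n3 (h.no2 N n1 n2 a b ab
    ⟨(h.mc.ep.kfix a b ab t).1 tK a la.mx, (h.mc.ep.kfix a b ab t).1 tK b la.my⟩)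

theorem aS : AStmt := by
  intro G _ _ Ω _ _ p A st h p1 x y xy
  have : Fact (Nat.Prime 2) := ⟨Nat.prime_two⟩
  by_contra ev
  rw [Nat.not_odd_iff_even] at ev
  have la := h.la x y xy
  have lv := h.lv x y xy
  obtain ⟨c, d, cd, -, u, uK, uo, uM, nf⟩ := h.te x y xy ev
  have out : u ∉ Kl A x y ⊔ Fl A x y := fun e => nf x la.mx
    ((h.mc.ep.kfix x y xy u).1 (pP st h p1 xy ⟨c, d, cd, uK, uo⟩ uM e) x la.mx)
  obtain ⟨S, hS, uS⟩ := exists_isSylowIn_ge (p := 2) (zpowers_le.2 uM)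
    (IsPGroup.of_card (n := 1) (by rw [Nat.card_zpowers, uo, pow_one]))
  have sK := hS.inf_normal (N := Kl A x y) (centralizer_le_normalizer _)
    fun g hg => mem_normalizer_fintype fun k hk => nK hg hk
  obtain ⟨t, tS, tK, tO, tZ⟩ := cen (N := Kl A x y) hS.isPGroup
    (fun g hg => mem_normalizer_fintype fun k hk => nK (hS.le hg) hk) (sK.ne_bot ev.two_dvd)
  have sF := hS.inf_normal (N := Fl A x y) le_normalizer le_rfl
  obtain ⟨f, s, lc⟩ := h.lc x y xy
  obtain ⟨w, wS, wF, wo, wZ⟩ := cen (N := Fl A x y) hS.isPGroup hS.le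
    (sF.ne_bot (lc.so ▸ (Fl A x y).orderOf_dvd_natCard lc.sL))
  obtain ⟨w', w'S, w'o, ww⟩ : ∃ w' ∈ S ⊓ Fl A x y, orderOf w' = 2 ∧ w' ≠ w := by
    obtain ⟨r, rF, ro, rs, cm⟩ := lv.four s lc.sL lc.so
    have q : ∀ a : G, orderOf a = 2 → IsPGroup 2 (zpowers a) := fun a o =>
      IsPGroup.of_card (n := 1) (by rw [Nat.card_zpowers, o, pow_one])
    obtain ⟨g, -, hg⟩ := sF.exists_conj_le (P := zpowers r ⊔ zpowers s)
      (sup_le (zpowers_le.2 rF) (zpowers_le.2 lc.sL)) ((q r ro).to_sup_of_normal_right'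
        (q s lc.so) (zpowers_le.2 (centralizer_le_normalizer _ (mem_centralizer_iff.2 (by
          rintro _ ⟨n, rfl⟩; exact cm.zpow_left n)))))
    have oc : ∀ a : G, orderOf (g * a * g⁻¹) = orderOf a := fun a =>
      (SemiconjBy.orderOf_eq g (show g * a = g * a * g⁻¹ * g by group)).symm
    by_cases e : g * r * g⁻¹ = w
    · refine ⟨_, hg (conj_mem_cj (mem_sup_right (mem_zpowers s))), (oc s).trans lc.so, fun e' => rs ?_⟩
      simpa using e.trans e'.symm
    · exact ⟨_, hg (conj_mem_cj (mem_sup_left (mem_zpowers r))), (oc r).trans ro, e⟩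
  have e2 : 2 ∣ orderOf f := by have := lc.fo; omega
  have hz : orderOf (f ^ (orderOf f / 2)) = 2 := orderOf_pow_orderOf_div (orderOf_pos f).ne' e2
  obtain ⟨g, gF, hg⟩ := lv.cls _ (pow_mem lc.fL _) w wF hz wo
  have zH := pow_mem lc.fH (orderOf f / 2)
  have ab : g • x ≠ g • y := fun e => xy (smul_left_cancel g e)
  have nr := (h.mc.ep.nrm x y xy g).1 (le_normalizer gF)
  have sp := h.mc.ep.span x y xy _ (nr x la.mx) _ (nr y la.my) ab
  have wH : w ∈ Hs G (g • x) (g • y) :=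
    ⟨show w • g • x = g • x by rw [← hg, mul_smul, inv_smul_smul, mul_smul, show _ • x = x from zH.1],
     show w • g • y = g • y by rw [← hg, mul_smul, inv_smul_smul, mul_smul, show _ • y = y from zH.2]⟩
  refine main st h p1 ab (S := S) (t := t) (w := w) (w' := w') (u := u) (by rwa [sp]) tS
    (by rwa [Kl, sp]) tO tZ (by rwa [sp]) wo wZ wH w'S.1 (by rw [sp]; exact w'S.2) w'o ww
    (uS (mem_zpowers u)) ⟨c, d, cd, uK, uo⟩ (by rwa [Kl, sp])

theorem eqns_TT : True := by have := @TT.eq_1; trivial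

end Cfsg.Agent.H13.CyLpA
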