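import Cfsg.Agent.H78.G40B

/-! Project L40G, piece F1F: the classes of involutions of `L₄(3)`. -/

set_option autoImplicit false

namespace Cfsg.Agent.H13.G40F1f

open Matrix Cfsg.Agent.H78.G40 Cfsg.Agent.H46.L40

theorem conj0 (g m s : SL4) (h : g.1 * s.1 = s.1 * m.1) : IsConj (mk1 m) (mk1 g) := by
  have e : s * m * s⁻¹ = g := by
    rw [mul_inv_eq_iff_eq_mul]
    exact Subtype.ext h.symm
  exact isConj_iff.2 ⟨mk1 s, by rw [← map_mul, ← map_inv, ← map_mul, e]⟩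

theorem conj1 (g m : SL4) (P c : Matrix (Fin 4) (Fin 4) (ZMod 3)) (hP : P.det ≠ 0)
    (hc : c.det = 2) (hcm : c * m.1 = m.1 * c) (h : g.1 * P = P * m.1) :
    IsConj (mk1 m) (mk1 g) := by
  have h12 : ∀ a : ZMod 3, a ≠ 0 → a = 1 ∨ a * 2 = 1 := by decide
  rcases h12 _ hP with h1 | h1
  · exact conj0 g m ⟨P, h1⟩ h
  · refine conj0 g m ⟨P * c, by rw [det_mul, hc, h1]⟩ ?_
    change g.1 * (P * c) = P * c * m.1
    rw [← mul_assoc, h, mul_assoc, mul_assoc, hcm]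

theorem mul_cols (g : Matrix (Fin 4) (Fin 4) (ZMod 3)) (a : Fin 4 → Fin 4 → ZMod 3) :
    g * (of a)ᵀ = (of fun j => g *ᵥ a j)ᵀ := by
  ext i j
  simp [mul_apply, mulVec, dotProduct]

theorem cols_mul (m : Matrix (Fin 4) (Fin 4) (ZMod 3)) (a : Fin 4 → Fin 4 → ZMod 3) :
    (of a)ᵀ * m = (of fun j => ∑ k, m k j • a k)ᵀ := by
  ext i j
  simp [mul_apply, Finset.sum_apply, mul_comm]

theorem det_cols (a : Fin 4 → Fin 4 → ZMod 3)
    (h : ∀ x : Fin 4 → ZMod 3, ∑ j, x j • a j = 0 → x = 0) : ((of a)ᵀ).det ≠ 0 := by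
  intro h0
  obtain ⟨x, hx, e⟩ := exists_mulVec_eq_zero_iff.2 h0
  apply hx
  apply h
  rw [← e]
  ext i
  simp [mulVec, dotProduct, Finset.sum_apply, mul_comm]

theorem diag (g : Matrix (Fin 4) (Fin 4) (ZMod 3)) (hg : g * g = 1) :
    ∃ (P : Matrix (Fin 4) (Fin 4) (ZMod 3)) (d : Fin 4 → ZMod 3), P.det ≠ 0 ∧
      (∀ i, d i = 1 ∨ d i = 2) ∧ g * P = P * diagonal d := by
  let S : Set (Fin 4 → ZMod 3) := {v | ∃ c : ZMod 3, (c = 1 ∨ c = 2) ∧ g *ᵥ v = c • v}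
  have hS : ⊤ ≤ Submodule.span (ZMod 3) S := by
    intro v _
    have hgg : g *ᵥ (g *ᵥ v) = v := by rw [mulVec_mulVec, hg, one_mulVec]
    have h1 : v + g *ᵥ v ∈ S := ⟨1, Or.inl rfl, by rw [mulVec_add, hgg, one_smul, add_comm]⟩
    have h2 : v - g *ᵥ v ∈ S := ⟨2, Or.inr rfl, by
      rw [mulVec_sub, hgg, show (2 : ZMod 3) = -1 by decide, neg_smul, one_smul, neg_sub]⟩
    have e : v = (2 : ZMod 3) • ((v + g *ᵥ v) + (v - g *ᵥ v)) := by
      rw [add_add_sub_cancel, ← two_smul (ZMod 3) v, smul_smul,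
        show (2 * 2 : ZMod 3) = 1 by decide, one_smul]
    rw [e]
    exact Submodule.smul_mem _ _ (Submodule.add_mem _ (Submodule.subset_span h1)
      (Submodule.subset_span h2))
  obtain ⟨b, hbS, hsp, hli⟩ := exists_linearIndependent (ZMod 3) S
  let B : Module.Basis b (ZMod 3) (Fin 4 → ZMod 3) :=
    Module.Basis.mk hli (by rw [Subtype.range_coe_subtype, Set.ofPred_mem_eq, hsp]; exact hS)
  have : Fintype b := Fintype.ofFinite b
  have hc : Fintype.card b = 4 := by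
    rw [← Module.finrank_eq_card_basis B]; simp
  let e : Fin 4 ≃ b := (Fintype.equivFinOfCardEq hc).symm
  have hli' : LinearIndependent (ZMod 3) fun j : Fin 4 => (e j : Fin 4 → ZMod 3) :=
    hli.comp e e.injective
  choose d hd hgd using fun j : Fin 4 => hbS (e j).2
  refine ⟨(of fun j => (e j : Fin 4 → ZMod 3))ᵀ, d, det_cols _ fun x hx => ?_, hd, ?_⟩
  · exact funext (Fintype.linearIndependent_iff.1 hli' x hx)
  · rw [mul_cols]
    ext i j
    rw [mul_diagonal]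
    simp [hgd, mul_comm]

theorem tab : ∀ d : Fin 4 → ZMod 3, (∀ i, d i = 1 ∨ d i = 2) → d 0 * d 1 * d 2 * d 3 = 1 →
    diagonal d = (1 : Matrix (Fin 4) (Fin 4) (ZMod 3)) ∨
    diagonal d = (-1 : Matrix (Fin 4) (Fin 4) (ZMod 3)) ∨
    ∃ s ∈ ([!![0, 0, 1, 0; 0, 0, 0, 1; 1, 0, 0, 0; 0, 1, 0, 0],
      !![0, 0, 1, 0; 0, 1, 0, 0; 0, 0, 0, 1; 1, 0, 0, 0],
      !![0, 0, 1, 0; 1, 0, 0, 0; 0, 1, 0, 0; 0, 0, 0, 1],
      !![1, 0, 0, 0; 0, 0, 1, 0; 0, 0, 0, 1; 0, 1, 0, 0],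
      !![1, 0, 0, 0; 0, 0, 0, 1; 0, 1, 0, 0; 0, 0, 1, 0],
      !![1, 0, 0, 0; 0, 1, 0, 0; 0, 0, 1, 0; 0, 0, 0, 1]] :
        List (Matrix (Fin 4) (Fin 4) (ZMod 3))), s.det = 1 ∧
      diagonal d * s = s * b4 z0.1 := by
  decide +kernel

theorem plus (g : SL4) (hg : g.1 * g.1 = 1) (h1 : mk1 g ≠ 1) : IsConj (e1 z0) (mk1 g) := by
  obtain ⟨P, d, hP, hd, h⟩ := diag g.1 hg
  have hu : IsUnit P := (isUnit_iff_isUnit_det P).2 (isUnit_iff_ne_zero.2 hP)
  have hdet : (diagonal d).det = 1 := by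
    have := congrArg det h
    rw [det_mul, det_mul, g.2, one_mul] at this
    exact (mul_left_cancel₀ hP (by rw [mul_one]; exact this)).symm
  have hprod : d 0 * d 1 * d 2 * d 3 = 1 := by
    rw [det_diagonal, Fin.prod_univ_four] at hdet; exact hdet
  rcases tab d hd hprod with e | e | ⟨s, -, hs, e⟩
  · exfalso
    apply h1
    rw [e, mul_one] at h
    rw [← map_one mk1, mk1_eq]
    exact Or.inl (hu.mul_right_cancel (by rw [h]; exact (one_mul P).symm))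
  · exfalso
    apply h1
    rw [e, mul_neg, mul_one] at h
    rw [← map_one mk1, mk1_eq]
    refine Or.inr (hu.mul_right_cancel ?_)
    rw [h]
    change -P = -1 * P
    rw [neg_mul, one_mul]
  · refine conj1 g (E1 z0) (P * s) d4 (by rw [det_mul, hs, mul_one]; exact hP)
      (by decide +kernel) (by decide +kernel) ?_
    change g.1 * (P * s) = P * s * b4 z0.1
    rw [← mul_assoc, h, mul_assoc, e, mul_assoc]

theorem out : ∀ y : Fin 4 → ZMod 3, ∃ w ∈ ([![0, 1, 0, 0], ![0, 0, 1, 0]] : List (Fin 4 → ZMod 3)),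
    ∀ a b : ZMod 3, w ≠ a • ![1, 0, 0, 0] + b • y := by
  decide +kernel

theorem minus (g : SL4) (hg : g.1 * g.1 = -1) : IsConj dd1.u (mk1 g) := by
  have hgg : ∀ v, g.1 *ᵥ (g.1 *ᵥ v) = -v := fun v => by
    rw [mulVec_mulVec, hg, neg_mulVec, one_mulVec]
  set v : Fin 4 → ZMod 3 := ![1, 0, 0, 0] with hv
  obtain ⟨w, -, hw⟩ := out (g.1 *ᵥ v)
  rw [← hv] at hw
  have hv0 : v ≠ 0 := by rw [hv]; decide
  let m : SL4 := ⟨!![0, 2, 0, 0; 1, 0, 0, 0; 0, 0, 0, 2; 0, 0, 1, 0], by decide +kernel⟩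
  have hm : dd1.u = mk1 m := (mk1_eq _ _).2 (Or.inr (by decide +kernel))
  rw [hm]
  have hn : ∀ a b : ZMod 3, (a = 0 ∧ b = 0) ∨ (a * a + b * b) * (a * a + b * b) = 1 := by decide
  refine conj1 g m (of ![v, g.1 *ᵥ v, w, g.1 *ᵥ w])ᵀ
    !![1, 1, 0, 0; 2, 1, 0, 0; 0, 0, 1, 0; 0, 0, 0, 1] (det_cols _ fun x hx => ?_)
    (by decide +kernel) (by decide +kernel) ?_
  · have h0 : x 0 • v + x 1 • g.1 *ᵥ v + x 2 • w + x 3 • g.1 *ᵥ w = 0 := by
      rw [Fin.sum_univ_four] at hx; exact hx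
    have h1 : x 0 • g.1 *ᵥ v - x 1 • v + x 2 • g.1 *ᵥ w - x 3 • w = 0 := by
      have := congrArg (g.1 *ᵥ ·) h0
      simp only [mulVec_add, mulVec_smul, hgg, mulVec_zero] at this
      rw [← this]; module
    have h23 : x 2 = 0 ∧ x 3 = 0 := by
      rcases hn (x 2) (x 3) with h | h
      · exact h
      · exfalso
        apply hw (-(x 2 * x 2 + x 3 * x 3) * (x 2 * x 0 + x 3 * x 1))
          (-(x 2 * x 2 + x 3 * x 3) * (x 2 * x 1 - x 3 * x 0))
        have h2 : ((x 2 * x 2 + x 3 * x 3) * (x 2 * x 2 + x 3 * x 3)) • w = w := by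
          rw [h, one_smul]
        linear_combination (norm := module) ((x 2 * x 2 + x 3 * x 3) * x 2) • h0 -
          ((x 2 * x 2 + x 3 * x 3) * x 3) • h1 - h2
    rw [h23.1, h23.2] at h0 h1
    have h01 : x 0 = 0 ∧ x 1 = 0 := by
      rcases hn (x 0) (x 1) with h | h
      · exact h
      · exfalso
        apply hv0
        have h2 : ((x 0 * x 0 + x 1 * x 1) * (x 0 * x 0 + x 1 * x 1)) • v = v := by
          rw [h, one_smul]
        linear_combination (norm := module) ((x 0 * x 0 + x 1 * x 1) * x 0) • h0 -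
          ((x 0 * x 0 + x 1 * x 1) * x 1) • h1 - h2
    ext i
    fin_cases i
    exacts [h01.1, h01.2, h23.1, h23.2]
  · rw [mul_cols, cols_mul]
    congr 2
    funext j
    have h2 : ∀ y : Fin 4 → ZMod 3, (2 : ZMod 3) • y = -y := fun y => by
      rw [show (2 : ZMod 3) = -1 by decide, neg_smul, one_smul]
    fin_cases j <;> simp [m, Fin.sum_univ_four, hgg, h2]

theorem f1f : F1f e1 dd1 := by
  intro x hx h1
  obtain ⟨g, rfl⟩ := QuotientGroup.mk'_surjective _ x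
  change mk1 g * mk1 g = 1 at hx
  rw [← map_mul, ← map_one mk1, mk1_eq] at hx
  rcases hx with h | h
  · exact Or.inl (plus g h h1)
  · exact Or.inr (minus g h)

theorem cert : Cert 128 (MulAut.conj dd1.u) := by
  let p : SL4 := ⟨!![0, 0, 1, 0; 0, 0, 0, 1; 2, 0, 0, 0; 0, 2, 0, 0], by decide +kernel⟩
  let q : SL4 := ⟨!![0, 1, 0, 1; 2, 0, 2, 0; 2, 0, 2, 2; 0, 2, 1, 2], by decide +kernel⟩
  let u : SL4 := ⟨!![0, 1, 0, 0; 2, 0, 0, 0; 0, 0, 0, 1; 0, 0, 2, 0], by decide +kernel⟩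
  have hu : dd1.u = mk1 u := rfl
  refine Or.inr ⟨mk1 p, mk1 q, 5, Or.inl rfl, ?_, ?_, ?_, ?_, ?_, ?_⟩
  · rw [← map_one mk1, Ne, mk1_eq]
    decide +kernel
  · rw [← map_mul, ← map_one mk1, mk1_eq]
    exact Or.inr (show p.1 * p.1 = -1 by decide +kernel)
  · rw [← map_pow, ← map_one mk1, pow_succ, pow_two, mk1_eq]
    exact Or.inl (show q.1 * q.1 * q.1 = 1 by decide +kernel)
  · let r : SL4 := ⟨!![2, 0, 2, 2; 0, 2, 1, 2; 0, 2, 0, 2; 1, 0, 1, 0], by decide +kernel⟩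
    have e : p * q = r := Subtype.ext (show p.1 * q.1 = r.1 by decide +kernel)
    rw [← map_mul, e, ← map_pow, ← map_one mk1, pow_succ, pow_succ, pow_succ, pow_two, mk1_eq]
    exact Or.inr (show r.1 * r.1 * r.1 * r.1 * r.1 = -1 by decide +kernel)
  · rw [MulAut.conj_apply, mul_inv_eq_iff_eq_mul, hu, ← map_mul, ← map_mul, mk1_eq]
    exact Or.inl (show u.1 * p.1 = p.1 * u.1 by decide +kernel)
  · rw [MulAut.conj_apply, mul_inv_eq_iff_eq_mul, hu, ← map_mul, ← map_mul, mk1_eq]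
    exact Or.inl (show u.1 * q.1 = q.1 * u.1 by decide +kernel)

theorem f1fS : F1fS := ⟨f1f, cert⟩

end Cfsg.Agent.H13.G40F1f
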