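import Cfsg.Agent.H56.HLK

/-! Project HL, piece P8: the translations generate a regular normal subgroup. -/

set_option autoImplicit false

namespace Cfsg.Agent.H13.HlP8

open MulAction Subgroup Cfsg.Agent.H83 Cfsg.Agent.H56.TT Cfsg.Agent.H56.HL
open scoped Cfsg.Agent.H63

universe u v

theorem p8 : P8Stmt.{u, v} := by
  intro G Ω _ _ _ _ _ NN q EE k h hT hR
  have st := h.pl.st
  have ln := h.pl.ln
  obtain ⟨a, -, -⟩ := st.nt
  let T : Ω → G → Prop := fun x τ => τ ∈ C[SS (NN a) q (EE a x)] ∧ τ • a = x ∧ τ * τ = 1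
  have back : ∀ x τ, T x τ → τ • x = a := fun x τ ht => by
    rw [← ht.2.1, ← mul_smul, ht.2.2, one_smul]
  have uniq : ∀ x, a ≠ x → ∀ τ σ, T x τ → T x σ → τ = σ := by
    intro x hx τ σ ht hs
    have h1 : (τ⁻¹ * σ) • a = a := by rw [mul_smul, hs.2.1, inv_smul_eq_iff, ht.2.1]
    have h2 : (τ⁻¹ * σ) • x = x := by rw [mul_smul, back x σ hs, inv_smul_eq_iff, back x τ ht]
    exact inv_mul_eq_one.mp (hT.cen_eq_one st hx ((st.kit a).kb.ck (ln.vx hx) _ (st.norm h1)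
      (mul_mem (inv_mem ht.1) hs.1)) h2)
  have ex : ∀ x, a ≠ x → ∃ τ, T x τ := by
    intro x hx
    obtain ⟨F, hF, h1, -⟩ := h.p3b.three a x x
    obtain ⟨R, -, h2⟩ := hR a F hF
    obtain ⟨τ, -, -, h3⟩ := h2 x h1 hx
    exact ⟨τ, h3⟩
  have com : ∀ x y, a ≠ x → a ≠ y → ∀ τ σ, T x τ → T y σ → τ * σ = σ * τ := by
    intro x y hx hy τ σ ht hs
    obtain ⟨F, hF, h1, h1'⟩ := h.p3b.three a x y
    obtain ⟨R, hRT, h2⟩ := hR a F hF
    obtain ⟨τ', m1, c1, h3⟩ := h2 x h1 hx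
    obtain ⟨σ', m2, c2, h4⟩ := h2 y h1' hy
    obtain rfl := uniq x hx τ τ' ht h3
    obtain rfl := uniq y hy σ σ' hs h4
    have inF : ∀ r ∈ R, r ∈ C[F] → r • a = a → r ∈ F := fun r m c e =>
      h.p2a.fj hF r (hRT.reg r m a (hF.mem st) e) c
    have sq : ∀ r ∈ R, r ∈ C[F] → r * r = 1 := by
      intro r m c
      by_cases e : a = r • a
      · exact hF.vx.sq r (inF r m c e.symm)
      obtain ⟨ρ, m3, c3, -, h5, h6⟩ := h2 _ (smul_mem_Fx_of (hRT.le m) (hF.mem st)) e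
      have h7 := inF _ (mul_mem (inv_mem m3) m) (mul_mem (inv_mem c3) c)
        (by rw [mul_smul, inv_smul_eq_iff, h5])
      have h8 := mem_centralizer_iff.mp c3 _ h7
      calc r * r = ρ * (ρ⁻¹ * r * ρ) * (ρ⁻¹ * r) := by group
        _ = ρ * ρ * (ρ⁻¹ * r * (ρ⁻¹ * r)) := by rw [h8]; group
        _ = 1 := by rw [h6, hF.vx.sq _ h7, one_mul]
    have h5 := sq _ (mul_mem m1 m2) (mul_mem c1 c2)
    rw [← inv_eq_of_mul_eq_one_right h5, mul_inv_rev, inv_eq_of_mul_eq_one_right ht.2.2,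
      inv_eq_of_mul_eq_one_right hs.2.2]
  let A : Set G := {τ | ∃ x, a ≠ x ∧ T x τ}
  have ab : ∀ n ∈ closure A, ∀ m ∈ closure A, n * m = m * n := by
    have h1 : closure A ≤ centralizer A := (closure_le _).2 fun τ ⟨x, hx, ht⟩ σ ⟨y, hy, hs⟩ =>
      com y x hy hx σ τ hs ht
    intro n hn m hm
    have h2 : closure A ≤ centralizer {m} := (closure_le _).2 fun τ hτ =>
      mem_centralizer_singleton_iff.mpr (h1 hm τ hτ)
    exact mem_centralizer_singleton_iff.mp (h2 hn)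
  have tr0 : ∀ x, ∃ n ∈ closure A, n • a = x := by
    intro x
    by_cases hx : a = x
    · exact ⟨1, one_mem _, by rw [one_smul, hx]⟩
    obtain ⟨τ, ht⟩ := ex x hx
    exact ⟨τ, subset_closure ⟨x, hx, ht⟩, ht.2.1⟩
  have tr : ∀ x y : Ω, ∃ n ∈ closure A, n • x = y := by
    intro x y
    obtain ⟨n, hn, rfl⟩ := tr0 x
    obtain ⟨m, hm, rfl⟩ := tr0 y
    exact ⟨m * n⁻¹, mul_mem hm (inv_mem hn), by rw [mul_smul, inv_smul_smul]⟩
  have nrm : ∀ g : G, g • a = a → ∀ n ∈ closure A, g * n * g⁻¹ ∈ closure A := by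
    intro g hg n hn
    have h1 : closure A ≤ (closure A).comap (MulAut.conj g).toMonoidHom := by
      refine (closure_le _).2 fun τ ⟨x, hx, ht⟩ => subset_closure
        ⟨g • x, fun e => hx (MulAction.injective g (hg.trans e)), ?_, ?_, ?_⟩
      · have e : SS (NN a) q (EE a (g • x)) = cj g (SS (NN a) q (EE a x)) := by
          rw [cj_SS', ← st.smul, ← ln.smul g hx, hg]
        rw [e, ← cj_centralizer]
        exact conj_mem_cj ht.1
      · show (g * τ * g⁻¹) • a = g • x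
        rw [mul_smul, mul_smul, inv_smul_eq_iff.mpr hg.symm, ht.2.1]
      · show g * τ * g⁻¹ * (g * τ * g⁻¹) = 1
        calc g * τ * g⁻¹ * (g * τ * g⁻¹) = g * (τ * τ) * g⁻¹ := by group
          _ = 1 := by rw [ht.2.2]; group
    exact h1 hn
  refine ⟨closure A, ⟨fun n hn g => ?_⟩, tr, fun x n hn e => ?_⟩
  · obtain ⟨m, hm, e⟩ := tr0 (g • a)
    have h1 := nrm (m⁻¹ * g) (by rw [mul_smul, inv_smul_eq_iff, e]) n hn
    have h2 : g * n * g⁻¹ = m * (m⁻¹ * g * n * (m⁻¹ * g)⁻¹) * m⁻¹ := by group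
    rw [h2]
    exact mul_mem (mul_mem hm h1) (inv_mem hm)
  · refine eq_of_smul_eq_smul (α := Ω) fun y => ?_
    obtain ⟨m, hm, rfl⟩ := tr x y
    rw [one_smul, ← mul_smul, ab n hn m hm, mul_smul, e]

end Cfsg.Agent.H13.HlP8
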