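import Cfsg.Agent.H42.HtDefs

/-!
The dihedral group of order eight in the centraliser of `A₈`.
-/

set_option autoImplicit false

namespace Cfsg.Agent.H13.HtMD

open Cfsg Cfsg.Agent.H63 Cfsg.Agent.H63.SL Cfsg.Agent.H63.AN Cfsg.Agent.H42.HT Subgroup
open Cfsg.Agent.H7.AA (ev d2 Acts KA NA)
open Cfsg.Agent.H78 (c3 altOn symOn)
open Equiv (swap Perm)
open Equiv.Perm (sign)

universe u

theorem sgn {σ : P} (h : σ ∈ A8) : sign σ = 1 := H78.altOn_le_alternating _ h

theorem comm23 {σ : P} (h : σ ∈ A8) : swap 2 3 * σ = σ * swap 2 3 := by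
  have h1 := (H78.mem_altOn.1 h).1
  have h2 : σ 2 = 2 := h1 2 (by decide)
  have h3 : σ 3 = 3 := h1 3 (by decide)
  rw [Equiv.mul_swap_eq_swap_mul, h2, h3]

theorem md : MdStmt.{u} := by
  intro ff G _ _ ψ t fr _ u s d nw
  have h5 : 5 ≤ Fintype.card (Fin 10) := by simp
  have ti : t⁻¹ = t := inv_eq_of_mul_eq_one_left fr.t2
  have si : s⁻¹ = s := inv_eq_of_mul_eq_one_left nw.s2
  have inj : Function.Injective (bt ψ) := fr.inj.comp (inclusion_injective _)
  have u1 : u ≠ 1 := by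
    intro e
    have h := nw.ua
    rw [e] at h
    exact absurd (h.uniq h5 fr.inj H7.AA.acts_one) (by decide)
  have ts2 : t * s * (t * s) = u := by
    have h := nw.st
    rw [si] at h
    rw [← mul_assoc, mul_assoc t s, mul_assoc t, h, ← mul_assoc, fr.t2, one_mul]
  have tst : t * s * t⁻¹ = s * u := by
    rw [ti, nw.su.eq, ← ts2, mul_assoc, mul_assoc (t * s), mul_assoc t s s, nw.s2, mul_one,
      mul_assoc]
  have ct : ∀ σ, Commute t (bt ψ σ) := fun σ => by
    rw [bt_apply]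
    exact H7.AA.KA_ev fr.tK _
  have cu : ∀ σ, Commute u (bt ψ σ) := fun σ => by
    rw [bt_apply]
    exact nw.ua.comm (sgn σ.2) (comm23 σ.2)
  have cs : ∀ σ, Commute s (bt ψ σ) := fun σ => by
    rw [bt_apply]
    exact nw.sA _ σ.2
  have cN : ∀ n, Commute n t → Commute n u → n ∈ N[(bt ψ).range] := by
    intro n nt nu
    obtain ⟨p, hp⟩ := fr.act n nt
    have h1 := hp.conj nw.ua
    rw [nu.eq, mul_inv_cancel_right] at h1
    have h2 : Commute p (swap 2 3) := mul_inv_eq_iff_eq_mul.1 (h1.uniq h5 fr.inj nw.ua)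
    refine mem_normalizer_fintype ?_
    rintro _ ⟨σ, rfl⟩
    refine ⟨⟨_, ff.sw 2 3 (by decide) p h2 σ.1 σ.2⟩, ?_⟩
    rw [bt_apply, bt_apply]
    exact (hp _ (sgn σ.2)).symm
  have two : ∀ n, Commute n t → Commute n u → (∀ σ, Commute n (bt ψ σ)) → Is2 n →
      n = 1 ∨ n = t ∨ n = u ∨ n = t * u := by
    intro n nt nu nA n2
    obtain ⟨p, hp⟩ := fr.act n nt
    have h1 : ∀ σ ∈ off 2 3, Commute p σ := fun σ hσ =>
      hp.comm_perm fr.inj (sgn hσ) (by have := nA ⟨σ, hσ⟩; rw [bt_apply] at this; exact this)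
    rcases ff.c8 2 3 (by decide) p h1 with rfl | rfl
    · rcases fr.r2 n hp.KA nt n2 with h | h
      · exact .inl h
      · exact .inr (.inl h)
    · have h2 := hp.mul nw.ua
      rw [Equiv.swap_mul_self] at h2
      have h3 : Is2 (n * u) := by
        obtain ⟨k, hk⟩ := n2
        refine ⟨k + 1, ?_⟩
        rw [nu.mul_pow, pow_succ, pow_mul, hk, one_pow, one_mul, mul_comm, pow_mul, pow_two,
          nw.u2, one_pow]
      have e : n = n * u * u := by rw [mul_assoc, nw.u2, mul_one]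
      rcases fr.r2 _ h2.KA (nt.mul_left nw.ut) h3 with h | h
      · exact .inr (.inr (.inl (by rw [e, h, one_mul])))
      · exact .inr (.inr (.inr (by rw [e, h])))
  refine ⟨⟨inj, nw.u2, u1, fr.t2, nw.ut.symm, nw.su, .inl nw.s2, tst, ct, cu, cs, cN, two, ?_⟩,
    ⟨inj, nw.u2, u1, fr.t2, nw.ut.symm, nw.ut.symm.mul_left nw.su, .inr ts2, ?_, ct, cu,
      fun σ => (ct σ).mul_left (cs σ), cN, two, ?_⟩⟩
  · intro h
    obtain ⟨c, hc⟩ := isConj_iff.1 h
    apply u1
    rw [← ts2, ← hc]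
    calc c * t * c⁻¹ * (c * t * c⁻¹) = c * (t * t) * c⁻¹ := by group
      _ = 1 := by rw [fr.t2, mul_one, mul_inv_cancel]
  · rw [mul_assoc, tst, mul_assoc]
  · rw [← mul_assoc, fr.t2, one_mul]
    exact nw.ns

end Cfsg.Agent.H13.HtMD
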