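import Cfsg.Agent.H44.K5Defs

/-! Project K5, piece UNI. -/

set_option autoImplicit false

namespace Cfsg.Agent.H13.K5Uni

open Matrix Cfsg.Agent.H44.K5

theorem pos_conj {n : ℕ} {A U : Matrix (Fin n) (Fin n) ℤ} (hU : IsUnit U.det)
    (h : ∀ x : Fin n → ℤ, x ≠ 0 → 0 < x ⬝ᵥ A *ᵥ x) (x : Fin n → ℤ) (hx : x ≠ 0) :
    0 < x ⬝ᵥ (Uᵀ * A * U) *ᵥ x := by
  have h0 : U *ᵥ x ≠ 0 := fun e => hx (by
    have := congrArg (fun v => U⁻¹ *ᵥ v) e
    simpa [mulVec_mulVec, nonsing_inv_mul U hU] using this)
  have := h _ h0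
  rwa [← mulVec_mulVec, ← mulVec_mulVec, dotProduct_mulVec x, vecMul_transpose]

theorem uni (herm : HermStmt) : UniStmt := by
  intro n
  induction n with
  | zero => intro _ A _ _ _; exact ⟨1, Subsingleton.elim _ _⟩
  | succ n ih =>
    intro hn A hs hp hd
    obtain ⟨U, hU, hb⟩ := herm n A hs hp
    set B := Uᵀ * A * U with hB
    have Bs : Bᵀ = B := by rw [hB, transpose_mul, transpose_mul, transpose_transpose, hs, Matrix.mul_assoc]
    have Bs' : ∀ i j, B i j = B j i := fun i j => (congrFun (congrFun Bs j) i)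
    have Bd : B.det = 1 := by
      rw [hB, det_mul, det_mul, det_transpose, hd, mul_one]
      exact Int.isUnit_mul_self hU
    have a0 : 0 < B 0 0 := by
      have := pos_conj hU hp (Pi.single 0 1) (by simp)
      simpa [hB] using this
    have a1 : B 0 0 = 1 := by
      by_contra h
      have h2 : (2 : ℤ) ^ (n + 1) ≤ B 0 0 ^ (n + 1) := pow_le_pow_left₀ (by norm_num) (by omega) _
      rw [hd] at hb
      have hn' : n ≤ 4 := by omega
      generalize B 0 0 ^ (n + 1) = c at hb h2
      interval_cases n <;> norm_num at hb h2 <;> omega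
    let E : Matrix (Fin (n + 1)) (Fin (n + 1)) ℤ :=
      Matrix.of (Fin.cons (Fin.cons 1 fun j => -B 0 j.succ)
        fun i => Fin.cons 0 ((1 : Matrix (Fin n) (Fin n) ℤ) i))
    have Ed : E.det = 1 := by
      rw [det_succ_column_zero, Fin.sum_univ_succ]
      have : E.submatrix (Fin.succAbove 0) Fin.succ = 1 := by
        ext i j; simp [E]
      rw [this]
      simp [E]
    let S : Matrix (Fin n) (Fin n) ℤ := Matrix.of fun i j => B i.succ j.succ - B 0 i.succ * B 0 j.succ
    let D : Matrix (Fin (n + 1)) (Fin (n + 1)) ℤ :=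
      Matrix.of (Fin.cons (Fin.cons 1 fun _ => 0) fun i => Fin.cons 0 (S i))
    have hD : Eᵀ * B * E = D := by
      ext i j
      refine Fin.cases ?_ (fun i => ?_) i <;> refine Fin.cases ?_ (fun j => ?_) j <;>
        simp [E, D, S, Matrix.mul_apply, Fin.sum_univ_succ, a1, Matrix.one_apply, Bs' _ 0] <;> ring
    have Sd : S.det = 1 := by
      have e : D.det = 1 := by rw [← hD, det_mul, det_mul, det_transpose, Ed, Bd]; norm_num
      rw [det_succ_column_zero, Fin.sum_univ_succ] at e
      have : D.submatrix (Fin.succAbove 0) Fin.succ = S := by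
        ext i j; simp [D]
      rw [this] at e
      simpa [D] using e
    have Sp : ∀ x : Fin n → ℤ, x ≠ 0 → 0 < x ⬝ᵥ S *ᵥ x := fun x hx => by
      have := pos_conj (A := B) (U := E) (by rw [Ed]; exact isUnit_one) (pos_conj hU hp)
        (Fin.cons 0 x) (fun e => hx (funext fun i => by simpa using congrFun e i.succ))
      rw [hD] at this
      simpa [D, dotProduct, mulVec, Fin.sum_univ_succ] using this
    obtain ⟨V, hV⟩ := ih (by omega) S (by ext i j; simp [S, Bs' i.succ, mul_comm]) Sp Sd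
    let W : Matrix (Fin (n + 1)) (Fin (n + 1)) ℤ :=
      Matrix.of (Fin.cons (Fin.cons 1 fun _ => 0) fun i => Fin.cons 0 (V i))
    refine ⟨U * E * W, ?_⟩
    have : (U * E * W)ᵀ * A * (U * E * W) = Wᵀ * (Eᵀ * B * E) * W := by
      simp only [hB, transpose_mul, Matrix.mul_assoc]
    rw [this, hD]
    ext i j
    refine Fin.cases ?_ (fun i => ?_) i <;> refine Fin.cases ?_ (fun j => ?_) j
    · simp [W, D, Matrix.mul_apply, Fin.sum_univ_succ]
    · simp [W, D, Matrix.mul_apply, Fin.sum_univ_succ, Matrix.one_apply, (Fin.succ_ne_zero j).symm]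
    · simp [W, D, Matrix.mul_apply, Fin.sum_univ_succ, Matrix.one_apply]
    · have := congrFun (congrFun hV i) j
      simpa [W, D, Matrix.mul_apply, Fin.sum_univ_succ, Matrix.one_apply] using this

end Cfsg.Agent.H13.K5Uni
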