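import Cfsg.Agent.H93.LT4Defs
import Cfsg.Agent.S1911
import Cfsg.Agent.H10.StronglyEmbedded
import Cfsg.Agent.H60.LTKitA

/-! Standard subgroups with Sylow subgroup `D₈`: the case that `T` is Sylow in `G`. -/

set_option autoImplicit false
set_option linter.unusedSectionVars false

namespace Cfsg.Agent.H13.LTEq

open Subgroup Cfsg.Agent.H85 Cfsg.Agent.H93.LT Cfsg.Agent.H10.LT

universe u

variable {G : Type u} [Group G]

local notation "C[" A "]" => Subgroup.centralizer (SetLike.coe A)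
local notation "N[" A "]" => Subgroup.normalizer (SetLike.coe A)
local notation "C1[" x "]" => Subgroup.centralizer (Singleton.singleton x : Set _)

theorem d8_sq {D : Subgroup G} {a b z : G} (h : D8 D a b z) {x : G} (hx : x ∈ D) :
    x * x = 1 ∨ x * x = z := by
  obtain ⟨ψ, hi, rfl, rfl, rfl, rfl⟩ := h
  obtain ⟨x, rfl⟩ := hx
  simp only [← map_mul, hi.eq_iff, map_eq_one_iff ψ hi]
  revert x; decide

theorem d8_ab {D : Subgroup G} {a b z : G} (h : D8 D a b z) {x : G} (hx : x ∈ D) :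
    a * (x * b * x⁻¹) * (a * (x * b * x⁻¹)) = z := by
  obtain ⟨ψ, hi, rfl, rfl, rfl, rfl⟩ := h
  obtain ⟨x, rfl⟩ := hx
  simp only [← map_mul, ← map_inv, hi.eq_iff]
  revert x; decide

theorem cn_one (g : G) : cn 1 g = 1 := by simp [cn]

theorem cn_ne {u : G} (hu : u ≠ 1) (g : G) : cn u g ≠ 1 := fun e =>
  hu (by rw [← cn_inv e]; group)

theorem cn_sq {u : G} (hu : u * u = 1) (g : G) : cn u g * cn u g = 1 := by
  rw [← cn_mul, hu, cn_one]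

theorem cn_comm {x y : G} (e : x * y = y * x) (g : G) : cn x g * cn y g = cn y g * cn x g := by
  rw [← cn_mul, ← cn_mul, e]

theorem exists_inv {T : Subgroup G} (hT : IsPGroup 2 T) {u : G} (hu : u ∈ T) (h1 : u ≠ 1) :
    ∃ k : ℕ, u ^ k ≠ 1 ∧ u ^ k * u ^ k = 1 := by
  obtain ⟨n, hn⟩ := hT ⟨u, hu⟩
  simpa using H60.LT.exists_sq_mem (Q := ⊥) (n := n) (g := u) (by simpa using h1)
    (by simpa using congrArg Subtype.val hn)

/-- `u` is conjugate to an element of `K` -/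
def KI (h : St G) (u : G) : Prop := ∃ g, cn u g ∈ h.K

variable [Finite G] (h : St G)

theorem TN : h.T ≤ h.N := h.syl.le
theorem T2 : IsPGroup 2 h.T := h.syl.isPGroup
theorem DT : h.D ≤ h.T := h.DA ▸ inf_le_left
theorem DA : h.D ≤ h.A := h.sylD.le
theorem TD : h.T ≤ N[h.D] := h.DA ▸ le_normalizer_inf le_normalizer (TN h)
theorem KN : h.K ≤ h.N := centralizer_le_normalizer _
theorem NK : h.N ≤ N[h.K] := normalizer_le_normalizer_centralizer _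
theorem TR : h.T ≤ N[h.R] := le_normalizer_inf le_normalizer ((TN h).trans (NK h))
theorem RC : h.R ≤ h.C0 := inf_le_inf_left _ (centralizer_le (DA h))
theorem zD : h.z ∈ h.D := h.d8.zD
theorem z2 : h.z * h.z = 1 := h.d8.rel.2.1
theorem z1 : h.z ≠ 1 := h.d8.rel.2.2.1

variable {h}

theorem DK {d : G} (hd : d ∈ h.D) (hk : d ∈ h.K) : d = 1 :=
  eq_one_of (O := (center h.A).map h.A.subtype)
    (by rw [card_map_of_injective h.A.subtype_injective]; exact h.sd.2.1) (T2 h)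
    ⟨⟨d, DA h hd⟩, mem_center_iff.2 fun y => Subtype.ext (hk y y.2), rfl⟩ (DT h hd)

theorem zT {y : G} (hy : y ∈ h.T) : h.z * y = y * h.z := of_cn (h.d8.adj (TD h hy)).1

theorem zC : h.z ∈ h.C0 := ⟨DT h (zD h), fun _ hd => (h.d8.zc hd).symm⟩

theorem zK : h.z ∉ h.K := fun hz => z1 h (DK (zD h) hz)

theorem zz' {c c' : G} (hc : c' ∈ h.C0) : c * h.z * (c' * h.z) = c * c' := by
  rw [mul_assoc, ← mul_assoc h.z, zT hc.1, mul_assoc, z2, mul_one]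

theorem sqr {c : G} (hc : c ∈ h.C0) : Commute h.r (c * c) := by
  rcases h.hr.fix c hc with e | e
  · exact Commute.mul_right e e
  · rw [← zz' hc]; exact Commute.mul_right e e

theorem sqK {c : G} (hc : c ∈ h.C0) : c * c ∈ h.K :=
  h.iso _ (mul_mem hc hc) (sqr hc) (sqr (h := h.symm) hc)

theorem mulF {c c' : G} (hc : c ∈ h.C0) (hc' : c' ∈ h.C0) (e : Commute h.r c) (e' : Commute h.r c')
    (k : c ∉ h.K) (k' : c' ∉ h.K) : c * c' ∈ h.K := by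
  refine h.iso _ (mul_mem hc hc') (e.mul_right e') ?_
  rw [← zz' hc']
  exact Commute.mul_right ((h.hs.fix c hc).resolve_left fun f => k (h.iso c hc e f))
    ((h.hs.fix c' hc').resolve_left fun f => k' (h.iso c' hc' e' f))

theorem memT0 {x : G} : x ∈ h.T0 ↔ ∃ d ∈ h.D, ∃ c ∈ h.C0, d * c = x :=
  mem_sup_of_le_normalizer (inf_le_left.trans (TD h))

theorem T0T : h.T0 ≤ h.T := sup_le (DT h) inf_le_left

theorem fixT0 {x : G} (hx : x ∈ h.T) (h1 : cn h.a x = h.a) (h2 : cn h.b x = h.b) : x ∈ h.T0 :=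
  mem_sup_right ⟨hx, h.d8.cen (of_cn h1).symm (of_cn h2).symm⟩

theorem out0 {x : G} (hx : x ∈ h.T) (h0 : x ∉ h.T0) :
    ∃ d ∈ h.D, cn h.a (x * d) = h.b ∧ cn h.b (x * d) = h.a := by
  obtain ⟨-, d, hd, e | e⟩ := h.d8.adj (TD h hx)
  · exact absurd ((h.T0.mul_mem_cancel_right (mem_sup_left hd)).1
      (fixT0 (mul_mem hx (DT h hd)) e.1 e.2)) h0
  · exact ⟨d, hd, e⟩

theorem mulT {x y : G} (hx : x ∈ h.T) (hy : y ∈ h.T) (x0 : x ∉ h.T0) (y0 : y ∉ h.T0) :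
    x * y ∈ h.T0 := by
  obtain ⟨d, hd, e1, e2⟩ := out0 hx x0
  obtain ⟨e, he, e3, e4⟩ := out0 hy y0
  have := fixT0 (mul_mem (mul_mem hx (DT h hd)) (mul_mem hy (DT h he)))
    (by rw [cn_cn, e1, e4]) (by rw [cn_cn, e2, e3])
  rwa [show x * d * (y * e) = x * y * (cn d y * e) by simp only [cn]; group,
    h.T0.mul_mem_cancel_right (mem_sup_left (mul_mem (cn_mem (TD h hy) hd) he))] at this

theorem dsq {d c : G} (hd : d ∈ h.D) (hc : c ∈ h.C0) (e : d * c * (d * c) = 1) : d * d = 1 := by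
  refine DK (mul_mem hd hd) ((h.K.mul_mem_cancel_right (sqK hc)).1 ?_)
  rw [show d * d * (c * c) = d * c * (d * c) by
    rw [mul_assoc d c, ← mul_assoc c d, ← hc.2 d hd, mul_assoc, mul_assoc], e]
  exact one_mem _

theorem KI.cj {u : G} (g : G) (k : KI h (cn u g)) : KI h u :=
  let ⟨x, hx⟩ := k; ⟨g * x, cn_cn u g x ▸ hx⟩

theorem KI.cj' {u : G} (g : G) (k : KI h u) : KI h (cn u g) :=
  KI.cj g⁻¹ (by rwa [← cn_cn, mul_inv_cancel, cn, inv_one, one_mul, mul_one])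

theorem KI.of {u : G} (k : u ∈ h.K) : KI h u := ⟨1, by simpa [cn] using k⟩

theorem ti' {u g y : G} (u2 : u * u = 1) (u1 : u ≠ 1) (hu : u ∈ cj g h.K) (e : u * y = y * u) :
    y ∈ cj g h.N :=
  mem_cj.2 (h.ti (cn u g) _ (cn_sq u2 g) (cn_ne u1 g) (mem_cj.1 hu)
    (by rw [cn_of (cn_comm e g)]; exact mem_cj.1 hu))

theorem cnK {u g y : G} (hu : u ∈ cj g h.K) (hy : y ∈ cj g h.N) : cn u y ∈ cj g h.K :=
  cn_mem (by rw [← cj_normalizer]; exact cj_mono g (NK h) hy) hu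

theorem KK {u g : G} (hg : g ∉ h.N) (hu : u ∈ h.T) (k : u ∈ h.K) (k' : u ∈ cj g h.K) : u = 1 := by
  by_contra u1
  obtain ⟨n, h1, h2⟩ := exists_inv (T2 h) hu u1
  exact hg (h.ti _ g h2 h1 (pow_mem k n) (mem_cj.1 (pow_mem k' n)))

theorem nrm {g : G} {S : Subgroup G} (hS : IsSyl 2 S (h.N ⊓ cj g h.N)) :
    ∃ n ∈ h.N, cj n S = h.T ⊓ cj (n * g) h.N ∧
      IsSyl 2 (h.T ⊓ cj (n * g) h.N) (h.N ⊓ cj (n * g) h.N) := by
  obtain ⟨n, hn, l⟩ := h.syl.exists_cj_le hS.isPGroup (hS.le.trans inf_le_left)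
  have s := hS.cj n
  rw [cj_inf, cj_eq_of_mem hn, ← cj_mul] at s
  have e := s.eq_of_le (Q := h.T ⊓ cj (n * g) h.N) (T2 h).to_inf_left
    (le_inf l (s.le.trans inf_le_right)) (inf_le_inf_right _ (TN h))
  exact ⟨n, hn, e.symm, e ▸ s⟩

theorem exists_t (h4 : 4 ≤ Nat.card h.R) :
    ∃ t ∈ h.R, t ≠ 1 ∧ t * t = 1 ∧ ∀ y ∈ h.T, t * y = y * t := by
  have : (h.R.subgroupOf h.T).Normal := normal_subgroupOf_of_le_normalizer (TR h)
  obtain ⟨t, ht, t1, t2, tc⟩ := H2.exists_central_invol (T2 h) (E := h.R.subgroupOf h.T) (by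
    rw [Nat.card_congr (subgroupOfEquivOfLe inf_le_left).toEquiv]
    exact lt_of_lt_of_le (by decide) h4)
  exact ⟨t, ht, fun e => t1 (Subtype.ext e), congrArg Subtype.val t2,
    fun y hy => congrArg Subtype.val (tc ⟨y, hy⟩).eq⟩

theorem side {d c : G} (hd : d = h.a ∨ d = h.a * h.z) (hc : c ∈ h.C0) :
    ∃ ρ ∈ h.A, ∀ x ∈ h.D, d * c * cn x ρ = cn x ρ * (d * c) := by
  have key : ∀ d c : G, d = h.a ∨ d = h.a * h.z → c ∈ h.C0 → h.r * c = c * h.r →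
      ∃ ρ ∈ h.A, ∀ x ∈ h.D, d * c * cn x ρ = cn x ρ * (d * c) := fun d c hd hc e => by
    obtain ⟨ρ, hρ, e1, e2⟩ : ∃ ρ ∈ h.A, cn h.z ρ = d ∧ cn c ρ = c := by
      rcases hd with rfl | rfl
      · exact ⟨_, h.hr.mem, h.hr.zr, cn_of e.symm⟩
      · exact ⟨_, mul_mem h.hr.mem h.hr.mem, by rw [cn_cn, h.hr.zr, h.hr.ar],
          by rw [cn_cn, cn_of e.symm, cn_of e.symm]⟩
    refine ⟨ρ, hρ, fun x hx => ?_⟩
    rw [← e1, ← e2, ← cn_mul]
    exact cn_comm ((mul_mem zC hc).2 x hx).symm ρ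
  rcases h.hr.fix c hc with e | e
  · exact key d c hd hc e
  · have := key (d * h.z) (c * h.z) (by
      rcases hd with rfl | rfl
      · exact Or.inr rfl
      · exact Or.inl (by rw [mul_assoc, z2, mul_one])) (mul_mem hc zC) e
    rwa [zz' hc] at this

theorem DN {g ρ : G} (s : IsSyl 2 (h.T ⊓ cj g h.N) (h.N ⊓ cj g h.N)) (hρ : ρ ∈ h.A)
    (l : ∀ x ∈ h.D, cn x ρ ∈ cj g h.N) : h.D ≤ cj g h.N := by
  have s' := s.inf_of_le_normalizer (N := h.A ⊓ cj g h.N) (inf_le_inf_right _ le_normalizer)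
    (le_normalizer_inf inf_le_left (inf_le_right.trans le_normalizer))
  have c := s'.card_le (Q := cj ρ⁻¹ h.D) (isPGroup_cj _ h.sylD.isPGroup)
    (le_inf (cj_le_of_mem (DA h) (inv_mem hρ)) fun y hy => by
      have := l _ (mem_cj.1 hy)
      rwa [show cn (ρ⁻¹⁻¹ * y * ρ⁻¹) ρ = y by simp only [cn]; group] at this)
  rw [card_cj] at c
  have e := eq_of_le_of_card_ge (show (h.T ⊓ cj g h.N) ⊓ (h.A ⊓ cj g h.N) ≤ h.D from
    fun x hx => h.DA.le ⟨hx.1.1, hx.2.1⟩) c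
  exact fun x hx => (e.ge hx).1.2

theorem stepA {g u : G} (s : IsSyl 2 (h.T ⊓ cj g h.N) (h.N ⊓ cj g h.N)) (u2 : u * u = 1) (u1 : u ≠ 1)
    (hu : u ∈ cj g h.K) (u0 : u ∈ h.T0) : h.D ≤ cj g h.N := by
  obtain ⟨d, hd, c, hc, rfl⟩ := memT0.1 u0
  obtain ⟨ρ, hρ, l⟩ : ∃ ρ ∈ h.A, ∀ x ∈ h.D, d * c * cn x ρ = cn x ρ * (d * c) := by
    have k : d ∈ h.C0 → ∃ ρ ∈ h.A, ∀ x ∈ h.D, d * c * cn x ρ = cn x ρ * (d * c) := fun k =>
      ⟨1, one_mem _, fun x hx => by simpa [cn] using ((mul_mem k hc).2 x hx).symm⟩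
    rcases h.d8.inv hd (dsq hd hc u2) with e | e | e | e | e | e
    · exact k (e ▸ one_mem _)
    · exact k (e ▸ zC)
    · exact side (Or.inl e) hc
    · exact side (Or.inr e) hc
    · exact side (h := h.symm) (Or.inl e) hc
    · exact side (h := h.symm) (Or.inr e) hc
  exact DN s hρ fun x hx => ti' u2 u1 hu (l x hx)

theorem nab {v d : G} (hd : d ∈ h.D) (e : cn h.a (v * d) = h.b) :
    h.a * cn h.a v * (h.a * cn h.a v) = h.z := by
  rw [cn_cn] at e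
  rw [← cn_inv e]
  exact d8_ab h.d8 hd

theorem nab' {v d x : G} (hv : v ∈ h.T) (hd : d ∈ h.D) (e : cn h.a (v * d) = h.b)
    (hx : x = h.a ∨ x = h.a * h.z) : x * cn x v ≠ cn x v * x := fun k => by
  have aT := DT h h.d8.aD
  have k' : h.a * cn h.a v = cn h.a v * h.a := by
    rcases hx with rfl | rfl
    · exact k
    · have := zT (cn_mem (le_normalizer hv) aT)
      rw [cn_mul, cn_of (zT hv)] at k
      generalize cn h.a v = y at this k ⊢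
      rwa [mul_assoc, ← mul_assoc h.z, this, mul_assoc, z2, mul_one, mul_assoc,
        ← mul_assoc h.z, zT aT, mul_assoc, z2, mul_one] at k
  refine z1 h ?_
  rw [← nab hd e, mul_assoc, ← mul_assoc (cn h.a v), ← k', mul_assoc, cn_sq h.d8.rel.1, mul_one,
    h.d8.rel.1]

theorem vz {v : G} (hv : v ∈ h.T) (v0 : v ∉ h.T0) (v2 : v * v = 1) : ∃ y, cn v y = v * h.z := by
  obtain ⟨d, hd, e, -⟩ := out0 hv v0
  refine ⟨h.a * cn h.a v, ?_⟩
  rw [← nab hd e]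
  have a2 := h.d8.rel.1
  have i1 := inv_eq_of_mul_eq_one_right v2
  have i2 := inv_eq_of_mul_eq_one_right a2
  simp only [cn, mul_inv_rev, i1, i2, mul_assoc]

theorem inC0 {v y : G} (hv : v ∈ h.T) (v0 : v ∉ h.T0) (hy : y ∈ h.T0) (y2 : y * y = 1)
    (e : y * v = v * y) : y ∈ h.C0 := by
  obtain ⟨d, hd, c, hc, rfl⟩ := memT0.1 hy
  obtain ⟨w, hw, e1, e2⟩ := out0 hv v0
  have cC : cn c v ∈ h.C0 := cn_mem (le_normalizer_inf le_normalizer
    ((TD h).trans (normalizer_le_normalizer_centralizer _)) hv) hc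
  have k : d * cn d v = cn d v * d := by
    have f : cn d v = d * (c * (cn c v)⁻¹) := by
      rw [← mul_assoc, ← cn_of e, cn_mul, mul_inv_cancel_right]
    rw [f, mul_assoc, ← (mul_mem hc (inv_mem cC)).2 d hd]
  rcases h.d8.inv hd (dsq hd hc y2) with e | e | e | e | e | e
  · exact mul_mem (e ▸ one_mem _) hc
  · exact mul_mem (e ▸ zC) hc
  · exact absurd k (nab' hv hw e1 (Or.inl e))
  · exact absurd k (nab' hv hw e1 (Or.inr e))
  · exact absurd k (nab' (h := h.symm) hv hw e2 (Or.inl e))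
  · exact absurd k (nab' (h := h.symm) hv hw e2 (Or.inr e))

theorem two {t : G} (h4 : 4 ≤ Nat.card h.R) (l : ∀ ρ ∈ h.R, ρ = 1 ∨ ρ = t) : False := by
  classical
  have : Nat.card h.R ≤ 2 := by
    refine ((Set.ncard_le_ncard (s := (h.R : Set G)) (t := ({1, t} : Finset G)) fun x hx => ?_).trans ?_)
    · simpa using l x hx
    · rw [Set.ncard_coe_finset]; exact Finset.card_le_two
  omega

theorem vt {v t : G} (h4 : 4 ≤ Nat.card h.R) (hv : v ∈ h.T)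
    (l : ∀ ρ ∈ h.R, ρ * v = v * ρ → ρ = 1 ∨ ρ = t) : ∃ ρ ∈ h.R, cn v ρ = v * t := by
  have vR : zpowers v ≤ N[h.R] := (zpowers_le.2 hv).trans (TR h)
  have vW : zpowers v ≤ (h.R ⊔ zpowers v) ⊓ C1[v] := le_inf le_sup_right (zpowers_le.2 (c1.2 rfl))
  obtain ⟨x, hx, xW⟩ := SetLike.exists_of_lt (lt_inf_normalizer_of_lt
    ((T2 h).to_le (sup_le inf_le_left (zpowers_le.2 hv)))
    (Q := (h.R ⊔ zpowers v) ⊓ C1[v]) (T := h.R ⊔ zpowers v) (inf_lt_left.2 fun k =>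
      two h4 fun ρ hρ => l ρ hρ (c1.1 (k (mem_sup_left hρ)))))
  obtain ⟨ρ, hρ, w, hw, rfl⟩ := (mem_sup_of_le_normalizer vR).1 hx.1
  have n := (Subgroup.mul_mem_cancel_right _ (le_normalizer (vW hw))).1 hx.2
  have c := c1.1 (cn_mem n (vW (mem_zpowers v))).2
  rcases l (v⁻¹ * cn v ρ) (by
      rw [show v⁻¹ * cn v ρ = cn ρ⁻¹ v * ρ by simp only [cn]; group]
      exact mul_mem (cn_mem (TR h hv) (inv_mem hρ)) hρ) (by
      rw [mul_assoc, c, inv_mul_cancel_left, mul_inv_cancel_left]) with e | e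
  · exact absurd (mul_mem (mem_inf.2 ⟨mem_sup_left hρ,
      c1.2 (of_cn (inv_mul_eq_one.1 e).symm).symm⟩) (vW hw)) xW
  · exact ⟨ρ, hρ, by rw [← e, mul_inv_cancel_left]⟩

theorem secF {v t : G} (h4 : 4 ≤ Nat.card h.R) (hv : v ∈ h.F1) (vK : v ∉ h.K) (v2 : v * v = 1)
    (l : ∀ ρ ∈ h.R, ρ * v = v * ρ → ρ = 1 ∨ ρ = t) : H2.Sec h.F1 4 := by
  classical
  have p : IsPGroup 2 h.F1 := (T2 h).to_le (inf_le_left.trans inf_le_left)
  have c : Nat.card (C1[(⟨v, hv⟩ : h.F1)]) ≤ 4 := by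
    rw [← card_map_of_injective h.F1.subtype_injective]
    refine ((Set.ncard_le_ncard (s := ((C1[(⟨v, hv⟩ : h.F1)]).map h.F1.subtype : Set G))
      (t := ({1, t, v, t * v} : Finset G)) ?_).trans ?_)
    · rintro _ ⟨⟨y, hy⟩, k, rfl⟩
      have k : y * v = v * y := congrArg Subtype.val (c1.1 k)
      by_cases yK : y ∈ h.K
      · rcases l y ⟨hy.1.1, yK⟩ k with e | e <;> simp [e]
      · have f : y = y * v * v := by rw [mul_assoc, v2, mul_one]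
        rcases l (y * v) ⟨mul_mem hy.1.1 hv.1.1, mulF hy.1 hv.1 (c1.1 hy.2).symm (c1.1 hv.2).symm yK vK⟩
          (by rw [← mul_assoc, k]) with e | e <;> rw [e] at f <;> simp [f]
    · rw [Set.ncard_coe_finset]; exact Finset.card_le_four
  rcases H9.taussky p (le_antisymm ((H9.index_commutator_le_card_centralizer _).trans c)
    (H9.sq_le_index_commutator p (h4.trans (card_le_of_le
      (le_inf (RC h) fun x hx => c1.2 (hx.2 _ h.hr.mem).symm))))) with e | ⟨a, b, n, e⟩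
  · exact e ▸ H2.sec_card
  · exact H2.sec_MC e

/-- the standing hypotheses -/
structure Hy (h : St G) : Prop where
  s : IsSyl 2 h.T ⊤
  nz : ∀ g ∈ N[h.T], g ∉ h.N → cn h.z g ∈ h.K

namespace Hy

variable (H : Hy h)
include H

theorem E0 {g : G} (hg : g ∈ N[h.T]) : g ∈ h.N := by
  by_contra k
  refine k (odd_trick H.s trivial hg (TN h) (h.ti (cn h.z g⁻¹) _ (cn_sq (z2 h) _) (cn_ne (z1 h) _)
    (H.nz _ (inv_mem hg) (mt inv_mem_iff.1 k)) ?_))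
  rw [← cn_cn, inv_mul_cancel_left]
  exact H.nz g hg k

theorem E1 {v : G} (v2 : v * v = 1) (c : ∀ y ∈ h.T, v * y = y * v) (k : KI h v) : v ∈ h.K := by
  by_cases v1 : v = 1
  · exact v1 ▸ one_mem _
  obtain ⟨g, hg⟩ := k
  have l : h.T ≤ cj g h.N := fun y hy => ti' v2 v1 (mem_cj.2 hg) (c y hy)
  obtain ⟨n, hn, e⟩ := ((H.s.cj_of_mem (g := g⁻¹) trivial).of_le
    ((le_cj_iff_cj_inv_le g).1 l) le_top).exists_cj_eq h.syl
  rw [← cj_mul, cj_eq_iff_mem_normalizer] at e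
  have gN := (h.N.mul_mem_cancel_left hn).1 (H.E0 e)
  simpa [cn, mul_assoc] using cn_mem (NK h gN) hg

theorem kz : ¬ KI h h.z := fun k => zK (H.E1 (z2 h) (fun _ hy => zT hy) k)

theorem ktz {t : G} (tK : t ∈ h.R) (t2 : t * t = 1) (c : ∀ y ∈ h.T, t * y = y * t) :
    ¬ KI h (t * h.z) := fun k =>
  zK ((h.K.mul_mem_cancel_left tK.2).1 (H.E1 (zz' (RC h tK) ▸ t2)
    (fun y hy => by rw [mul_assoc, zT hy, ← mul_assoc, c y hy, mul_assoc]) k))

theorem ka {d : G} (hd : d = h.a ∨ d = h.a * h.z) : ¬ KI h d := fun k => by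
  rcases hd with rfl | rfl
  · exact H.kz (KI.cj h.r (h.hr.zr ▸ k))
  · exact H.kz (KI.cj h.r (h.hr.zr ▸ KI.cj h.r (h.hr.ar ▸ k)))

theorem kD {d : G} (hd : d ∈ h.D) (k : KI h d) : d = 1 := by
  rcases d8_sq h.d8 hd with e | e
  · rcases h.d8.inv hd e with e | e | e | e | e | e
    · exact e
    · exact absurd (e ▸ k) H.kz
    · exact absurd k (H.ka (Or.inl e))
    · exact absurd k (H.ka (Or.inr e))
    · exact absurd k (Hy.ka (h := h.symm) ⟨H.s, H.nz⟩ (Or.inl e))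
    · exact absurd k (Hy.ka (h := h.symm) ⟨H.s, H.nz⟩ (Or.inr e))
  · obtain ⟨g, hg⟩ := k
    exact absurd ⟨g, by rw [← e, cn_mul]; exact mul_mem hg hg⟩ H.kz

theorem E2 {t : G} (tK : t ∈ h.K) (t1 : t ≠ 1) (t2 : t * t = 1) (hn : ¬ h.A.Normal)
    (hc : h.A ≤ normalClosure (h.K : Set G)) : ∃ g ∉ h.N, ∃ v ∈ h.T ⊓ cj g h.K, v ≠ 1 ∧ v * v = 1 ∧
      IsSyl 2 (h.T ⊓ cj g h.N) (h.N ⊓ cj g h.N) := by
  have e : h.N = N[h.K] := h.sd.1.2.2.2
  obtain ⟨g, hg, he⟩ : ∃ g ∉ h.N, Even (Nat.card (cj g h.K ⊓ h.N : Subgroup G)) := by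
    by_contra! k
    rcases S1911.result h.K h.sd.1.2.1 (fun g hg => by
      rw [← e] at hg ⊢
      exact Nat.not_even_iff_odd.1 (k g hg)) with n | n
    · exact hn (normal_of_top_le_normalizer (e.trans (normalizer_eq_top h.K)).ge)
    · obtain ⟨x, hx⟩ := isConj_iff.1 (H10.SE.isConj_involutions n
        (a := ⟨t, subset_normalClosure tK⟩) (b := ⟨h.z, hc (DA h (zD h))⟩)
        (orderOf_eq_prime (Subtype.ext (by simpa [pow_two] using t2)) fun f => t1 (congrArg Subtype.val f))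
        (orderOf_eq_prime (Subtype.ext (by simpa [pow_two] using z2 h))
          fun f => z1 h (congrArg Subtype.val f)))
      have hx : (x : G) * t * (x : G)⁻¹ = h.z := congrArg Subtype.val hx
      exact H.kz ⟨x, by rw [← hx]; simpa [cn, mul_assoc] using tK⟩
  obtain ⟨⟨u, hu⟩, ho⟩ := exists_prime_orderOf_dvd_card' 2 he.two_dvd
  rw [orderOf_mk] at ho
  obtain ⟨S, hS, uS⟩ := exists_isSyl_ge (p := 2) (Q := zpowers u) (H := h.N ⊓ cj g h.N)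
    (IsPGroup.of_card (n := 1) (by rw [Nat.card_zpowers, ho, pow_one]))
    (zpowers_le.2 ⟨hu.2, cj_mono g (KN h) hu.1⟩)
  obtain ⟨n, hn, e1, s⟩ := nrm hS
  refine ⟨n * g, mt (h.N.mul_mem_cancel_left hn).1 hg, n * u * n⁻¹,
    ⟨(e1.le (conj_mem_cj (uS (mem_zpowers u)))).1, by rw [cj_mul]; exact conj_mem_cj hu.1⟩, ?_, ?_, s⟩
  · simpa using (H9.orderOf_eq_two_iff.1 ho).1
  · simp [conj_mul, (H9.orderOf_eq_two_iff.1 ho).2]

theorem stepB {g q : G} (l : h.D ≤ cj g h.N) (hq : q ∈ h.T ⊓ cj g h.K) : q ∈ h.C0 := by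
  refine ⟨hq.1, fun d hd => of_cn ?_⟩
  have := H.kD (d := d⁻¹ * cn d q) (mul_mem (inv_mem hd) (cn_mem (TD h hq.1) hd)) ⟨g, mem_cj.1 (by
    rw [show d⁻¹ * cn d q = cn q⁻¹ d * q by simp only [cn]; group]
    exact mul_mem (cnK (inv_mem hq.2) (l hd)) hq.2)⟩
  exact (inv_mul_eq_one.1 this).symm

theorem stepC {g u u' : G} (hg : g ∉ h.N) (l : h.T ⊓ cj g h.K ≤ h.C0) (hu : u ∈ h.T ⊓ cj g h.K)
    (hu' : u' ∈ h.T ⊓ cj g h.K) (u1 : u ≠ 1) (u1' : u' ≠ 1) : u = u' := by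
  have sq : ∀ x ∈ h.T ⊓ cj g h.K, x * x = 1 := fun x hx =>
    KK hg (mul_mem hx.1 hx.1) (sqK (l hx)) (mul_mem hx.2 hx.2)
  have key : ∀ x ∈ h.T ⊓ cj g h.K, ∀ y ∈ h.T ⊓ cj g h.K, x ≠ 1 → h.r * x = x * h.r →
      h.r * (y * h.z) ≠ y * h.z * h.r := fun x hx y hy x1 e f => by
    have k := mul_mem (inv_mem (cnK hy.2 (ti' (sq x hx) x1 hx.2 e.symm))) hy.2
    have f := cn_of f.symm
    rw [cn_mul, h.hr.zr] at f
    rw [show (cn y h.r)⁻¹ * y = h.a * h.z⁻¹ by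
      rw [eq_mul_inv_iff_mul_eq, mul_assoc, ← f, inv_mul_cancel_left]] at k
    exact h.d8.rel.2.2.2.2.2.1 (mul_inv_eq_one.1
      (H.kD (mul_mem h.d8.aD (inv_mem (zD h))) ⟨g, mem_cj.1 k⟩))
  have fin : u * u' = 1 → u = u' := fun e => mul_right_cancel (e.trans (sq u' hu').symm)
  rcases h.hr.fix u (l hu) with e | e <;> rcases h.hr.fix u' (l hu') with e' | e'
  · exact fin (KK hg (mul_mem hu.1 hu'.1) (mulF (l hu) (l hu') e e' (fun k => u1 (KK hg hu.1 k hu.2))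
      fun k => u1' (KK hg hu'.1 k hu'.2)) (mul_mem hu.2 hu'.2))
  · exact absurd e' (key u hu u' hu' u1 e)
  · exact absurd e (key u' hu' u hu u1' e')
  · by_contra k
    refine key _ (mul_mem hu hu') u hu (mt fin k) ?_ e
    rw [← zz' (l hu')]
    exact Commute.mul_right e e'

theorem E3 {g u u' : G} (hg : g ∉ h.N) (s : IsSyl 2 (h.T ⊓ cj g h.N) (h.N ⊓ cj g h.N))
    (hu : u ∈ h.T ⊓ cj g h.K) (hu' : u' ∈ h.T ⊓ cj g h.K) (u1 : u ≠ 1) (u1' : u' ≠ 1) : u = u' := by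
  by_cases k : h.D ≤ cj g h.N
  · exact H.stepC hg (fun q hq => H.stepB k hq) hu hu' u1 u1'
  have f : ∀ x ∈ h.T ⊓ cj g h.K, x ∈ h.T0 → x = 1 := fun x hx x0 => by
    by_contra x1
    obtain ⟨n, h1, h2⟩ := exists_inv (T2 h) hx.1 x1
    exact k (stepA s h2 h1 (pow_mem hx.2 n) (pow_mem x0 n))
  exact mul_inv_eq_one.1 (f _ (mul_mem hu (inv_mem hu')) (mulT hu.1 (inv_mem hu'.1) (mt (f u hu) u1)
    (mt inv_mem_iff.1 (mt (f u' hu') u1'))))

theorem main (h4 : 4 ≤ Nat.card h.R) (hn : ¬ h.A.Normal) (hc : h.A ≤ normalClosure (h.K : Set G)) :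
    H2.Sec h.F1 4 := by
  obtain ⟨t, tR, t1, t2, tc⟩ := exists_t h4
  obtain ⟨g, hg, v, hv, v1, v2, s⟩ := H.E2 tR.2 t1 t2 hn hc
  have s0 := s.cj g⁻¹
  rw [cj_inf g⁻¹ h.N, cj_inv_cj, inf_comm (cj g⁻¹ h.N)] at s0
  obtain ⟨n, nN, e1, s1⟩ := nrm s0
  rw [← cj_mul] at e1
  have eK : ∀ x, x ∈ h.K → cn x (n * g⁻¹) ∈ cj g h.K := fun x hx => mem_cj.2 (by
    rw [show g⁻¹ * cn x (n * g⁻¹) * g = cn x n by simp only [cn]; group]
    exact cn_mem (NK h nN) hx)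
  have g1 : n * g⁻¹ ∉ h.N := mt (h.N.mul_mem_cancel_left nN).1 (mt inv_mem_iff.1 hg)
  generalize n * g⁻¹ = γ at e1 s1 eK g1
  have tN : t ∈ cj g h.N := ti' v2 v1 hv.2 (tc v hv.1).symm
  have mir : ∀ x ∈ h.T ⊓ cj g h.N, x ∈ h.K → γ * x * γ⁻¹ ∈ h.T ⊓ cj γ h.K := fun x hx k =>
    ⟨(e1.le (conj_mem_cj hx)).1, conj_mem_cj k⟩
  have mt' := mir t ⟨tR.1, tN⟩ tR.2
  have l : ∀ ρ ∈ h.R, ρ * v = v * ρ → ρ = 1 ∨ ρ = t := fun ρ hρ e => or_iff_not_imp_left.2 fun ρ1 => by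
    simpa using H.E3 g1 s1 (mir ρ ⟨hρ.1, ti' v2 v1 hv.2 e.symm⟩ hρ.2) mt' (by simpa using ρ1)
      (by simpa using t1)
  have kv : KI h v := ⟨g, mem_cj.1 hv.2⟩
  by_cases v0 : v ∈ h.T0
  · have vC := H.stepB (stepA s v2 v1 hv.2 v0) hv
    have zv := zT hv.1
    rcases h.hr.fix v vC with e | e
    · exact secF h4 ⟨vC, c1.2 e.symm⟩ (fun k => v1 (KK hg hv.1 k hv.2)) v2 l
    have cz : ∀ ρ ∈ h.T, ρ * (v * h.z) = v * h.z * ρ → ρ * v = v * ρ := fun ρ hρ f => by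
      rwa [mul_assoc, zT hρ, ← mul_assoc, ← mul_assoc, mul_left_inj] at f
    refine secF (t := t) h4 ⟨mul_mem vC zC, c1.2 e.symm⟩ (fun k => ?_) (zz' vC ▸ v2)
      fun ρ hρ f => l ρ hρ (cz ρ hρ.1 f)
    have f : v = v * h.z * h.z := by rw [mul_assoc, z2, mul_one]
    rcases l _ ⟨(mul_mem vC zC).1, k⟩ (by rw [mul_assoc, zv]) with e | e <;> rw [e] at f
    · exact H.kz (by rwa [f, one_mul] at kv)
    · exact H.ktz tR t2 tc (f ▸ kv)
  exfalso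
  obtain ⟨y, hy⟩ := vz hv.1 v0 v2
  obtain ⟨ρ, hρ, e⟩ := vt h4 hv.1 l
  have k1 : KI h (v * h.z) := hy ▸ kv.cj' y
  have k2 : KI h (v * (t * h.z)) := by
    have := k1.cj' ρ
    rwa [cn_mul, e, cn_of (zT hρ.1), mul_assoc] at this
  have fin : ∀ w ∈ h.T0, w * w = 1 → w * v = v * w → KI h w ∨ KI h (v * w) := fun w hw w2 c => by
    have wC := inC0 hv.1 v0 hw w2 c
    rcases h.out v hv.1 v0 w wC c with k | k
    · exact Or.inl (KI.of k)
    · have f : w = w * h.z * h.z := by rw [mul_assoc, z2, mul_one]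
      rcases l _ ⟨(mul_mem wC zC).1, k⟩ (by rw [mul_assoc, zT hv.1, ← mul_assoc, c, mul_assoc])
        with e | e <;> rw [e] at f
      · exact Or.inr (by rwa [f, one_mul])
      · exact Or.inr (f ▸ k2)
  have back : ∀ x ∈ h.T, (∀ y ∈ h.T, x * y = y * x) → cn x γ ∈ h.T ⊓ cj g h.N := fun x hx c =>
    mem_cj.1 (e1.ge ⟨hx, ti' (by simp [conj_mul, t2]) (by simpa using t1) mt'.2 (c _ mt'.1).symm⟩)
  have ev : cn t γ = v := H.E3 hg s ⟨(back t tR.1 tc).1, eK t tR.2⟩ hv (cn_ne t1 γ) v1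
  have hz := back h.z (DT h (zD h)) fun _ => zT
  have n1 : ¬ KI h (cn h.z γ) := fun k => H.kz (k.cj γ)
  have n2 : ¬ KI h (v * cn h.z γ) := fun k => H.ktz tR t2 tc (KI.cj γ (by rwa [cn_mul, ev]))
  have c : cn h.z γ * v = v * cn h.z γ := ev ▸ cn_comm (zT tR.1) γ
  have w2 := cn_sq (z2 h) γ
  generalize cn h.z γ = w at hz n1 n2 c w2
  by_cases w0 : w ∈ h.T0
  · exact (fin w w0 w2 c).elim n1 n2
  · refine (fin (v * w) (mulT hv.1 hz.1 v0 w0) ?_ (by rw [mul_assoc, c])).elim n2 fun k => n1 ?_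
    · rw [mul_assoc, ← mul_assoc w, c, mul_assoc, w2, mul_one, v2]
    · rwa [← mul_assoc, v2, one_mul] at k

end Hy

theorem eq (nz : NzStmt.{u}) (ts : TSecStmt.{u}) : EqStmt.{u} := fun G _ _ h h4 hs hn hc =>
  H2.Sec.sectional (k := 4) (H2.Sec.of_sylow hs.toSylowTop
    (ts G h (Hy.main ⟨hs, nz G h h4⟩ h4 hn hc)))

theorem eqns_LTEq : True := by
  have := @KI.eq_1.{0}
  trivial

end Cfsg.Agent.H13.LTEq
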