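import Cfsg.Agent.H13.LTWk

/-!
# Type H: `S` is a Sylow subgroup, `K` is weakly closed, and `y ≠ 1`
-/

set_option autoImplicit false

namespace Cfsg.Agent.H13.LT

open Cfsg.Agent.H96 Cfsg.Agent.H13.Pk Subgroup Cfsg.Agent.H85 Cfsg.Agent.H93.LT
open Cfsg.Agent.H3.LTB (cn_comm comm_of_cn cn_mul cn_mul' cn_mem cn_mem' mem_N mem_N_closure comm_z)

universe u

/-- The facts on one element of the model. -/
structure M1 {M : Type} [Group M] (c : Bool) (κ t m k f a z : M) (iV iW iK iR : M → Prop)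
    (s : M) : Prop where
  nK : ∀ x ∈ [z, f, a, k, m, κ], iK (s⁻¹ * x * s)
  fV : iV (f⁻¹ * (s⁻¹ * f * s))
  wK : iK s → s * s = 1 → iW s
  cR : s * z = z * s → s * f = f * s → s * a = a * s → iR s
  dd : iR s → iK s ∨ (∃ g, g⁻¹ * t * g = s ∨ (c = false ∧ g⁻¹ * (t * f) * g = s)) ∨
    (c = true ∧ (iW ((κ * t)⁻¹ * s) ∨ iW ((k * (κ * t))⁻¹ * s) ∨ iW ((m * (κ * t))⁻¹ * s) ∨
      iW (((k * m)⁻¹ * (κ * t))⁻¹ * s)))
  yW : c = true → iW ((κ * t)⁻¹ * (s⁻¹ * (κ * t) * s)) ∧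
    iW ((k * (κ * t))⁻¹ * (s⁻¹ * (k * (κ * t)) * s))

/-- The test for `M1`. -/
noncomputable def chk1 (T : Pc) (μ : ℕ → ℕ → ℕ) (c : Bool) (κ t m k f a z cV cW cK cR : ℕ)
    (ls : List ℕ) : Bool :=
  ls.all (fun g => Nat.blt g T.n) && force (μ κ t) fun y => force (μ k y) fun ky =>
  force (μ m y) fun my => force (μ (T.inv (μ k m)) y) fun ny => force (μ t f) fun tf =>
  allLt T.n fun s => force (T.inv s) fun si =>
    [z, f, a, k, m, κ].all (fun x => msk cK (μ (μ si x) s)) &&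
    msk cV (μ (T.inv f) (μ (μ si f) s)) &&
    (!msk cK s || !Nat.beq (μ s s) 0 || msk cW s) &&
    (!Nat.beq (μ s z) (μ z s) || !Nat.beq (μ s f) (μ f s) || !Nat.beq (μ s a) (μ a s) || msk cR s) &&
    (!msk cR s || msk cK s || (c && (msk cW (μ (T.inv y) s) || msk cW (μ (T.inv ky) s) ||
      msk cW (μ (T.inv my) s) || msk cW (μ (T.inv ny) s))) ||
      ls.any fun g => Nat.beq (μ (μ (T.inv g) t) g) s || (!c && Nat.beq (μ (μ (T.inv g) tf) g) s)) &&
    (!c || (msk cW (μ (T.inv y) (μ (μ si y) s)) && msk cW (μ (T.inv ky) (μ (μ si ky) s))))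

theorem m1_of {T : Pc} [T.OK] {μ : ℕ → ℕ → ℕ} (hμ : ∀ a b : T.G, μ a.val b.val = (a * b).val)
    {c : Bool} {κ t m k f a z : T.G} {cV cW cK cR : ℕ} (ls : List ℕ)
    (h : chk1 T μ c κ.val t.val m.val k.val f.val a.val z.val cV cW cK cR ls = true) (s : T.G) :
    M1 c κ t m k f a z (fun x => msk cV x.val = true) (fun x => msk cW x.val = true)
      (fun x => msk cK x.val = true) (fun x => msk cR x.val = true) s := by
  have e : ∀ x : T.G, x.val = 0 ↔ x = 1 := fun x => (Pc.G.ext_iff (x := x) (y := 1)).symm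
  simp only [chk1, force_eq, Bool.and_eq_true, allLt_iff, List.all_eq_true, Nat.blt_eq] at h
  obtain ⟨⟨⟨⟨⟨h1, h2⟩, h3⟩, h4⟩, h5⟩, h6⟩ := h.2 s.val s.lt
  simp only [Bool.and_eq_true, Bool.or_eq_true, Bool.not_eq_true', List.any_eq_true, Nat.beq_eq,
    ← Bool.not_eq_true, ← Pc.val_inv, hμ, e, ← Pc.G.ext_iff, List.forall_mem_cons] at h1 h2 h3 h4 h5 h6
  refine ⟨?_, h2, fun a b => h3.resolve_left (not_or.2 ⟨not_not.2 a, not_not.2 b⟩),
    fun a b d => h4.resolve_left (not_or.2 ⟨not_or.2 ⟨not_not.2 a, not_not.2 b⟩, not_not.2 d⟩),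
    fun hr => ?_, fun hc => h6.resolve_left (not_not.2 hc)⟩
  · simp only [List.forall_mem_cons]; exact ⟨h1.1, h1.2.1, h1.2.2.1, h1.2.2.2.1, h1.2.2.2.2.1,
      h1.2.2.2.2.2.1, by simp⟩
  rcases h5 with ((h5 | h5) | h5) | ⟨g, hg, h5⟩
  · exact absurd hr h5
  · exact .inl h5
  · exact .inr (.inr ⟨h5.1, or_assoc.1 (or_assoc.1 h5.2)⟩)
  · obtain ⟨g', rfl⟩ : ∃ g' : T.G, g'.val = g := ⟨⟨g, h.1 g hg⟩, rfl⟩
    simp only [← Pc.val_inv, hμ, ← Pc.G.ext_iff, Bool.not_eq_true] at h5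
    exact .inr (.inl ⟨g', h5⟩)

/-- The facts on the model. -/
structure MF {M : Type} [Group M] (c : Bool) (κ t m k f a z : M) (iV iW iK iR : M → Prop) :
    Prop where
  gV : Gen iV [z, a]
  gW : Gen iW [z, f, a]
  gK : Gen iK [z, f, a, k, m, κ]
  gR : Gen iR [z, f, a, k, m, κ, t]
  m1 : ∀ s, M1 c κ t m k f a z iV iW iK iR s
  tK : ¬ iK t
  card : c = true → Nat.card M = 1024
  wk : ∀ u v w, Tri c u v w → iK u
  t1 : Tri c k m (cond c κ f)
  t2 : Tri c m k (cond c κ f)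
  t3 : Tri c (cond c κ (k * f)) (cond c k m) (cond c m f)

theorem mf9 (i v : Bool) : MF false 1 ((T9 i v).el 8) ((T9 i v).el 16) ((T9 i v).el 32)
    ((T9 i v).el 64) ((T9 i v).el 128) ((T9 i v).el 256) (fun x => msk 127 x.val = true)
    (fun x => msk 63 x.val = true) (fun x => msk 15 x.val = true) (fun x => msk 7 x.val = true) :=
  ⟨genV9 i v, genW9 i v, genK9 i v, genR9 i v,
    m1_of (fast_mul (f9 i v)) (ls9 i v) (by revert i v; decide +kernel),
    by revert i v; decide +kernel, nofun, fun _ _ _ => wk9 i v, by revert i v; decide +kernel,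
    by revert i v; decide +kernel, by revert i v; decide +kernel⟩

theorem mf10 (v : Bool) : MF true ((T10 v).el 1) ((T10 v).el 16) ((T10 v).el 32) ((T10 v).el 64)
    ((T10 v).el 128) ((T10 v).el 256) ((T10 v).el 512) (fun x => msk 255 x.val = true)
    (fun x => msk 127 x.val = true) (fun x => msk 30 x.val = true) (fun x => msk 14 x.val = true) :=
  ⟨genV v, genW v, genK v, genR v, m1_of (fast_mul (f10 v)) (ls10 v) (by revert v; decide +kernel),
    by revert v; decide +kernel, fun _ => Pc.card_G, fun _ _ _ => wk10 v,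
    by revert v; decide +kernel, by revert v; decide +kernel, by revert v; decide +kernel⟩

variable {G : Type u} [Group G] [Finite G]

/-- The facts on `S`. -/
structure HF (h : H3 G) : Prop where
  s2 : IsPGroup 2 h.S
  wk : ∀ c, (∀ u ∈ h.K, cn u c ∈ h.S) → c ∈ normalizer (h.K : Set G)
  nK : h.S ≤ normalizer (h.K : Set G)
  wK : ∀ u ∈ h.K, u * u = 1 → u ∈ h.W1
  cR : h.S ⊓ centralizer (h.W1 : Set G) ≤ h.R
  tK : h.t ∉ h.K
  dd : ∀ u ∈ h.R, u ∉ h.K → IsConj h.t u → ∃ s ∈ h.S, cn h.t s = u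
  fV : ∀ s ∈ h.S, h.f⁻¹ * cn h.f s ∈ h.V1

section

variable (h : H3 G)

omit [Finite G] in
theorem W_le_K : h.W1 ≤ h.K := closure_mono (by intro x; simp only [Set.mem_insert_iff]; tauto)

omit [Finite G] in
theorem W_le_E : h.W1 ≤ h.E1 := closure_mono (Set.subset_insert _ _)

omit [Finite G] in
theorem R_le_S : h.R ≤ h.S := le_sup_left

omit [Finite G] in
theorem K_le_R : h.K ≤ h.R := (closure_le _).2 (by
  have m : ∀ {g}, g ∈ ({h.z, h.f, h.a, h.x, h.y, h.m, h.t} : Set G) → g ∈ h.R :=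
    fun a => subset_closure a
  rintro _ (rfl | rfl | rfl | rfl | rfl | rfl)
  exacts [m (by simp), m (by simp), m (by simp), mul_mem (m (by simp)) (m (by simp)), m (by simp), by
    rw [TT.κ]; split_ifs
    exacts [one_mem _, mul_mem (m (by simp)) (m (by simp))]])

omit [Finite G] in
theorem cW {g : G} (h1 : Commute g h.z) (h2 : Commute g h.f) (h3 : Commute g h.a) :
    g ∈ centralizer (h.W1 : Set G) := by
  rw [Pre.W1, centralizer_closure]
  rintro _ (rfl | rfl | rfl)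
  exacts [h1.symm, h2.symm, h3.symm]

omit [Finite G] in
theorem R_le_C : h.R ≤ centralizer (h.W1 : Set G) := (closure_le _).2 (by
  rintro _ (rfl | rfl | rfl | rfl | rfl | rfl | rfl)
  exacts [cW h (Commute.refl _) (fz h.toHH).symm h.za, cW h (fz h.toHH) (Commute.refl _) h.fa,
    cW h h.za.symm h.fa.symm (Commute.refl _), cW h (xz h.toHH) h.xf h.xa,
    cW h (yz h.toHH) h.yf h.ya, cW h h.mz h.mf h.ma, cW h (tz h.toHH) h.tf h.ta])

theorem rW : h.r ∈ normalizer (h.W1 : Set G) := mem_N_closure (by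
  have m : ∀ {g}, g ∈ ({h.z, h.f, h.a} : Set G) → g ∈ closure ({h.z, h.f, h.a} : Set G) :=
    fun a => subset_closure a
  rintro _ (rfl | rfl | rfl)
  exacts [by rw [h.zr]; exact m (by simp), by rw [cn_comm h.rf.symm]; exact m (by simp),
    by rw [h.ar]; exact mul_mem (m (by simp)) (m (by simp))])

omit [Finite G] in
theorem f_ne : h.f ≠ 1 ∧ h.f ≠ h.z :=
  ⟨fun e => h.fL (e ▸ one_mem _), fun e => h.fL (e ▸ H3.LTB.zL h.toHyp)⟩

variable {h} {M : Type} [Group M] {φ : M →* G} {κ q p b t m k f a z : M} {c : Bool}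
  {iV iW iK iR : M → Prop}

theorem hf_of (kit : Kit h.toHyp) (d : Md h φ κ q p b t m k f a z) (h2 : IsPGroup 2 M)
    (F : MF c κ t m k f a z iV iW iK iR) (hc : c = true ↔ h.y ≠ 1) : HF h := by
  have mV := F.gV.mem d.inj d.V
  have mW := F.gW.mem d.inj d.W
  have mK := F.gK.mem d.inj d.K
  have mR := F.gR.mem d.inj d.R
  have s2 : IsPGroup 2 h.S := by rw [← d.ran, MonoidHom.range_eq_map]; exact (h2.to_subgroup _).map _
  have nK : h.S ≤ normalizer (h.K : Set G) := fun s hs => by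
    obtain ⟨s, rfl⟩ := d.ex hs
    have := d.K
    rw [this]
    refine mem_N_closure fun x hx => ?_
    obtain ⟨x, hx', rfl⟩ := List.mem_map.1 hx
    rw [← this, cn, ← map_inv, ← map_mul, ← map_mul, mK]
    exact (F.m1 s).nK x hx'
  have wK : ∀ u ∈ h.K, u * u = 1 → u ∈ h.W1 := fun u hu e => by
    obtain ⟨u, a, rfl⟩ := F.gK.ex d.K hu
    exact (mW u).2 ((F.m1 u).wK a (d.inj (by rw [map_mul, e, map_one])))
  have tK : h.t ∉ h.K := d.t ▸ fun e => F.tK ((mK t).1 e)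
  have nW : h.S ≤ normalizer (h.W1 : Set G) := fun s hs => mem_N fun x hx =>
    wK _ (cn_mem (nK hs) (W_le_K h hx)) (by
      rw [← cn_mul', kit.cE.2.2.1 x (W_le_E h hx)]; simp [cn])
  have nD : ∀ {u w : G}, h.y ≠ 1 → (∀ s ∈ h.S, u⁻¹ * cn u s ∈ h.W1) → w ∈ h.W1 →
      ¬ IsConj h.t (u * w) := fun {u w} hy hu hw hD => by
    have c1 := H60.LT.card_orbit h.S (u * w)
    have c2 : {a | ∃ m ∈ h.S, cn (u * w) m = a}.ncard ≤ Nat.card h.W1 := by
      rw [← SetLike.coe_sort_coe, Nat.card_coe_set_eq]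
      refine Set.ncard_le_ncard_of_injOn (fun x => u⁻¹ * x) ?_ fun x _ y _ e => mul_left_cancel e
      rintro _ ⟨s, hs, rfl⟩
      rw [cn_mul', ← mul_assoc]
      exact mul_mem (hu s hs) (cn_mem (nW hs) hw)
    have c3 : Nat.card h.W1 ≤ 8 := by
      have a1 := card_dvd_of_le (W_le_E h)
      have a2 : Nat.card h.W1 ≠ 16 := fun e => tK (W_le_K h
        (eq_of_le_of_card_ge (W_le_E h) (by rw [e, kit.cE.1]) ▸ subset_closure (by simp)))
      rw [kit.cE.1] at a1
      have := Nat.le_of_dvd (by norm_num) a1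
      interval_cases Nat.card h.W1 <;> omega
    obtain ⟨g, -, hg⟩ := kit.into _ (h.S ⊓ centralizer {u * w}) hD (s2.to_le inf_le_left) inf_le_right
    have c4 : Nat.card ↥(h.S ⊓ centralizer {u * w}) ≤ Nat.card h.T := by
      rw [← card_cj g⁻¹]
      exact card_le_of_le (by rintro _ ⟨x, hx, rfl⟩; simpa using hg x hx)
    have c5 : Nat.card h.T ≤ 64 := by
      rcases kit.cT with e | e
      · rw [e.2, kit.cT0]; norm_num
      · exact e.2.2.le
    rw [d.card, F.card (hc.2 hy)] at c1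
    have := Nat.mul_le_mul (c2.trans c3) (c4.trans c5)
    omega
  have cφ : ∀ x g : M, cn (φ x) (φ g) = φ (g⁻¹ * x * g) := fun x g => by simp only [cn, map_mul, map_inv]
  refine ⟨s2, fun g hg => ?_, nK, wK, fun s hs => ?_, tK, fun u hu uK hD => ?_, fun s hs => ?_⟩
  · have tr : ∀ {u v w : M}, φ u ∈ h.K → φ v ∈ h.K → φ w ∈ h.K → Tri c u v w → cn (φ u) g ∈ h.K :=
      fun {u v w} a1 a2 a3 t => by
        obtain ⟨u', e1⟩ := d.ex (hg _ a1)
        obtain ⟨v', e2⟩ := d.ex (hg _ a2)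
        obtain ⟨w', e3⟩ := d.ex (hg _ a3)
        have := (tri_map (φ := (MulAut.conj g⁻¹).toMonoidHom) (MulAut.conj g⁻¹).injective).2
          ((tri_map d.inj).2 t)
        simp only [MulEquiv.coe_toMonoidHom, MulAut.conj_apply, inv_inv] at this
        rw [← e1, mK]
        exact F.wk _ v' w' ((tri_map d.inj).1 (by rw [e1, e2, e3]; exact this))
    have mm : ∀ {x}, x ∈ ({h.z, h.f, h.a, h.x * h.t, h.m, h.κ} : Set G) → x ∈ h.K :=
      fun a => subset_closure a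
    have k0 : φ k ∈ h.K := d.k ▸ mm (by simp)
    have m0 : φ m ∈ h.K := d.m ▸ mm (by simp)
    have f0 : φ f ∈ h.K := d.f ▸ mm (by simp)
    have κ0 : φ κ ∈ h.K := d.κ ▸ mm (by simp)
    have w0 : φ (cond c κ f) ∈ h.K := by cases c; exacts [f0, κ0]
    have k1 := tr k0 m0 w0 F.t1
    have m1 := tr m0 k0 w0 F.t2
    have u1 := tr (by cases c; exacts [map_mul φ k f ▸ mul_mem k0 f0, κ0])
      (by cases c; exacts [m0, k0]) (by cases c; exacts [f0, m0]) F.t3
    rw [d.k] at k1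
    rw [d.m] at m1
    have f1 : cn h.f g ∈ h.K ∧ cn h.κ g ∈ h.K := by
      cases c
      · have hy : h.y = 1 := by simpa using hc
        rw [cond_false, map_mul, d.k, d.f, cn_mul'] at u1
        exact ⟨(mul_mem_cancel_left k1).1 u1, by simp [TT.κ, hy, cn]⟩
      · have hy := hc.1 rfl
        rw [cond_true, d.κ] at u1
        refine ⟨?_, u1⟩
        rw [TT.κ, if_neg hy] at u1
        rw [← κκ h hy, cn_mul']; exact mul_mem u1 u1
    refine mem_N_closure ?_
    rintro _ (rfl | rfl | rfl | rfl | rfl | rfl)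
    exacts [by have := mul_mem k1 k1; rwa [← cn_mul', kk h.toHH] at this, f1.1,
      by have := mul_mem m1 m1; rwa [← cn_mul', h.mm] at this, k1, m1, f1.2]
  · obtain ⟨s, rfl⟩ := d.ex hs.1
    have e : ∀ {x}, φ x ∈ ({h.z, h.f, h.a} : Set G) → s * x = x * s := fun {x} hx =>
      d.inj (by rw [map_mul, map_mul]; exact (hs.2 _ (subset_closure hx)).symm)
    exact (mR s).2 ((F.m1 s).cR (e (by simp [d.z])) (e (by simp [d.f])) (e (by simp [d.a])))
  · obtain ⟨u, a, rfl⟩ := F.gR.ex d.R hu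
    rcases (F.m1 u).dd a with e | ⟨g, e | ⟨hc', e⟩⟩ | ⟨hc', e⟩
    · exact absurd ((mK u).2 e) uK
    · exact ⟨φ g, d.mem g, by rw [← d.t, cφ, e]⟩
    · have hy : h.y = 1 := by simpa [hc'] using hc
      have h1 : IsConj h.t (h.t * h.f) := hD.trans (by
        rw [← e, ← cφ, map_mul, d.t, d.f]; exact (H60.LT.isConj_cn _ _).symm)
      rcases h.alt with ⟨-, -, h3⟩ | ⟨-, h3, -⟩ | ⟨h3, -⟩
      · rcases h3 _ (mul_mem (H3.LTB.tZ h.toHyp) (H3.LTB.fZ h.toHyp)) h1 with h4 | h4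
        exacts [absurd (mul_eq_left.1 h4) (f_ne h).1, absurd (mul_left_cancel h4) (f_ne h).2]
      · exact absurd h3 h.e1
      · rw [hy, cn_comm (Commute.one_right _), eq_comm] at h3
        exact absurd (mul_eq_left.1 h3) (f_ne h).1
    · have hy := hc.1 hc'
      have y1 : ∀ s ∈ h.S, h.y⁻¹ * cn h.y s ∈ h.W1 := fun s hs => by
        obtain ⟨s, rfl⟩ := d.ex hs
        rw [← d.y hy, cφ, ← map_inv, ← map_mul, mW]; exact ((F.m1 s).yW hc').1
      have y2 : ∀ s ∈ h.S, (h.x * h.t * h.y)⁻¹ * cn (h.x * h.t * h.y) s ∈ h.W1 := fun s hs => by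
        obtain ⟨s, rfl⟩ := d.ex hs
        rw [← d.y hy, ← d.k, ← map_mul, cφ, ← map_inv, ← map_mul, mW]; exact ((F.m1 s).yW hc').2
      have yr := cn_comm h.yr.symm
      have st : ∀ {u : G}, IsConj h.t u → ((h.x * h.t * h.m)⁻¹ * h.y)⁻¹ * u ∈ h.W1 → False :=
        fun {u} a b => by
        refine nD hy y2 (cn_mem (rW h) b) ((a.trans (H60.LT.isConj_cn u h.r)).trans ?_)
        have : cn ((h.x * h.t * h.m)⁻¹ * h.y) h.r = h.x * h.t * h.y := by
          have e0 : cn (h.x * h.t * h.m)⁻¹ h.r = (cn (h.x * h.t) h.r * cn h.m h.r)⁻¹ := by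
            simp only [cn]; group
          rw [cn_mul', yr, e0, h.xr, h.mr]; group
        rw [← this, ← cn_mul', mul_inv_cancel_left]
      exfalso
      simp only [← mW, map_mul, map_inv, ← map_mul φ κ t, d.y hy, d.k, d.m] at e
      rcases e with e | e | e | e
      · exact nD hy y1 e (by rwa [mul_inv_cancel_left])
      · exact nD hy y2 e (by rwa [mul_inv_cancel_left])
      · refine st (hD.trans (H60.LT.isConj_cn _ h.r)) ?_
        have := cn_mem (rW h) e
        rwa [cn_mul', show cn (h.m * h.y)⁻¹ h.r = (cn h.m h.r * cn h.y h.r)⁻¹ by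
          simp only [cn]; group, h.mr, yr] at this
      · exact st hD e
  · obtain ⟨s, rfl⟩ := d.ex hs
    rw [← d.f, cφ, ← map_inv, ← map_mul, mV]; exact (F.m1 s).fV

end

theorem hf (hk : KitStmt.{u}) (h : H3 G) : HF h := by
  by_cases hy : h.y = 1
  · obtain ⟨i, v, φ, d⟩ := exists_phi9 h hy
    exact hf_of (hk G _) d Pc.isPGroup (mf9 i v) (by simp [hy])
  · obtain ⟨v, φ, -, d⟩ := exists_phi h hy
    exact hf_of (hk G _) d Pc.isPGroup (mf10 v) (by simp [hy])

theorem HF.nW {h : H3 G} (F : HF h) (kit : Kit h.toHyp) :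
    normalizer (h.K : Set G) ≤ normalizer (h.W1 : Set G) := fun s hs => mem_N fun x hx =>
  F.wK _ (cn_mem hs (W_le_K h hx)) (by rw [← cn_mul', kit.cE.2.2.1 x (W_le_E h hx)]; simp [cn])

/-- An element normalising `K` and `R` centralises `t` modulo `S`. -/
theorem HF.fix {h : H3 G} (F : HF h) {c : G} (cK : c ∈ normalizer (h.K : Set G))
    (cR : c ∈ normalizer (h.R : Set G)) : ∃ s ∈ h.S, c * s⁻¹ ∈ centralizer ({h.t} : Set G) := by
  obtain ⟨s, hs, e⟩ := F.dd _ (cn_mem cR (subset_closure (by simp))) (fun e => F.tK (cn_mem' cK e))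
    (H60.LT.isConj_cn _ c)
  refine ⟨s, hs, mem_centralizer_singleton_iff.2 (comm_of_cn ?_).symm⟩
  rw [cn_mul, ← e, cn, cn]; group

theorem HF.syl {h : H3 G} (F : HF h) (kit : Kit h.toHyp) : IsSyl 2 h.S ⊤ := by
  obtain ⟨S', hS, l⟩ := exists_isSyl_ge F.s2 le_top
  by_contra hn
  obtain ⟨g, hg, gS⟩ := SetLike.exists_of_lt (lt_inf_normalizer_of_lt hS.isPGroup
    (lt_of_le_of_ne l fun e => hn (e ▸ hS)))
  have gK := F.wk g fun u hu => cn_mem hg.2 (R_le_S h (K_le_R h hu))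
  have gW := F.nW kit gK
  obtain ⟨s, hs, e⟩ := F.fix gK (mem_N fun x hx => F.cR ⟨cn_mem hg.2 (R_le_S h hx),
    cn_mem (normalizer_le_normalizer_centralizer _ gW) (R_le_C h hx)⟩)
  have T0S : h.T0 ≤ h.S := (closure_le _).2 (by
    rintro _ (rfl | rfl | rfl | rfl)
    exacts [R_le_S h (subset_closure (by simp)), R_le_S h (subset_closure (by simp)),
      R_le_S h (subset_closure (by simp)), mem_sup_right (subset_closure (by simp))])
  rcases kit.cT2 (S' ⊓ centralizer {h.t} ⊓ normalizer (h.W1 : Set G))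
    (hS.isPGroup.to_le (inf_le_left.trans inf_le_left))
    (le_inf (le_inf (T0S.trans l) ((H3.LTB.T0_T h.toHyp).trans h.syl.le))
      (T0S.trans (F.nK.trans (F.nW kit)))) (inf_le_left.trans inf_le_right) with e' | ⟨-, -, c, hc, e', -⟩
  · have : g * s⁻¹ ∈ h.T0 := e' ▸ mem_inf.2 ⟨mem_inf.2 ⟨mul_mem (mem_inf.1 hg).1 (inv_mem (l hs)), e⟩,
      mul_mem gW (inv_mem (F.nW kit (F.nK hs)))⟩
    exact gS ((mul_mem_cancel_right (inv_mem hs)).1 (T0S this))
  · have aW : h.a ∈ h.W1 := subset_closure (by simp)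
    have bW : h.b ∈ h.W1 := e' ▸ cn_mem hc.2 aW
    exact H3.LTB.nab h.toHyp (H3.LTB.EA.comm kit.cE.2.2.1 (W_le_E h aW) (W_le_E h bW))

theorem HF.fix_f {h : H3 G} (F : HF h) (kit : Kit h.toHyp) (c : G) (hc : ∀ u ∈ h.K, cn u c ∈ h.S) :
    h.f⁻¹ * cn h.f c ∈ h.V1 := by
  have cK := F.wk c hc
  have nN : normalizer (h.K : Set G) ≤ normalizer
      ((normalizer (h.K : Set G) ⊓ centralizer (h.W1 : Set G) : Subgroup G) : Set G) :=
    le_normalizer_inf le_normalizer ((F.nW kit).trans (normalizer_le_normalizer_centralizer _))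
  have s1 := ((F.syl kit).of_le F.nK le_top).inf_of_le_normalizer inf_le_left nN
  have e1 : h.S ⊓ (normalizer (h.K : Set G) ⊓ centralizer (h.W1 : Set G)) = h.R :=
    le_antisymm ((inf_le_inf_left _ inf_le_right).trans F.cR)
      (le_inf (R_le_S h) (le_inf ((R_le_S h).trans F.nK) (R_le_C h)))
  rw [e1] at s1
  rw [← s1.frattini inf_le_left nN] at cK
  obtain ⟨n, hn, c', hc', rfl⟩ := (mem_sup_of_le_normalizer (inf_le_left.trans nN)).1 cK
  obtain ⟨s, hs, e⟩ := F.fix hc'.1 hc'.2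
  have fW : h.f ∈ h.W1 := subset_closure (by simp)
  have cW' := F.nW kit (mul_mem hc'.1 (inv_mem (F.nK hs)))
  obtain ⟨w, hw, e'⟩ := kit.aut1 _ e (mem_N_closure (by
    rintro x (rfl | hx)
    · rw [cn_comm (mem_centralizer_singleton_iff.1 e).symm]; exact subset_closure (by simp)
    · exact W_le_E h (cn_mem cW' (subset_closure hx))))
  have wf : w ∈ centralizer ({h.f} : Set G) := (closure_le _).2 (by
    rintro _ (rfl | rfl)
    exacts [mem_centralizer_singleton_iff.2 h.fb.symm, mem_centralizer_singleton_iff.2 h.rf]) hw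
  have e2 := e' _ (W_le_E h fW)
  rw [cn_comm (g := w) (mem_centralizer_singleton_iff.1 wf).symm] at e2
  rw [cn_mul, cn_comm (g := n) (hn.2 _ fW), ← inv_mul_cancel_right c' s, cn_mul, e2]
  exact F.fV s hs

theorem hs (hk : KitStmt.{u}) : HSStmt.{u} := fun G _ _ h =>
  ⟨(hf hk h).syl (hk G _), (hf hk h).fix_f (hk G _)⟩

theorem chi_val : ∀ i v, let χ := Pc.lift _ (rchi i v)
    χ ((T9 i v).el 256) = 1 ∧ χ ((T9 i v).el 128) = 1 ∧ χ ((T9 i v).el 64) ≠ 1 := by
  decide +kernel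

theorem hd (hk : KitStmt.{u}) : HDStmt.{u} := by
  intro G _ _ h hy
  have kit := hk G h.toHyp
  have F := hf hk h
  obtain ⟨i, v, φ, d⟩ := exists_phi9 h hy
  obtain ⟨c1, c2, c3⟩ := chi_val i v
  obtain ⟨χ, hχ⟩ : ∃ χ, χ = Pc.lift _ (rchi i v) := ⟨_, rfl⟩
  rw [← hχ] at c1 c2 c3
  have fK : h.f ∈ h.K := subset_closure (by simp)
  have := kit.trG h.S (χ.ker.map φ) h.K h.f (F.syl kit) (d.ran ▸ map_le_range _ _) (fun x hx y hy => by
      obtain ⟨x, rfl⟩ := d.ex hx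
      obtain ⟨y, rfl⟩ := d.ex hy
      refine ⟨x⁻¹ * y⁻¹ * x * y, ?_, by simp only [map_mul, map_inv]⟩
      simp only [SetLike.mem_coe, MonoidHom.mem_ker, map_mul, map_inv]
      rw [mul_right_comm _ (χ y)⁻¹, inv_mul_cancel, one_mul, inv_mul_cancel])
    h.fX h.ff (R_le_S h (K_le_R h fK)) fK (F.s2.to_le ((K_le_R h).trans (R_le_S h)))
    (fun x hx => mem_centralizer_singleton_iff.2 (R_le_C h (K_le_R h hx) _
      (subset_closure (by simp))).symm)
    fun g hg => (closure_le _).2 (by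
      rintro _ (rfl | rfl)
      exacts [⟨_, c1, d.z⟩, ⟨_, c2, d.a⟩]) (F.fix_f kit g hg)
  rw [← d.f, mem_map_iff_mem d.inj] at this
  exact c3 this

end Cfsg.Agent.H13.LT
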