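import Cfsg.Agent.H13.LTTab
import Cfsg.Agent.H93.LT2Defs
import Cfsg.Agent.H60.LTB
import Cfsg.Agent.Eqn.Cfsg_Agent_H13_Pk_Act
import Cfsg.Agent.Eqn.Cfsg_Agent_H13_Pk_Pres

/-!
# The models of the group `S` of type H map onto `S`
-/

set_option autoImplicit false

namespace Cfsg.Agent.H13.LT

open Cfsg.Agent.H96 Cfsg.Agent.H13.Pk Subgroup Cfsg.Agent.H85 Cfsg.Agent.H93.LT
open Cfsg.Agent.H3.LTB (cn_comm comm_of_cn cn_mul cn_mul' cn_mem cn_mem' mem_N mem_N_closure comm_z)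

universe u

variable {G : Type u} [Group G]

theorem cc {x g : G} (h : Commute g x) : g⁻¹ * x * g = x := cn_comm h.symm

theorem flip {x g w : G} (h : cn x g = w) : cn g x = g * w⁻¹ * x := by
  rw [← h, cn, cn]; group

section HH

variable (h : HH G)

theorem tz : Commute h.t h.z := H3.LTB.tz h.toHyp
theorem fz : Commute h.f h.z := H3.LTB.fz h.toHyp
theorem xz : Commute h.x h.z := comm_z h.toHyp h.xa h.xb
theorem yz : Commute h.y h.z := comm_z h.toHyp h.ya h.yb
theorem kz : Commute (h.x * h.t) h.z := (xz h).mul_left (tz h)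
theorem ka : Commute (h.x * h.t) h.a := h.xa.mul_left h.ta
theorem kf : Commute (h.x * h.t) h.f := h.xf.mul_left h.tf
theorem kb : Commute (h.x * h.t) h.b := h.xb.mul_left h.tb

theorem kk : h.x * h.t * (h.x * h.t) = h.z := by
  calc _ = h.x * h.x * cn h.t h.x * h.t := by group
    _ = _ := by rw [h.xx, h.tx, (tz h).eq, one_mul, mul_assoc, h.tt, mul_one]

theorem ki : (h.x * h.t)⁻¹ = h.x * h.t * h.z := by
  rw [inv_eq_iff_mul_eq_one, ← mul_assoc, kk, h.zz]

theorem mi : h.m⁻¹ = h.m * h.a := by rw [inv_eq_iff_mul_eq_one, ← mul_assoc, h.mm, h.aa]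

theorem km : cn (h.x * h.t) h.m = h.x * h.t := by
  rw [cn_mul', h.xm, h.tm, mul_assoc, ← mul_assoc h.a, ← h.ta.eq, mul_assoc h.t, h.aa, mul_one]

theorem kt : cn (h.x * h.t) h.t = h.x * h.t * h.z := by
  rw [← ki, mul_inv_rev, inv_eq_of_mul_eq_one_left h.xx, cn, mul_assoc, mul_assoc, h.tt, mul_one]

theorem mt : cn h.m h.t = h.m * h.a := by
  rw [flip h.tm, mul_inv_rev, inv_eq_of_mul_eq_one_left h.aa]; group

theorem mb : cn h.m h.b = h.m * (h.a * (h.x * h.t * h.z)) := by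
  rw [h.mb, mul_inv_rev, ki, mi, mul_assoc]

theorem pres7 : Pres [h.b, h.t, h.m, h.x * h.t, h.f, h.a, h.z] P7 := by
  simp only [P7, Pres, Act, wl, List.getD_cons_zero, List.getD_cons_succ, mul_one, and_true]
  exact ⟨h.bb, ⟨cc h.tb.symm, mb h, cc (kb h).symm, cc h.fb.symm, h.ab, cc h.zb.symm⟩,
    h.tt, ⟨mt h, kt h, cc h.tf, cc h.ta, cc (tz h)⟩, h.mm, ⟨km h, cc h.mf, cc h.ma, cc h.mz⟩,
    kk h, ⟨cc (kf h), cc (ka h), cc (kz h)⟩, h.ff, ⟨cc h.fa, cc (fz h)⟩, h.aa, cc h.za.symm, h.zz⟩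

end HH

section H3

variable (h : H3 G)

/-- The relations which select the model. -/
def Var (i v : Bool) : Prop :=
  cn h.m h.p = cond i (h.m * h.z) h.m ∧
  cn (h.x * h.t) h.q = cond i (h.x * h.t * h.a) (h.x * h.t) ∧
  cn h.p h.q = cond i (cond v (h.z * h.a * (h.x * h.t) * h.m * h.p) (h.x * h.t * h.m * h.p))
    (cond v (h.z * h.a * h.p) h.p) ∧
  cn h.b h.q = cond i (cond v (h.f * h.t * h.b * h.p) (h.z * h.a * h.t * h.b * h.p))
    (cond v (h.z * h.a * h.f * (h.x * h.t) * h.m * h.b * h.p) (h.x * h.t * h.m * h.b * h.p))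

theorem exists_var : ∃ i v, Var h i v ∧ (h.y ≠ 1 → i = true) := by
  rcases h.var with ⟨y, a, b, ⟨c, d⟩ | ⟨c, d⟩⟩ | ⟨a, b, ⟨c, d⟩ | ⟨c, d⟩⟩
  exacts [⟨false, false, ⟨a, b, c, d⟩, fun e => absurd y e⟩, ⟨false, true, ⟨a, b, c, d⟩,
    fun e => absurd y e⟩, ⟨true, false, ⟨a, b, c, d⟩, fun _ => rfl⟩, ⟨true, true, ⟨a, b, c, d⟩,
    fun _ => rfl⟩]

/-- The generators. -/
def xs9 : List G := [h.q, h.p, h.b, h.t, h.m, h.x * h.t, h.f, h.a, h.z]

theorem pres9 {i v : Bool} (hv : Var h i v) : Pres (xs9 h) (Pq i v :: Pp i :: P7) := by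
  obtain ⟨a, b, c, d⟩ := hv
  refine ⟨?_, ?_, ?_, ?_, pres7 h.toHH⟩
  · cases i <;> cases v <;> exact h.qq.trans ((mi h.toHH).trans (by simp [Pq, wl]))
  · cases i <;> cases v <;>
      simp only [Pq, Act, wl, List.getD_cons_zero, List.getD_cons_succ, mul_one, and_true] <;>
      exact ⟨c.trans (by simp only [cond, mul_assoc]), d.trans (by simp only [cond, mul_assoc]),
        h.tq, cc h.qm, b, h.fq, cc h.qa, cc h.qz⟩
  · cases i <;> exact h.pp.trans ((ki h.toHH).trans (by simp [Pp, wl]))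
  · cases i <;>
      simp only [Pp, Act, wl, List.getD_cons_zero, List.getD_cons_succ, mul_one, and_true] <;>
      exact ⟨cc h.pb, h.tp, a, cc h.pk, h.fp, cc h.pa, cc h.pz⟩

theorem ty (hy : h.y ≠ 1) : cn h.t h.y = h.t * h.f := by
  rcases h.alt with a | a | a
  exacts [absurd a.1 hy, absurd a.1 hy, a.1]

theorem κκ (hy : h.y ≠ 1) : h.y * h.t * (h.y * h.t) = h.f := by
  calc _ = h.y * h.y * cn h.t h.y * h.t := by group
    _ = _ := by rw [h.yy, ty h hy, h.tf.eq, one_mul, mul_assoc, h.tt, mul_one]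

theorem pres10 (hy : h.y ≠ 1) {v : Bool} (hv : Var h true v) :
    Pres (h.y * h.t :: xs9 h) (Pκ :: Pq true v :: Pp true :: P7) := by
  refine ⟨(κκ h hy).trans (by simp [Pκ, wl, xs9]), ?_, pres9 h hv⟩
  simp only [Pκ, xs9, Act, wl, List.getD_cons_zero, List.getD_cons_succ, mul_one, and_true]
  have e : ∀ {g w : G}, cn (h.y * h.t) g = (h.y * h.t)⁻¹ * w → cn g (h.y * h.t) = g * (w⁻¹ * h.f) :=
    fun {g w} e => by rw [flip e, ← κκ h hy]; group
  have my : cn h.m h.y = h.m * h.a := by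
    rw [flip (h.ym hy), mul_inv_rev, inv_eq_of_mul_eq_one_left h.aa]; group
  have ky : cn (h.x * h.t) h.y = h.x * h.t * h.z := by
    rw [cn_mul', h.xy hy, ty h hy, mul_assoc, mul_assoc, ← mul_assoc h.z, ← (tz h.toHH).eq,
      ← ((h.tf.symm.mul_right (fz h.toHH))).eq, ← mul_assoc h.f, h.ff, one_mul, mul_assoc]
  refine ⟨(e (h.κq hy)).trans (by rw [mi h.toHH, mul_assoc]),
    (e (h.κp hy)).trans (by rw [ki h.toHH, mul_assoc (h.x * h.t)]), cc (h.yb.mul_left h.tb), ?_, ?_, ?_,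
    cc (h.yf.mul_left h.tf), cc (h.ya.mul_left h.ta), cc ((yz h.toHH).mul_left (tz h.toHH))⟩
  · exact (cn_mul _ _ _).trans (by rw [ty h hy, cn_mul', cn_comm (Commute.refl _), cn_comm h.tf.symm])
  · exact (cn_mul _ _ _).trans (by
      rw [my, cn_mul', mt h.toHH, cn_comm h.ta.symm, mul_assoc, h.aa, mul_one])
  · exact (cn_mul _ _ _).trans (by
      rw [ky, cn_mul', kt h.toHH, cn_comm (tz h.toHH).symm, mul_assoc, h.zz, mul_one])

theorem rel9 {i v : Bool} (hv : Var h i v) : (T9 i v).Rel (xs9 h) :=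
  rel_of_pres _ _ _ (d9 i v) (pres9 h hv) (p9 i v)

theorem rel10 (hy : h.y ≠ 1) {v : Bool} (hv : Var h true v) : (T10 v).Rel (h.y * h.t :: xs9 h) :=
  rel_of_pres _ _ _ (d10 v) (pres10 h hy hv) (p10 v)

theorem cen9 : ∀ i v, ∀ m : (T9 i v).G, (∀ y ∈ [1, 2, 4, 8].map (T9 i v).el, y * m = m * y) →
    m = 1 ∨ m.val = 256 := by
  simp only [List.map, List.forall_mem_cons, List.not_mem_nil, false_imp_iff, implies_true, and_true]
  decide +kernel

theorem cen10 : ∀ v, ∀ m : (T10 v).G, (∀ y ∈ [2, 4, 8, 16].map (T10 v).el, y * m = m * y) →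
    m = 1 ∨ m.val = 512 := by
  simp only [List.map, List.forall_mem_cons, List.not_mem_nil, false_imp_iff, implies_true, and_true]
  decide +kernel

theorem inj9 {i v : Bool} (hv : Var h i v) : Function.Injective (Pc.lift _ (rel9 h hv)) :=
  Pc.lift_injective _ _ fun w h1 _ h3 => by
    rw [(cen9 i v w fun y _ => h3 y).resolve_left h1]
    exact fun e => h.z1 ((word_two_pow (xs9 h) 8 (by simp [xs9])).symm.trans e)

theorem inj10 (hy : h.y ≠ 1) {v : Bool} (hv : Var h true v) :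
    Function.Injective (Pc.lift _ (rel10 h hy hv)) :=
  Pc.lift_injective _ _ fun w h1 _ h3 => by
    rw [(cen10 v w fun y _ => h3 y).resolve_left h1]
    exact fun e => h.z1 ((word_two_pow (h.y * h.t :: xs9 h) 9 (by simp [xs9])).symm.trans e)

theorem S_eq : h.S = closure {g | g ∈ h.y * h.t :: xs9 h} := by
  have m : ∀ {g}, g ∈ h.y * h.t :: xs9 h → g ∈ closure {g | g ∈ h.y * h.t :: xs9 h} :=
    fun a => subset_closure a
  have i : ∀ {g}, g * h.t ∈ h.y * h.t :: xs9 h → g ∈ closure {g | g ∈ h.y * h.t :: xs9 h} :=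
    fun a => (mul_mem_cancel_right (m (by simp [xs9]))).1 (m a)
  have r : ∀ {g}, g ∈ ({h.z, h.f, h.a, h.x, h.y, h.m, h.t} : Set G) → g ∈ h.S :=
    fun a => mem_sup_left (subset_closure a)
  have s : ∀ {g}, g ∈ ({h.b, h.p, h.q} : Set G) → g ∈ h.S := fun a => mem_sup_right (subset_closure a)
  refine le_antisymm (sup_le ((closure_le _).2 ?_) ((closure_le _).2 ?_)) ((closure_le _).2 ?_)
  · rintro _ (rfl | rfl | rfl | rfl | rfl | rfl | rfl)
    exacts [m (by simp [xs9]), m (by simp [xs9]), m (by simp [xs9]), i (by simp [xs9]),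
      i (by simp [xs9]), m (by simp [xs9]), m (by simp [xs9])]
  · rintro _ (rfl | rfl | rfl) <;> exact m (by simp [xs9])
  · intro g hg
    simp only [xs9, Set.mem_ofPred_eq, List.mem_cons, List.not_mem_nil, or_false] at hg
    rcases hg with rfl | rfl | rfl | rfl | rfl | rfl | rfl | rfl | rfl | rfl
    exacts [mul_mem (r (by simp)) (r (by simp)), s (by simp), s (by simp), s (by simp), r (by simp),
      r (by simp), mul_mem (r (by simp)) (r (by simp)), r (by simp), r (by simp), r (by simp)]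

/-- A model of `S`. -/
structure Md {M : Type} [Group M] (φ : M →* G) (κ q p b t m k f a z : M) : Prop where
  inj : Function.Injective φ
  ran : φ.range = h.S
  κ : φ κ = h.κ
  q : φ q = h.q
  p : φ p = h.p
  b : φ b = h.b
  t : φ t = h.t
  m : φ m = h.m
  k : φ k = h.x * h.t
  f : φ f = h.f
  a : φ a = h.a
  z : φ z = h.z

theorem lift_el {T : Pc} [T.OK] {xs : List G} (r : T.Rel xs) (i : ℕ) (hi : i < xs.length) :
    Pc.lift xs r (T.el (2 ^ i)) = xs[i] := by
  rw [Pc.lift_apply, Pc.el_val (Nat.pow_lt_pow_right (by omega) (r.length ▸ hi)), word_two_pow xs i hi]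

/-- The model for `y ≠ 1`; `v = false` is type A, `v = true` is type B. -/
theorem exists_phi (hy : h.y ≠ 1) : ∃ (v : Bool) (φ : (T10 v).G →* G), Var h true v ∧
    Md h φ ((T10 v).el 1) ((T10 v).el 2) ((T10 v).el 4) ((T10 v).el 8) ((T10 v).el 16) ((T10 v).el 32)
      ((T10 v).el 64) ((T10 v).el 128) ((T10 v).el 256) ((T10 v).el 512) := by
  obtain ⟨i, v, hv, hi⟩ := exists_var h
  obtain rfl := hi hy
  have r := rel10 h hy hv
  have e := fun i hi => lift_el r i hi
  exact ⟨v, _, hv, inj10 h hy hv, by rw [Pc.range_lift, S_eq],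
    (e 0 (by simp)).trans (if_neg hy).symm, e 1 (by simp [xs9]), e 2 (by simp [xs9]),
    e 3 (by simp [xs9]), e 4 (by simp [xs9]), e 5 (by simp [xs9]), e 6 (by simp [xs9]),
    e 7 (by simp [xs9]), e 8 (by simp [xs9]), e 9 (by simp [xs9])⟩

/-- The model for `y = 1`. -/
theorem exists_phi9 (hy : h.y = 1) : ∃ (i v : Bool) (φ : (T9 i v).G →* G),
    Md h φ 1 ((T9 i v).el 1) ((T9 i v).el 2) ((T9 i v).el 4) ((T9 i v).el 8) ((T9 i v).el 16)
      ((T9 i v).el 32) ((T9 i v).el 64) ((T9 i v).el 128) ((T9 i v).el 256) := by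
  obtain ⟨i, v, hv, -⟩ := exists_var h
  have r := rel9 h hv
  have e := fun i hi => lift_el r i hi
  refine ⟨i, v, _, inj9 h hv, ?_, (map_one _).trans (if_pos hy).symm, e 0 (by simp [xs9]),
    e 1 (by simp [xs9]), e 2 (by simp [xs9]), e 3 (by simp [xs9]), e 4 (by simp [xs9]),
    e 5 (by simp [xs9]), e 6 (by simp [xs9]), e 7 (by simp [xs9]), e 8 (by simp [xs9])⟩
  rw [Pc.range_lift, S_eq, hy, one_mul]
  congr 1; ext g; simp only [xs9, Set.mem_ofPred_eq, List.mem_cons]; tauto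

variable {h} {M : Type} [Group M] {φ : M →* G} {κ q p b t m k f a z : M}

theorem Md.mem (d : Md h φ κ q p b t m k f a z) (x : M) : φ x ∈ h.S := d.ran ▸ ⟨x, rfl⟩

theorem Md.ex (d : Md h φ κ q p b t m k f a z) {u : G} (hu : u ∈ h.S) : ∃ x, φ x = u := by
  rwa [← d.ran] at hu

theorem Md.y (d : Md h φ κ q p b t m k f a z) (hy : h.y ≠ 1) : φ (κ * t) = h.y := by
  rw [map_mul, d.κ, d.t, TT.κ, if_neg hy, mul_assoc, h.tt, mul_one]

theorem Md.card (d : Md h φ κ q p b t m k f a z) : Nat.card h.S = Nat.card M := by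
  rw [← d.ran]; exact (Nat.card_congr (MonoidHom.ofInjective d.inj).toEquiv).symm

theorem Md.V (d : Md h φ κ q p b t m k f a z) : h.V1 = closure {g | g ∈ [z, a].map φ} := by
  simp only [List.map, d.z, d.a, Pre.V1]; congr 1; ext; simp

theorem Md.W (d : Md h φ κ q p b t m k f a z) : h.W1 = closure {g | g ∈ [z, f, a].map φ} := by
  simp only [List.map, d.z, d.a, d.f, Pre.W1]; congr 1; ext; simp

theorem Md.K (d : Md h φ κ q p b t m k f a z) :
    h.K = closure {g | g ∈ [z, f, a, k, m, κ].map φ} := by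
  simp only [List.map, d.z, d.a, d.f, d.k, d.m, d.κ, TT.K]; congr 1; ext; simp

theorem Md.K00 (d : Md h φ κ q p b t m k f a z) :
    h.K00 = closure {g | g ∈ [z, f, a, k, m].map φ} := by
  simp only [List.map, d.z, d.a, d.f, d.k, d.m, H3.K00]; congr 1; ext; simp

theorem Md.B0 (d : Md h φ κ q p b t m k f a z) (hy : h.y ≠ 1) :
    h.B0 = closure {g | g ∈ [z, f, a, k, m, κ * t, p * t, q * t].map φ} := by
  simp only [List.map, d.z, d.a, d.f, d.k, d.m, d.y hy, map_mul φ p, map_mul φ q, d.p, d.q, d.t,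
    H3.B0]
  congr 1; ext; simp

theorem Md.S0 (d : Md h φ κ q p b t m k f a z) (hy : h.y ≠ 1) :
    h.S0 = closure {g | g ∈ [z, f, a, k, m, κ * t, p * t, q * t, b].map φ} := by
  rw [H3.S0, d.B0 hy, zpowers_eq_closure, ← Subgroup.closure_union, ← d.b]
  congr 1; ext; simp only [List.map, Set.mem_union, Set.mem_ofPred_eq, List.mem_cons,
    Set.mem_singleton_iff, List.not_mem_nil]; tauto

theorem Md.R (d : Md h φ κ q p b t m k f a z) :
    h.R = closure {g | g ∈ [z, f, a, k, m, κ, t].map φ} := by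
  simp only [List.map, d.z, d.a, d.f, d.k, d.m, d.κ, d.t, TT.R]
  have m : ∀ {g} {s : Set G}, g ∈ s → g ∈ closure s := fun a => subset_closure a
  refine le_antisymm ((closure_le _).2 ?_) ((closure_le _).2 ?_)
  · rintro _ (rfl | rfl | rfl | rfl | rfl | rfl | rfl)
    exacts [m (by simp), m (by simp), m (by simp),
      (mul_mem_cancel_right (m (g := h.t) (by simp))).1 (m (by simp)), by
        by_cases hy : h.y = 1
        · rw [hy]; exact one_mem _
        · exact (mul_mem_cancel_right (m (g := h.t) (by simp))).1 (m (by simp [TT.κ, hy])),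
      m (by simp), m (by simp)]
  · intro g hg
    simp only [Set.mem_ofPred_eq, List.mem_cons, List.not_mem_nil, or_false] at hg
    rcases hg with rfl | rfl | rfl | rfl | rfl | rfl | rfl
    exacts [m (by simp), m (by simp), m (by simp), mul_mem (m (by simp)) (m (by simp)), m (by simp), by
      rw [TT.κ]; split_ifs
      exacts [one_mem _, mul_mem (m (by simp)) (m (by simp))], m (by simp)]

theorem Md.N2 (d : Md h φ κ q p b t m k f a z) :
    h.N2 = closure {g | g ∈ [z, f, a, k, m, κ, t, p, q].map φ} := by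
  rw [H3.N2, d.R, ← Subgroup.closure_union, ← d.p, ← d.q]
  congr 1; ext; simp only [List.map, Set.mem_union, Set.mem_ofPred_eq, List.mem_cons,
    Set.mem_singleton_iff, List.not_mem_nil, Set.mem_insert_iff]; tauto

end H3

end Cfsg.Agent.H13.LT
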