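import Mathlib
import Cfsg.Agent.H13.M12E
import Cfsg.Agent.H13.M11Rec
import Cfsg.Agent.H13.OrdCrit
import Cfsg.Agent.H74.Mathieu

/-! Simple groups of order `95040` are isomorphic to `M₁₂`. -/

namespace Cfsg.Agent.H13.M12

open Cfsg Cfsg.Agent.H13.M11 Cfsg.Agent.H13.ChTools MulAction

/-- the candidates for an involution commuting with `y0` and moving `none` -/
def cf (α β : Pt) : Pt → Pt
  | none => some 0
  | some z => if z = 0 then none else if z ^ 5 = 1 then ml z α else ml (6 * z) β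

/-- words in `C` and `x0` -/
def wd (C : Pt → Pt) (l : List (ZMod 11)) : Pt → Pt := l.foldr (fun k f => C ∘ sh k ∘ f) id

theorem cf_cases : ∀ α β : Pt, (∀ p, cf α β (cf α β p) = p) →
    (∃ l ∈ [[1, 7], [1, 1, 4], [1, 3]], ∃ p, (wd (cf α β) l)^[7] p = p ∧ wd (cf α β) l p ≠ p) ∨
      (α = some 7 ∧ β = some 5) ∨ (α = some 8 ∧ β = some 3) := by
  decide +kernel

theorem eq_cf {W : Pt → Pt} (h0 : W none = some 0) (h1 : W (some 0) = none)
    (h : ∀ p, W (ml 3 p) = ml 3 (W p)) : W = cf (W (some 1)) (W (some 2)) := by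
  have hi : ∀ (i : ℕ) p, W (ml (3 ^ i) p) = ml (3 ^ i) (W p) := fun i p => by
    have e : ∀ (c : ZMod 11) q, ml (c * 3) q = ml 3 (ml c q) := by decide +kernel
    have e1 : ∀ q, ml 1 q = q := by decide +kernel
    induction i with
    | zero => rw [pow_zero, e1, e1]
    | succ i ih => rw [pow_succ, e, e, h, ih]
  have key : ∀ z : ZMod 11, z = 0 ∨ ∃ i ∈ Finset.range 5,
      (z ≠ 0 ∧ z ^ 5 = 1 ∧ z = 3 ^ i ∧ some z = ml (3 ^ i) (some 1)) ∨
      (z ≠ 0 ∧ z ^ 5 ≠ 1 ∧ 6 * z = 3 ^ i ∧ some z = ml (3 ^ i) (some 2)) := by decide +kernel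
  funext p
  rcases p with _ | z
  · exact h0
  rcases key z with rfl | ⟨i, -, ⟨a, b, c, d⟩ | ⟨a, b, c, d⟩⟩
  · exact h1
  · rw [cf, if_neg a, if_pos b, d, hi, ← c]
  · rw [cf, if_neg a, if_neg b, d, hi, ← c]

/-- the involution of the model -/
def c0 : Equiv.Perm Pt :=
  ⟨cf (some 7) (some 5), cf (some 7) (some 5), by decide +kernel, by decide +kernel⟩

/-- the model -/
def Γ : Subgroup (Equiv.Perm Pt) := Subgroup.closure {x0, y0, c0}

theorem dvd_card_Γ : 15840 ∣ Nat.card Γ := by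
  have mx : x0 ∈ Γ := Subgroup.subset_closure (by simp)
  have my : y0 ∈ Γ := Subgroup.subset_closure (by simp)
  have mc : c0 ∈ Γ := Subgroup.subset_closure (by simp)
  have hsh : ∀ q : Pt, q = none ∨ ∃ k ∈ Finset.range 11, (x0 ^ k * c0) none = q := by
    decide +kernel
  have htr : orbit Γ (none : Pt) = Set.univ := Set.eq_univ_of_forall fun q => by
    rcases hsh q with rfl | ⟨k, -, h⟩
    · exact mem_orbit_self _
    · exact ⟨⟨_, Γ.mul_mem (Γ.pow_mem mx k) mc⟩, h⟩
  have h1 := (stabilizer Γ (none : Pt)).card_mul_index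
  rw [index_stabilizer, htr, Set.ncard_univ, Nat.card_eq_fintype_card (α := Pt)] at h1
  have hd : ∀ g ∈ Γ, g none = none → orderOf g ∣ Nat.card (stabilizer Γ (none : Pt)) :=
    fun g hg h => by
      have := Subgroup.orderOf_dvd_natCard (stabilizer Γ (none : Pt)) (x := ⟨g, hg⟩) h
      rwa [← Subgroup.orderOf_coe] at this
  have mW : c0 * x0 * c0 * x0 ^ 3 * c0 * x0 ∈ Γ :=
    mul_mem (mul_mem (mul_mem (mul_mem (mul_mem mc mx) mc) (pow_mem mx 3)) mc) mx
  have d11 := hd _ mx rfl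
  have d5 := hd _ my rfl
  have d8 := hd _ (mul_mem (pow_mem mx 6) mW) (by decide +kernel)
  have d3 := hd _ (pow_mem (mul_mem mx mW) 2) (by decide +kernel)
  have := fact11
  have := fact5
  rw [orderOf_eq_prime (p := 11) (by decide +kernel) (by decide +kernel)] at d11
  rw [orderOf_eq_prime (p := 5) (by decide +kernel) (by decide +kernel)] at d5
  rw [orderOf_eq_prime (p := 3) (by decide +kernel) (by decide +kernel)] at d3
  rw [orderOf_eq_prime_pow (p := 2) (n := 2) (by decide +kernel) (by decide +kernel)] at d8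
  rw [← h1]
  change 15840 ∣ _ * 12
  omega

theorem fixed_of_iterate' {α : Type*} {g : Equiv.Perm α} {p : α} (h : g ^ 95040 = 1)
    (h7 : g^[7] p = p) : g p = p := by
  have h1 : g ^ 7 ∈ stabilizer (Equiv.Perm α) p := by
    rw [mem_stabilizer_iff, Equiv.Perm.smul_def, Equiv.Perm.coe_pow]; exact h7
  have h2 := Subgroup.pow_mem _ h1 81463
  rw [← pow_mul, show 7 * 81463 = 95040 * 6 + 1 from rfl, pow_succ, pow_mul, h, one_pow,
    one_mul] at h2
  exact h2

variable {G : Type*} [Group G] [Fintype G] [IsSimpleGroup G]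

/-- a simple group of order `95040` is isomorphic to the model `Γ` -/
theorem nonempty_equiv_model (hG : Nat.card G = 95040) : Nonempty (G ≃* Γ) := by
  obtain ⟨S⟩ := nonempty_S2 hG
  obtain ⟨H, hH, hx, hy, hc⟩ := S.exists_index12 hG
  obtain ⟨φ, hφ, hφx, hφy, hφH⟩ := exists_hom hH hx hy S.ox S.oy S.hxy
  have hrel : ∀ p, φ S.c (ml 3 p) = ml 3 (φ S.c p) := fun p => by
    have h1 : φ S.c * y0 = y0 * φ S.c := by rw [← hφy, ← map_mul, ← map_mul, (S.comm S.hy).eq]
    exact congrArg (fun σ : Equiv.Perm Pt => σ p) h1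
  have hfix : ∀ q : Pt, q = ml 3 q → q = none ∨ q = some 0 := by decide +kernel
  have h0 : φ S.c none = some 0 :=
    (hfix _ (hrel none)).resolve_left fun h => hc 1 (by simpa using hφH _ h)
  have h1 : φ S.c (some 0) = none :=
    (hfix _ (hrel (some 0))).resolve_right fun h => by
      have := (φ S.c).injective (h.trans h0.symm); cases this
  have hW := eq_cf h0 h1 hrel
  have hcc : ∀ p, φ S.c (φ S.c p) = p := fun p => by
    rw [← Equiv.Perm.mul_apply, ← map_mul, ← sq, S.c2, map_one]; rfl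
  obtain ⟨σ, hσ, hσx, hσy⟩ : ∃ σ : Equiv.Perm Pt, σ * φ S.c * σ⁻¹ = c0 ∧
      (σ * x0 * σ⁻¹ = x0 ∨ σ * x0 * σ⁻¹ = x0⁻¹) ∧ σ * y0 * σ⁻¹ = y0 := by
    rcases cf_cases _ _ (hW ▸ hcc) with ⟨l, -, p, h7, hne⟩ | ⟨ha, hb⟩ | ⟨ha, hb⟩
    · exfalso
      have hsh : ∀ k : ZMod 11, ∀ q, (x0 ^ k.val) q = sh k q := by decide +kernel
      have e : ∀ l : List (ZMod 11), ∃ g, wd (φ S.c) l = φ g := fun l => by
        induction l with
        | nil => exact ⟨1, by rw [map_one]; rfl⟩
        | cons k l ih =>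
          obtain ⟨g, hg⟩ := ih
          refine ⟨S.c * S.x ^ k.val * g, funext fun q => ?_⟩
          rw [map_mul, map_mul, map_pow, hφx, Equiv.Perm.mul_apply, Equiv.Perm.mul_apply, hsh, ← hg]
          rfl
      obtain ⟨g, hg⟩ := e l
      rw [← hW, hg] at h7 hne
      refine hne (fixed_of_iterate' ?_ h7)
      rw [← map_pow, ← hG, pow_card_eq_one', map_one]
    · rw [ha, hb] at hW
      exact ⟨1, Equiv.ext fun q => by simpa [c0] using congrFun hW q, Or.inl (by simp), by simp⟩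
    · rw [ha, hb] at hW
      refine ⟨n0, Equiv.ext fun q => ?_, Or.inr (by decide +kernel), by decide +kernel⟩
      have e : ∀ q, n0 (cf (some 8) (some 3) (n0⁻¹ q)) = c0 q := by decide +kernel
      rw [← e, ← hW]; rfl
  let ψ : G →* Equiv.Perm Pt := (MulAut.conj σ).toMonoidHom.comp φ
  have hψ : Function.Injective ψ := (MulAut.conj σ).injective.comp hφ
  have ψx : ψ S.x = σ * x0 * σ⁻¹ := by rw [← hφx]; rfl
  have ψy : ψ S.y = y0 := by rw [← hσy, ← hφy]; rfl
  have ψc : ψ S.c = c0 := by rw [← hσ]; rfl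
  have hle : Γ ≤ ψ.range := (Subgroup.closure_le _).2 (by
    rintro _ (rfl | rfl | rfl)
    · rcases hσx with h | h
      · exact ⟨S.x, ψx.trans h⟩
      · exact ⟨S.x⁻¹, by rw [map_inv, ψx, h, inv_inv]⟩
    · exact ⟨S.y, ψy⟩
    · exact ⟨S.c, ψc⟩)
  have htop : Γ.comap ψ = ⊤ := by
    by_contra hne
    have h2 := add_le_index hne (p := 5) (q := 2) (by norm_num) (by norm_num) (by norm_num)
      (S.o10 hG S.hy S.y1)
    have h3 := (Γ.comap ψ).card_mul_index
    obtain ⟨m, hm⟩ := dvd_card_Γ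
    rw [← Subgroup.card_map_of_injective hψ, Subgroup.map_comap_eq_self hle, hm, hG] at h3
    rcases m with _ | m
    · omega
    · nlinarith
  have hr : ψ.range = Γ := le_antisymm (by
    rw [MonoidHom.range_eq_map, Subgroup.map_le_iff_le_comap, htop]) hle
  exact ⟨(MonoidHom.ofInjective hψ).trans (MulEquiv.subgroupCongr hr)⟩

end Cfsg.Agent.H13.M12

namespace Cfsg.Agent.H13

/-- any two simple groups of order `95040` are isomorphic -/
theorem isM12_unique {G K : Type*} [Group G] [Group K] (hG : IsM12 G) (hK : IsM12 K) :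
    Nonempty (G ≃* K) := by
  have := Nat.finite_of_card_ne_zero (α := G) (by rw [hG.2]; norm_num)
  have := Nat.finite_of_card_ne_zero (α := K) (by rw [hK.2]; norm_num)
  have := Fintype.ofFinite G
  have := Fintype.ofFinite K
  have := hG.1
  have := hK.1
  obtain ⟨e⟩ := M12.nonempty_equiv_model hG.2
  obtain ⟨e'⟩ := M12.nonempty_equiv_model hK.2
  exact ⟨e.trans e'.symm⟩

theorem isoM12_of_isM12 {G : Type*} [Group G] (hG : IsM12 G) : Spor.IsoM12 G :=
  isM12_unique hG ⟨H74.simple_M12, H74.card_M12⟩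

end Cfsg.Agent.H13
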