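import Cfsg.Agent.H42.N7Defs
import Cfsg.Agent.H13.LTEq

/-! Standard subgroups of type `A₇`: the case that `T` is Sylow in `G` and `|R| ≥ 4`. -/

set_option autoImplicit false
set_option linter.unusedSectionVars false

namespace Cfsg.Agent.H13.N7Eq

open Subgroup Cfsg.Agent.H85 Cfsg.Agent.H93.LT Cfsg.Agent.H10.LT Cfsg.Agent.H13.LTEq

universe u

variable {G : Type u} [Group G]

local notation "N[" A "]" => Subgroup.normalizer (SetLike.coe A)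
local notation "C1[" x "]" => Subgroup.centralizer (Singleton.singleton x : Set _)

theorem d8_pair {D : Subgroup G} {a b z : G} (h : D8 D a b z) {x y : G} (hx : x ∈ D) (hy : y ∈ D)
    (x2 : x * x = 1) (y2 : y * y = 1) (ne : x * y ≠ y * x) : ∃ d ∈ D, cn x d = a ∨ cn y d = a := by
  obtain ⟨ψ, hi, rfl, rfl, rfl, rfl⟩ := h
  obtain ⟨x, rfl⟩ := hx
  obtain ⟨y, rfl⟩ := hy
  simp only [Ne, ← map_mul, hi.eq_iff, map_eq_one_iff ψ hi] at x2 y2 ne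
  obtain ⟨d, hd⟩ := (by decide : ∀ x y : DihedralGroup 4, x * x = 1 → y * y = 1 → ¬ x * y = y * x →
    ∃ d, d⁻¹ * x * d = .sr 0 ∨ d⁻¹ * y * d = .sr 0) x y x2 y2 ne
  exact ⟨_, ⟨d, rfl⟩, by simpa only [cn, ← map_mul, ← map_inv, hi.eq_iff] using hd⟩

variable [Finite G] {h : St G}

theorem burn (H : Hy h) {w g : G} (c : ∀ y ∈ h.T, w * y = y * w) (e : cn w g = h.z) : w = h.z := by
  have s : IsSyl 2 h.T C1[h.z] := H.s.of_le (fun y hy => c1.2 (zT hy).symm) le_top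
  obtain ⟨n, hn, k⟩ := ((H.s.cj_of_mem (g := g⁻¹) trivial).of_le (K := C1[h.z]) (fun y hy => c1.2 (by
    have := cn_comm (c _ (mem_cj.1 hy)) g
    rw [e, show cn (g⁻¹⁻¹ * y * g⁻¹) g = y by simp only [cn]; group] at this
    exact this.symm)) le_top).exists_cj_eq s
  rw [← cj_mul, cj_eq_iff_mem_normalizer] at k
  have f := (h.d8.adj (u := n * g⁻¹) (h.DA ▸ le_normalizer_inf (H := N[h.T] ⊓ h.N) inf_le_left
    inf_le_right ⟨k, H.E0 k⟩)).1
  rw [cn_cn, cn_of (c1.1 hn).symm] at f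
  rw [← cn_inv e]
  simpa [cn] using f

theorem cK {c v : G} (hc : c ∈ h.C0) (hv : v ∈ h.C0) (k : v ∉ h.K) (k' : v * h.z ∉ h.K) :
    c ∈ h.K ∨ c * h.z ∈ h.K ∨ c * v ∈ h.K ∨ c * (v * h.z) ∈ h.K := by
  by_contra! n
  obtain ⟨n1, n2, n3, n4⟩ := n
  rcases h.hr.fix c hc with e | e <;> rcases h.hr.fix v hv with f | f
  · exact n3 (mulF hc hv e f n1 k)
  · exact n4 (mulF hc (mul_mem hv zC) e f n1 k')
  · exact n4 (by
      rw [← zT hv.1, ← mul_assoc]; exact mulF (mul_mem hc zC) hv e f n2 k)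
  · exact n3 (zz' hv ▸ mulF (mul_mem hc zC) (mul_mem hv zC) e f n2 k')

theorem side2 {d c : G} (hd : d = h.a ∨ d = h.a * h.z) (hc : c ∈ h.C0) :
    (∃ ρ, cn (c * h.z) ρ = d * c) ∨ ∃ ρ, cn c ρ = d * c := by
  have key : ∀ d c : G, d = h.a ∨ d = h.a * h.z → c ∈ h.C0 → h.r * c = c * h.r →
      ∃ ρ, cn (c * h.z) ρ = d * c := fun d c hd hc e => by
    rw [← zT hc.1]
    rcases hd with rfl | rfl
    · exact ⟨_, by rw [cn_mul, h.hr.zr, cn_of e.symm]⟩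
    · exact ⟨h.r * h.r, by
        rw [cn_mul, cn_cn, h.hr.zr, h.hr.ar, cn_cn, cn_of e.symm, cn_of e.symm]⟩
  rcases h.hr.fix c hc with e | e
  · exact Or.inl (key d c hd hc e)
  · have := key (d * h.z) (c * h.z) (by
      rcases hd with rfl | rfl
      · exact Or.inr rfl
      · exact Or.inl (by rw [mul_assoc, z2, mul_one])) (mul_mem hc zC) e
    rw [zz' hc, mul_assoc, z2, mul_one] at this
    exact Or.inr this

/-- an involution commuting with `v` and conjugate to `z` lies in `D` -/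
theorem inD (h0 : h.T ≤ h.T0) {v x g : G} (hv : v ∈ h.C0)
    (F : ∀ c ∈ h.C0, c * v = v * c → ∀ g, cn c g = h.z → c = h.z)
    (hx : x ∈ h.T) (c : x * v = v * x) (e : cn x g = h.z) : x ∈ h.D := by
  have x2 : x * x = 1 := by rw [← cn_inv e, conj_mul, z2]; simp
  obtain ⟨d, hd, w, hw, rfl⟩ := memT0.1 (h0 hx)
  have cw : w * v = v * w := by
    rwa [mul_assoc, ← mul_assoc v, ← hv.2 d hd, mul_assoc, mul_right_inj] at c
  have k0 : d ∈ h.C0 → d * w ∈ h.D := fun k => F _ (mul_mem k hw) c g e ▸ zD h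
  have k1 : ((∃ ρ, cn (w * h.z) ρ = d * w) ∨ ∃ ρ, cn w ρ = d * w) → d * w ∈ h.D := by
    rintro (⟨ρ, f⟩ | ⟨ρ, f⟩)
    · have := F _ (mul_mem hw zC) (by rw [mul_assoc, zT hv.1, ← mul_assoc, cw, mul_assoc]) (ρ * g)
        (by rw [cn_cn, f, e])
      rw [mul_eq_right.1 this, mul_one]
      exact hd
    · exact mul_mem hd (F _ hw cw (ρ * g) (by rw [cn_cn, f, e]) ▸ zD h)
  rcases h.d8.inv hd (dsq hd hw x2) with f | f | f | f | f | f
  · exact k0 (f ▸ one_mem _)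
  · exact k0 (f ▸ zC)
  · exact k1 (side2 (Or.inl f) hw)
  · exact k1 (side2 (Or.inr f) hw)
  · exact k1 (side2 (h := h.symm) (Or.inl f) hw)
  · exact k1 (side2 (h := h.symm) (Or.inr f) hw)

theorem last (H : Hy h) {t v γ : G} (tR : t ∈ h.R) (t2 : t * t = 1) (tc : ∀ y ∈ h.T, t * y = y * t)
    (hv : v ∈ h.C0) (kv : KI h v) (ev : cn t γ = v) (ha : cn h.a γ ∈ h.D) (hb : cn h.b γ ∈ h.D)
    (e : h.r * (v * h.z) = v * h.z * h.r) : False := by
  have k1 : KI h (v * h.a) := by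
    have := (kv.cj' h.r).cj' h.b
    rwa [show cn v h.r = v * h.z * h.a by
        rw [← h.hr.zr, ← cn_of e.symm, ← cn_mul, mul_assoc, z2, mul_one],
      cn_mul, cn_mul, cn_of (hv.2 _ h.d8.symm.aD).symm, cn_of (h.d8.zc h.d8.symm.aD),
      h.d8.rel.2.2.2.1, ← h.d8.zc h.d8.aD, mul_assoc, ← mul_assoc h.z, z2, one_mul] at this
  have k2 : ∀ x d, d ∈ h.D → cn (cn x γ) d = h.a → KI h (t * x) := fun x d hd f =>
    KI.cj (γ * d) (by rwa [cn_cn, cn_mul t, ev, cn_mul v, f, cn_of (hv.2 d hd).symm])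
  obtain ⟨d, hd, f | f⟩ := d8_pair h.d8 ha hb (cn_sq h.d8.rel.1 γ) (cn_sq h.d8.symm.rel.1 γ) (by
    rw [← cn_mul, ← cn_mul]; simpa [cn] using h.d8.rel.2.2.2.2.2.2.2)
  · exact H.ktz tR t2 tc (KI.cj h.r (by
      rw [cn_mul, h.hr.zr, cn_of (tR.2 _ h.hr.mem).symm]; exact k2 _ d hd f))
  · exact H.ktz tR t2 tc (KI.cj h.s (by
      rw [cn_mul, h.hs.zr, cn_of (tR.2 _ h.hs.mem).symm]; exact k2 _ d hd f))

theorem main (H : Hy h) (h0 : h.T ≤ h.T0) (h4 : 4 ≤ Nat.card h.R) (hn : ¬ h.A.Normal)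
    (hc : h.A ≤ normalClosure (h.K : Set G)) : False := by
  obtain ⟨t, tR, t1, t2, tc⟩ := exists_t h4
  obtain ⟨g, hg, v, hv, v1, v2, s⟩ := H.E2 tR.2 t1 t2 hn hc
  have s0 := s.cj g⁻¹
  rw [cj_inf g⁻¹ h.N, cj_inv_cj, inf_comm (cj g⁻¹ h.N)] at s0
  obtain ⟨n, nN, e1, s1⟩ := nrm s0
  rw [← cj_mul] at e1
  have eK : ∀ x, x ∈ h.K → cn x (n * g⁻¹) ∈ cj g h.K := fun x hx => mem_cj.2 (by
    rw [show g⁻¹ * cn x (n * g⁻¹) * g = cn x n by simp only [cn]; group]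
    exact cn_mem (NK h nN) hx)
  have g1 : n * g⁻¹ ∉ h.N := mt (h.N.mul_mem_cancel_left nN).1 (mt inv_mem_iff.1 hg)
  generalize n * g⁻¹ = γ at e1 s1 eK g1
  have tN : t ∈ cj g h.N := ti' v2 v1 hv.2 (tc v hv.1).symm
  have mir : ∀ x ∈ h.T ⊓ cj g h.N, x ∈ h.K → γ * x * γ⁻¹ ∈ h.T ⊓ cj γ h.K := fun x hx k =>
    ⟨(e1.le (conj_mem_cj hx)).1, conj_mem_cj k⟩
  have mt' := mir t ⟨tR.1, tN⟩ tR.2
  have l : ∀ ρ ∈ h.R, ρ * v = v * ρ → ρ = 1 ∨ ρ = t := fun ρ hρ e => or_iff_not_imp_left.2 fun ρ1 => by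
    simpa using H.E3 g1 s1 (mir ρ ⟨hρ.1, ti' v2 v1 hv.2 e.symm⟩ hρ.2) mt' (by simpa using ρ1)
      (by simpa using t1)
  have kv : KI h v := ⟨g, mem_cj.1 hv.2⟩
  have kt : KI h t := KI.of tR.2
  have vC := H.stepB (stepA s v2 v1 hv.2 (h0 hv.1)) hv
  have zv := zT hv.1
  have w2 : γ * t * γ⁻¹ * (γ * t * γ⁻¹) = 1 := by simp [conj_mul, t2]
  have w1 : γ * t * γ⁻¹ ≠ 1 := by simpa using t1
  have ev : cn t γ = v := H.E3 hg s
    ⟨(mem_cj.1 (e1.ge ⟨tR.1, ti' w2 w1 mt'.2 (tc _ mt'.1).symm⟩)).1, eK t tR.2⟩ hv (cn_ne t1 γ) v1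
  have back : ∀ x ∈ h.D, cn x γ ∈ h.T ∧ cn x γ * v = v * cn x γ := fun x hx =>
    ⟨(mem_cj.1 (e1.ge ⟨DT h hx, stepA s1 w2 w1 mt'.2 (h0 mt'.1) hx⟩)).1,
      ev ▸ cn_comm (tc x (DT h hx)).symm γ⟩
  have vK : v ∉ h.K := fun k => v1 (KK hg hv.1 k hv.2)
  have vz : v * h.z ∉ h.K := fun k => by
    have f : v = v * h.z * h.z := by rw [mul_assoc, z2, mul_one]
    rcases l _ ⟨(mul_mem vC zC).1, k⟩ (by rw [mul_assoc, zv]) with e | e <;> rw [e] at f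
    · exact H.kz (by rwa [f, one_mul] at kv)
    · exact H.ktz tR t2 tc (f ▸ kv)
  have nK : ∀ c g, KI h c → cn c g ≠ h.z := fun c g k e => H.kz (e ▸ k.cj' g)
  have n1 : ∀ g, cn 1 g ≠ h.z := fun g => nK 1 g (KI.of (one_mem _))
  have ntz : ∀ g, cn (t * h.z) g ≠ h.z := fun g e => t1 (mul_eq_right.1 (burn H
    (fun y hy => by rw [mul_assoc, zT hy, ← mul_assoc, tc y hy, mul_assoc]) e))
  have ez : cn h.z γ = h.z := by
    have ab := back _ (mul_mem h.d8.aD h.d8.symm.aD)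
    have f : cn h.z γ = cn (h.a * h.b) γ * cn (h.a * h.b) γ := by rw [← cn_mul, h.d8.rel.2.2.2.2.1]
    have f' : cn (cn h.z γ) γ⁻¹ = h.z := by simp only [cn]; group
    obtain ⟨d, hd, c, hc, e⟩ := memT0.1 (h0 ab.1)
    rw [← e] at f ab
    have cv : c * v = v * c := by
      have := ab.2
      rwa [mul_assoc, ← mul_assoc v, ← vC.2 d hd, mul_assoc, mul_right_inj] at this
    rw [show d * c * (d * c) = d * d * (c * c) by
      rw [mul_assoc d c, ← mul_assoc c d, ← hc.2 d hd, mul_assoc, mul_assoc]] at f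
    rcases d8_sq h.d8 hd with e1 | e1 <;>
      rcases l _ ⟨(mul_mem hc hc).1, sqK hc⟩ (by rw [mul_assoc, cv, ← mul_assoc, cv, mul_assoc])
        with e2 | e2 <;> rw [e1, e2] at f
    · exact absurd f' (by rw [f, mul_one]; exact n1 _)
    · exact absurd f' (by rw [f, one_mul]; exact nK _ _ kt)
    · rw [f, mul_one]
    · exact absurd f' (by rw [f, zT tR.1]; exact ntz _)
  obtain ⟨ρ, hρ, eρ⟩ := vt h4 hv.1 l
  have nvz : ∀ g, cn (v * h.z) g ≠ h.z := fun g e => ntz (γ * g) (by rwa [cn_cn, cn_mul t, ev, ez])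
  have F : ∀ c ∈ h.C0, c * v = v * c → ∀ g, cn c g = h.z → c = h.z := fun c hc cv g e => by
    have m : ∀ {y w : G}, y * y = 1 → c * y = w → c = w * y := fun y2 f => by
      rw [← f, mul_assoc, y2, mul_one]
    have cz : c * h.z * v = v * (c * h.z) := by rw [mul_assoc, zv, ← mul_assoc, cv, mul_assoc]
    rcases cK hc vC vK vz with k | k | k | k
    · exact absurd e (nK _ _ (KI.of k))
    · rcases l _ ⟨(mul_mem hc zC).1, k⟩ cz with f | f
      · rw [m (z2 h) f, one_mul]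
      · exact absurd e (m (z2 h) f ▸ ntz g)
    · rcases l _ ⟨(mul_mem hc vC).1, k⟩ (by rw [← mul_assoc, cv]) with f | f
      · exact absurd e (nK _ _ (by rwa [m v2 f, one_mul]))
      · exact absurd e (nK _ _ (by rw [m v2 f, tc v hv.1, ← eρ]; exact kv.cj' ρ))
    · have y2 : v * h.z * (v * h.z) = 1 := zz' vC ▸ v2
      rcases l _ ⟨(mul_mem hc (mul_mem vC zC)).1, k⟩
        (by rw [← mul_assoc c, cv, mul_assoc v c, mul_assoc v, cz]) with f | f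
      · exact absurd e (by rw [m y2 f, one_mul]; exact nvz g)
      · refine absurd (nvz (ρ * g)) (not_not.2 ?_)
        rw [cn_cn, cn_mul v, eρ, cn_of (zT hρ.1), ← tc v hv.1, mul_assoc, ← m y2 f, e]
  have ha : cn h.a γ ∈ h.D := inD h0 vC F (back _ h.d8.aD).1 (back _ h.d8.aD).2
    (g := γ⁻¹ * h.r⁻¹) (by rw [← h.hr.zr]; simp only [cn]; group)
  have hb : cn h.b γ ∈ h.D := inD h0 vC F (back _ h.d8.symm.aD).1 (back _ h.d8.symm.aD).2
    (g := γ⁻¹ * h.s⁻¹) (by rw [← h.hs.zr]; simp only [cn]; group)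
  rcases h.hr.fix v vC with e | e
  · rcases h.hs.fix v vC with f | f
    · exact vK (h.iso v vC e f)
    · exact last (h := h.symm) ⟨H.s, H.nz⟩ tR t2 tc vC kv ev hb ha f
  · exact last H tR t2 tc vC kv ev ha hb e

theorem eq7 (nz : NzStmt.{u}) (t0 : H42.N7.T0Stmt.{u}) : H42.N7.Eq7Stmt.{u} :=
  fun G _ _ h q h4 hs hc => by_contra fun hn => main ⟨hs, nz G h h4⟩ (t0 G h q) h4 hn hc

end Cfsg.Agent.H13.N7Eq
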