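import Cfsg.Agent.H95.ParDefs
import Cfsg.Agent.H44.ONM

/-! Elements of the O'Nan group around an element of order four. -/

set_option autoImplicit false
set_option maxRecDepth 100000

namespace Cfsg.Agent.H13.ParOX

open Subgroup Cfsg.Agent.H44 Cfsg.Agent.H95.Par
open scoped commutatorElement

/-- words for the elements and for their inverses -/
def W : List (List ℕ) := [[], [1, 6], [1, 3, 4, 3, 4], [1, 3, 4, 5, 4, 3, 2, 6, 5, 4, 3, 4, 5, 6, 2, 3, 4, 5], [4, 6, 2, 1, 3, 2, 4, 3, 4, 5, 4, 3, 4, 2, 3, 1, 2, 4], [4, 6, 2, 1, 3, 2, 4, 3, 4, 7, 5, 8, 4, 3, 4, 2, 3, 1, 2, 4], [7, 3, 7, 4], [4, 7, 4, 7], [7, 3, 4, 7], [2, 3, 4, 3, 2, 5], [1, 2, 3, 4, 3, 2, 1, 4, 5, 3, 4, 3, 4, 2], [2, 5, 4, 3, 4, 5, 2, 6, 4, 5, 4, 3], [1, 4, 5, 4, 3, 2, 6, 5, 4, 3, 4, 5, 6, 2, 3, 4, 5, 3], [1, 3, 4, 7, 5, 4, 3, 2, 6, 5, 4, 3, 4, 5, 6, 2, 3, 4, 5], [1, 7, 5, 4, 3, 2, 6, 5, 4, 3, 4, 5, 6, 2, 3, 4, 5,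 8], [6, 1], [4, 3, 4, 3, 1], [5, 4, 3, 2, 6, 5, 4, 3, 4, 5, 6, 2, 3, 4, 5, 4, 3, 1], [4, 2, 1, 3, 2, 4, 3, 4, 5, 4, 3, 4, 2, 3, 1, 2, 6, 4], [4, 2, 1, 3, 2, 4, 3, 4, 7, 5, 8, 4, 3, 4, 2, 3, 1, 2, 6, 4], [4, 8, 3, 8], [8, 4, 8, 4], [8, 4, 3, 8], [5, 2, 3, 4, 3, 2], [2, 4, 3, 4, 3, 5, 4, 1, 2, 3, 4, 3, 2, 1], [3, 4, 5, 4, 6, 2, 5, 4, 3, 4, 5, 2], [3, 5, 4, 3, 2, 6, 5, 4, 3, 4, 5, 6, 2, 3, 4, 5, 4, 1], [5, 4, 3, 2, 6, 5, 4, 3, 4, 5, 6, 2, 3, 4, 5, 8, 4, 3, 1], [7, 5, 4, 3, 2, 6, 5, 4, 3, 4, 5, 6, 2, 3, 4, 5, 8, 1]]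

/-- the relations -/
def R : List (List ℕ) := [[1, 15], [2, 16], [3, 17], [4, 18], [5, 19], [6, 20], [7, 21], [8, 22], [9, 23], [10, 24], [11, 25], [12, 26], [13, 27], [14, 28], [2, 2, 15], [1, 1], [3, 3, 3, 3, 3, 3, 3], [2, 3, 16, 17], [4, 1, 18, 15], [5, 1, 19, 15], [6, 1, 20, 15], [7, 1, 21, 15], [8, 1, 22, 15], [10, 3, 24, 17], [11, 3, 25, 17], [10, 11, 24, 25, 17], [4, 3, 18, 17, 17], [4, 4, 4], [5, 5, 5], [4, 5, 18, 19], [6, 4, 20, 19], [7, 4, 21, 19, 18], [8, 4, 22, 19, 18, 18], [12, 13, 14, 16], [12, 2, 26, 16], [13, 2, 27, 16], [14, 2, 28, 16], [12, 12, 12, 12, 12, 12, 12], [13, 13, 13, 13, 13], [14, 14, 14], [1, 9, 1, 23, 1, 9, 1, 23, 1, 9, 1, 23, 1, 9, 1, 23, 1, 9, 1, 23, 1, 9, 1, 23, 1, 9, 1, 23]]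

theorem cm {G : Type} [Group G] {a b : G} (h : a * (b * (a⁻¹ * b⁻¹)) = 1) : a * b = b * a := by
  rw [← mul_inv_eq_one, ← h]; group

theorem od {G : Type} [Group G] {a : G} {n : ℕ} (hn : Odd n) (h : a ^ n = 1) : Odd (orderOf a) :=
  hn.of_dvd_nat (orderOf_dvd_of_pow_eq_one h)

theorem key {G : Type} [Group G] (g : ℕ → G) (h : Sat g R) (n1 : ev g [1] ≠ 1) (n2 : ev g [3] ≠ 1)
    (n3 : ev g [1, 9, 1, 23] ≠ 1) : Nonempty (OD G 1) := by
  have : Fact (Nat.Prime 7) := ⟨by norm_num⟩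
  simp only [Sat, R, List.forall_mem_cons, ev_cons, ev_nil, mul_one] at h n1 n2 n3
  obtain ⟨i1, i2, i3, i4, i5, i6, i7, i8, i9, i10, i11, i12, i13, i14, h⟩ := h
  rw [eq_inv_of_mul_eq_one_right i9] at n3
  rw [eq_inv_of_mul_eq_one_right i1, eq_inv_of_mul_eq_one_right i2, eq_inv_of_mul_eq_one_right i3, eq_inv_of_mul_eq_one_right i4, eq_inv_of_mul_eq_one_right i5, eq_inv_of_mul_eq_one_right i6, eq_inv_of_mul_eq_one_right i7, eq_inv_of_mul_eq_one_right i8, eq_inv_of_mul_eq_one_right i9, eq_inv_of_mul_eq_one_right i10, eq_inv_of_mul_eq_one_right i11, eq_inv_of_mul_eq_one_right i12, eq_inv_of_mul_eq_one_right i13, eq_inv_of_mul_eq_one_right i14] at h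
  obtain ⟨uu, ss, y7, uy, hs, h's, k1, k2, k3, py, qy, pq, hy, h3, h'3, hh, e1, e2, e3, ux, c1, c2, c3,
    o1, o2, o3, hm, -⟩ := h
  have z : ∀ {a : G}, a = 1 → a ∈ zpowers (1 : G) := fun e => by rw [e]; exact one_mem _
  refine ⟨{
    s := g 1, u := g 2, y := g 3, h := g 4, h' := g 5, k1 := g 6, k2 := g 7, k3 := g 8, m := g 9
    x3 := one_pow 3, xu := by simp, xy := by simp, xh := by simp, xh' := by simp, xk1 := by simp
    xk2 := by simp, xk3 := by simp, uu := by rw [← mul_inv_eq_one, ← uu]; group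
    ss := ss, s1 := n1, oy := orderOf_eq_prime (by rw [← y7]; simp only [pow_succ, pow_zero, one_mul, mul_assoc]) n2, uy := cm uy, hs := cm hs
    h's := cm h's, k1s := cm k1, k2s := cm k2, k3s := cm k3, yc := ?_
    hy := by rw [← mul_inv_eq_one, ← hy]; group
    h3 := z (by rw [← h3]; simp only [pow_succ, pow_zero, one_mul, mul_assoc]), h'3 := z (by rw [← h'3]; simp only [pow_succ, pow_zero, one_mul, mul_assoc])
    hh' := z (by rw [← hh, commutatorElement_def]; group), e1 := z (by rw [← e1]; group)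
    e2 := z (by rw [← e2]; group), e3 := z (by rw [← e3]; group), uc := ?_, hm := ?_ }⟩
  · have e : ⁅g 10, g 11⁆ = g 3 := by rw [← mul_inv_eq_one, ← pq, commutatorElement_def]; group
    have k := commutator_mem_commutator (mem_centralizer_singleton_iff.2 (cm py))
      (mem_centralizer_singleton_iff.2 (cm qy))
    rwa [e] at k
  · have e : g 12 * g 13 * g 14 = g 2 := by rw [← mul_inv_eq_one, ← ux]; group
    refine (congrArg (· ∈ _) e).mp (mul_mem (mul_mem (subset_closure ⟨cm c1, by simp, od (n := 7) (by decide) (by rw [← o1]; simp only [pow_succ, pow_zero, one_mul, mul_assoc])⟩)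
      (subset_closure ⟨cm c2, by simp, od (n := 5) (by decide) (by rw [← o2]; simp only [pow_succ, pow_zero, one_mul, mul_assoc])⟩))
      (subset_closure ⟨cm c3, by simp, od (n := 3) (by decide) (by rw [← o3]; simp only [pow_succ, pow_zero, one_mul, mul_assoc])⟩))
  · rw [orderOf_eq_prime (p := 7) (by rw [← hm]; simp only [pow_succ, pow_zero, one_mul, mul_assoc])
      (by simpa only [mul_assoc] using n3)]
    decide

theorem sat : Sat (wt ON.gm W) R := ONM.sat_of_tr (by decide) (by decide +kernel)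

theorem ox : OXStmt :=
  key _ sat (ONM.ne_one_of_tr (q := 130) (by decide) (by norm_num) (by decide +kernel))
    (ONM.ne_one_of_tr (q := 130) (by decide) (by norm_num) (by decide +kernel))
    (ONM.ne_one_of_tr (q := 130) (by decide) (by norm_num) (by decide +kernel))

theorem eqns_ParOX : True := by
  have := @W.eq_1
  have := @R.eq_1
  trivial

end Cfsg.Agent.H13.ParOX
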