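import Mathlib
import Cfsg.Agent.H53.PiHomS
import Cfsg.Agent.H8.GoldDefs
import Cfsg.Agent.H7.Alperin
import Cfsg.Agent.H29.Tori
import Cfsg.Agent.H29.PSLFacts
import Cfsg.Agent.H81.ZCor
import Cfsg.Agent.H67.Conj
import Cfsg.Agent.H67.Pi
import Cfsg.Agent.H67.Hall
import Cfsg.Agent.H4.Coprime
import Cfsg.Agent.S0205
import Cfsg.Agent.S0223
import Cfsg.Agent.S1221
import Cfsg.Agent.S1224

/-!
`π`-homogeneous groups whose `π`-subgroups are `2`-closed.
-/

set_option autoImplicit false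
set_option linter.unusedSectionVars false

namespace Cfsg.Agent.H13.PH

open Subgroup Cfsg
open Cfsg.Agent.H2 (IsPiNum)
open Cfsg.Agent.H94 (PiClosed PiHom)
open scoped MatrixGroups Pointwise

universe u

/-- A subgroup of the image lifts to a subgroup with the same prime divisors. -/
theorem exists_lift_primes {X Y : Type*} [Group X] [Finite X] [Group Y] (f : X →* Y)
    {H : Subgroup Y} (hH : H ≤ f.range) :
    ∃ L : Subgroup X, L.map f = H ∧ ∀ p : ℕ, p.Prime → p ∣ Nat.card L → p ∣ Nat.card H := by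
  obtain ⟨L, hL, hmin⟩ := Set.exists_min_image {L : Subgroup X | L.map f = H} (fun L => Nat.card L)
    (Set.toFinite _) ⟨H.comap f, map_comap_eq_self hH⟩
  refine ⟨L, hL, fun p hp hpL => ?_⟩
  by_contra hpH
  have := Fact.mk hp
  let g : L →* Y := f.comp L.subtype
  have key : ∀ M : Subgroup L, M ⊔ g.ker = ⊤ → M = ⊤ := by
    intro M hM
    have h1 : (M.map L.subtype).map f = H := by
      rw [map_map, ← hL]
      change M.map g = _
      rw [← sup_bot_eq (M.map g), ← (map_eq_bot_iff (f := g) g.ker).2 le_rfl, ← Subgroup.map_sup, hM,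
        ← MonoidHom.range_eq_map, MonoidHom.range_comp, range_subtype]
    have h2 := hmin _ h1
    rw [card_map_of_injective L.subtype_injective] at h2
    exact eq_top_of_le_card M h2
  obtain ⟨P⟩ : Nonempty (Sylow p L) := inferInstance
  have hP : (P : Subgroup L) ≤ g.ker := by
    intro x hx
    obtain ⟨k, hk⟩ := P.isPGroup' ⟨x, hx⟩
    have h1 : orderOf (g x) ∣ p ^ k := orderOf_dvd_of_pow_eq_one (by
      rw [← map_pow, show x ^ p ^ k = 1 from congrArg Subtype.val hk, map_one])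
    have h2 : orderOf (g x) ∣ Nat.card H :=
      orderOf_dvd_natCard _ (hL ▸ mem_map_of_mem f x.2 : g x ∈ H)
    rw [MonoidHom.mem_ker, ← orderOf_eq_one_iff]
    exact Nat.eq_one_of_dvd_coprimes
      (Nat.Coprime.pow_left k ((Nat.Prime.coprime_iff_not_dvd hp).2 hpH)) h1 h2
  have hn : (P : Subgroup L).Normal :=
    normalizer_eq_top_iff.1 (key _ (P.normalizer_sup_eq_top' hP))
  obtain ⟨C, hC⟩ := exists_right_complement'_of_coprime (N := (P : Subgroup L)) P.card_coprime_index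
  have h3 : C = ⊤ := key C (top_le_iff.1 (hC.sup_eq_top.symm.le.trans
    (sup_le (hP.trans le_sup_right) le_sup_left)))
  have h4 := hC.disjoint
  rw [h3, disjoint_top] at h4
  exact P.ne_bot_of_dvd_card hpL h4

/-- `2`-closed. -/
def Cl2 (X : Type*) [Group X] : Prop := ∀ P : Sylow 2 X, (P : Subgroup X).Normal

/-- All `π`-subgroups are `2`-closed. -/
def TC (π : Set ℕ) (X : Type*) [Group X] : Prop :=
  ∀ H : Subgroup X, IsPiNum π (Nat.card H) → Cl2 H

variable {π : Set ℕ}

section Transfer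

variable {X Y : Type*} [Group X] [Group Y]

theorem Cl2.of_surjective [Finite X] (h : Cl2 X) {f : X →* Y} (hf : Function.Surjective f) :
    Cl2 Y := by
  have : Fact (Nat.Prime 2) := ⟨Nat.prime_two⟩
  intro P
  obtain ⟨Q, rfl⟩ := Sylow.mapSurjective_surjective hf 2 P
  exact (h Q).map f hf

theorem TC.of_surjective [Finite X] (h : TC π X) {f : X →* Y} (hf : Function.Surjective f) :
    TC π Y := by
  intro H hH
  obtain ⟨L, rfl, h2⟩ := exists_lift_primes f (H := H) (by
    rw [MonoidHom.range_eq_top.2 hf]; exact le_top)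
  exact (h L fun p hp hd => hH p hp (h2 p hp hd)).of_surjective (f.subgroupMap_surjective L)

theorem TC.subgroup [Finite X] (h : TC π X) (K : Subgroup X) : TC π K := by
  intro H hH
  have e := H.equivMapOfInjective K.subtype K.subtype_injective
  exact (h (H.map K.subtype) (by rwa [← Nat.card_congr e.toEquiv])).of_surjective
    (f := e.symm.toMonoidHom) e.symm.surjective

theorem TC.of_involves [Finite X] (h : TC π X) (hi : Involves Y X) : TC π Y := by
  obtain ⟨K, R, _, ⟨e⟩⟩ := hi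
  exact ((h.subgroup K).of_surjective (QuotientGroup.mk'_surjective _)).of_surjective
    (f := e.toMonoidHom) e.surjective

theorem TC.cl2 [Finite X] (h : TC π X) (hX : IsPiNum π (Nat.card X)) : Cl2 X :=
  (h ⊤ (by rwa [card_top])).of_surjective (f := (⊤ : Subgroup X).subtype)
    fun x => ⟨⟨x, mem_top x⟩, rfl⟩

end Transfer

variable {G : Type u} [Group G] [Finite G]

theorem TC.cent (h : TC π G) (h2 : 2 ∈ π) {Y : Subgroup G} (hY : IsPiNum π (Nat.card Y))
    (ho : Odd (Nat.card Y)) {t : G} (ht : t * t = 1) (hn : t ∈ normalizer (Y : Set G)) :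
    t ∈ centralizer (Y : Set G) := by
  have : Fact (Nat.Prime 2) := ⟨Nat.prime_two⟩
  have ht2 : IsPGroup 2 (zpowers t) :=
    (IsPGroup.iff_card.2 ((Nat.dvd_prime_pow Nat.prime_two (m := 1)).1 (by
      rw [Nat.card_zpowers]
      exact orderOf_dvd_of_pow_eq_one (by rw [pow_one, pow_two, ht])) |>.imp fun _ h => h.2))
  have hn' : zpowers t ≤ normalizer (Y : Set G) := zpowers_le.2 hn
  obtain ⟨k, hk⟩ := IsPGroup.iff_card.1 ht2
  have hcop : (Nat.card Y).Coprime (Nat.card (zpowers t)) := by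
    rw [hk]; exact (Nat.coprime_two_right.2 ho).pow_right k
  have hc := H4.card_sup_of_le_normalizer hn' (disjoint_of_coprime_natCard hcop)
  have hcl := h (Y ⊔ zpowers t) (by
    intro p hp hd
    rw [hc, hk] at hd
    rcases (Nat.Prime.dvd_mul hp).1 hd with h1 | h1
    · exact hY p hp h1
    · rwa [(Nat.prime_dvd_prime_iff_eq hp Nat.prime_two).1 (hp.dvd_of_dvd_pow h1)])
  have htm : t ∈ Y ⊔ zpowers t := mem_sup_right (mem_zpowers t)
  obtain ⟨P, hP⟩ := (ht2.comap_subtype (K := Y ⊔ zpowers t)).exists_le_sylow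
  have htP : (⟨t, htm⟩ : ↥(Y ⊔ zpowers t)) ∈ (P : Subgroup _) := hP (mem_zpowers t)
  intro y hy
  have hym : y ∈ Y ⊔ zpowers t := mem_sup_left hy
  have h1 := mul_mem ((hcl P).conj_mem _ htP ⟨y, hym⟩) (inv_mem htP)
  obtain ⟨j, hj⟩ := P.isPGroup' ⟨_, h1⟩
  have h3 : (y * t * y⁻¹ * t⁻¹) ^ 2 ^ j = 1 := by
    simpa using congrArg (fun z : P => ((z : ↥(Y ⊔ zpowers t)) : G)) hj
  have h4 : y * t * y⁻¹ * t⁻¹ ∈ Y := by
    have := Y.mul_mem hy (H67.conj_mem_of_mem_normalizer hn (Y.inv_mem hy))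
    simpa [mul_assoc] using this
  have h5 : orderOf (y * t * y⁻¹ * t⁻¹) = 1 := Nat.eq_one_of_dvd_coprimes
    ((Nat.coprime_two_right.2 ho).pow_right j) (orderOf_dvd_natCard _ h4)
    (orderOf_dvd_of_pow_eq_one h3)
  rw [orderOf_eq_one_iff, mul_inv_eq_one, mul_inv_eq_iff_eq_mul] at h5
  exact h5

theorem TC.not_mem_of_inverts (h : TC π G) (h2 : 2 ∈ π) {t y : G} (ht : t * t = 1) {r : ℕ}
    (hr : r.Prime) (hr2 : r ≠ 2) (hy : orderOf y = r) (hi : t * y * t⁻¹ = y⁻¹) : r ∉ π := by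
  intro hπ
  have h1 := h.cent h2 (Y := zpowers y) (fun p hp hd => by
      rw [Nat.card_zpowers, hy] at hd
      rwa [(Nat.prime_dvd_prime_iff_eq hp hr).1 hd])
    (by rw [Nat.card_zpowers, hy]; exact hr.odd_of_ne_two hr2) ht
    (H53.mem_normalizer_zpowers_of_inverts hi) y (mem_zpowers y)
  rw [← h1, mul_inv_cancel_right] at hi
  have h3 : r ∣ 2 := hy ▸ orderOf_dvd_of_pow_eq_one (by
    rw [sq]; nth_rewrite 1 [hi]; exact inv_mul_cancel y)
  exact hr2 ((Nat.prime_dvd_prime_iff_eq hr Nat.prime_two).1 h3)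

theorem not_solvable [IsSimpleGroup G] (hna : ¬ IsMulCommutative G) : ¬ Group.IsSolvable G :=
  H53.not_isSolvable_of_simple hna

theorem even_card [IsSimpleGroup G] (hna : ¬ IsMulCommutative G) : 2 ∣ Nat.card G := by
  by_contra h
  exact not_solvable hna (S0205.result (Nat.odd_iff.2 (by omega)))

theorem false_of_simple_closed [IsSimpleGroup G] (hna : ¬ IsMulCommutative G) (h2 : 2 ∈ π)
    (h : TC π G) (hc : PiClosed πᶜ G) : False := by
  have : Fact (Nat.Prime 2) := ⟨Nat.prime_two⟩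
  obtain ⟨K, _, h3, h4, -⟩ := hc.exists_normal
  rcases (inferInstance : K.Normal).eq_bot_or_eq_top with rfl | rfl
  · rw [index_bot, compl_compl] at h4
    obtain ⟨P⟩ : Nonempty (Sylow 2 G) := inferInstance
    rcases (h.cl2 h4 P).eq_bot_or_eq_top with e | e
    · exact P.ne_bot_of_dvd_card (even_card hna) e
    · have : IsPGroup 2 G := (e ▸ P.isPGroup' : IsPGroup 2 (⊤ : Subgroup G)).of_equiv topEquiv
      have := this.isNilpotent
      exact not_solvable hna inferInstance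
  · rw [card_top] at h3
    exact h3 2 Nat.prime_two (even_card hna) h2

/-- The minimal counterexample. -/
structure Min (π : Set ℕ) (G : Type u) [Group G] : Prop where
  two : 2 ∈ π
  simple : IsSimpleGroup G
  nonab : ¬ IsMulCommutative G
  tc : TC π G
  hom : PiHom πᶜ G
  sub : ∀ M : Subgroup G, M ≠ ⊤ → PiClosed πᶜ M

namespace Min

theorem hom' (h : Min π G) {K : Subgroup G} (hK : IsPiNum π (Nat.card K)) {x : G}
    (hx : IsPiNum πᶜ (orderOf x)) (hn : x ∈ normalizer (K : Set G)) :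
    x ∈ centralizer (K : Set G) :=
  h.hom K x (by rwa [compl_compl]) hx hn

theorem isPiNum_two (h : Min π G) {K : Subgroup G} (hK : IsPGroup 2 K) :
    IsPiNum π (Nat.card K) := by
  have : Fact (Nat.Prime 2) := ⟨Nat.prime_two⟩
  obtain ⟨k, hk⟩ := IsPGroup.iff_card.1 hK
  intro p hp hd
  rw [hk] at hd
  rw [(Nat.prime_dvd_prime_iff_eq hp Nat.prime_two).1 (hp.dvd_of_dvd_pow hd)]
  exact h.two

theorem not_ess (h : Min π G) (P : Sylow 2 G) (H : Subgroup G) : ¬ H7.Ess 2 (P : Subgroup G) H := by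
  intro e
  have : Fact (Nat.Prime 2) := ⟨Nat.prime_two⟩
  have := h.simple
  have hH2 : IsPGroup 2 H := P.isPGroup'.to_le e.le
  have hN : normalizer (H : Set G) ≠ ⊤ := by
    intro hN
    rcases (normalizer_eq_top_iff.1 hN).eq_bot_or_eq_top with h1 | h1
    · have h2 := e.cent
      rw [h1, H53.centralizer_bot', inf_top_eq] at h2
      exact e.ne (le_antisymm e.le (h1 ▸ h2))
    · exact e.ne (le_antisymm e.le (h1 ▸ le_top))
  obtain ⟨O, _, hO1, hO2, hO3⟩ := (h.sub _ hN).exists_normal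
  rw [compl_compl] at hO2
  have hcl : Cl2 (normalizer (H : Set G) ⧸ O) :=
    ((h.tc.subgroup _).of_surjective (QuotientGroup.mk'_surjective O)).cl2 hO2
  obtain ⟨M, hM1, hM2, hM3, hM4⟩ := e.spe
  have hn := (hcl (e.syl.toSylow.mapSurjective (QuotientGroup.mk'_surjective O))).comap
    (QuotientGroup.mk' O)
  rw [Sylow.coe_mapSurjective, comap_map_eq, QuotientGroup.ker_mk'] at hn
  have hle : (e.syl.toSylow : Subgroup (normalizer (H : Set G))) ⊔ O ≤
      M.subgroupOf (normalizer (H : Set G)) := by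
    refine sup_le (fun x hx => hM2 hx) fun x hx => hM1 (h.hom' (h.isPiNum_two hH2) ?_ x.2)
    rw [orderOf_injective _ (subtype_injective _)]
    exact (hO3 x).1 hx
  refine not_le_of_gt hM3 fun n hn' => hM4 n hn' _ (P.isPGroup'.to_inf_left)
    (e.lt_inf_normalizer P.isPGroup') hM2 fun y hy => ?_
  rw [H8.mem_conj_smul] at hy
  have h1 := hn.conj_mem ⟨_, hy.2⟩ (mem_sup_left hy) ⟨n, hn'⟩
  have h2 := hle h1
  rw [mem_subgroupOf] at h2
  simpa [mul_assoc] using h2

theorem stronglyClosed (h : Min π G) (P : Sylow 2 G) :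
    IsStronglyClosed ((P : Subgroup G) ⊓ centralizer (P : Set G)) (P : Subgroup G) := by
  have : Fact (Nat.Prime 2) := ⟨Nat.prime_two⟩
  refine ⟨inf_le_left, fun x hx g hg => ?_⟩
  obtain ⟨k, hk, h1⟩ := H7.controls_fusion_of_ess P (normalizer ((P : Subgroup G) : Set G))
    (fun y hy => ⟨y, hy, fun _ _ => rfl⟩) (fun H x e => (h.not_ess P H e.1).elim)
    (A := {x}) (g := g⁻¹) (by simpa using hx.1)
    (by rintro _ ⟨_, rfl, rfl⟩; simp only [inv_inv]; exact hg)
  have h2 := h1 x rfl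
  rw [inv_inv] at h2
  rw [← h2]
  exact H67.conj_mem_of_mem_normalizer'
    (H67.le_normalizer_inf le_rfl (H67.normalizer_le_normalizer_centralizer _) hk) hx

theorem not_se (h : Min π G) {M : Subgroup G} (hM : IsStronglyEmbedded M) : False := by
  have := h.simple
  have : Fact (Nat.Prime 2) := ⟨Nat.prime_two⟩
  have hC := ((S0223.result M hM.1 hM.2.1).1 hM).1
  obtain ⟨s, hs⟩ := exists_prime_orderOf_dvd_card' (G := M) 2 hM.2.1.two_dvd
  have hs' : orderOf (s : G) = 2 := by rw [Subgroup.orderOf_coe, hs]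
  obtain ⟨s', hs1, hs2, hs3⟩ : ∃ s' ∈ M, orderOf s' = 2 ∧ s' ≠ s := by
    by_contra hc
    push Not at hc
    refine h.nonab ⟨⟨H81.comm_of_simple_of_isolated (u := (s : G)) ⟨hs', fun g hg => ?_⟩⟩⟩
    exact hc _ (hC s s.2 hs' (mem_centralizer_singleton_iff.2 hg.symm.eq))
      (by rw [← hs']; exact (MulAut.conj g).orderOf_eq _)
  obtain ⟨g, hg⟩ : ∃ g : G, g ∉ M := by
    by_contra hc
    push Not at hc
    exact hM.1 (eq_top_iff.2 fun g _ => hc g)
  have hne : ((1 : G) : G ⧸ M) ≠ (g : G ⧸ M) := by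
    intro e
    exact hg (by simpa using QuotientGroup.eq.1 e)
  have hcard := S1224.result M hM _ _ hne
  have h1 : Nontrivial {t : G // orderOf t = 2 ∧ t ∈ M} :=
    ⟨⟨s', hs2, hs1⟩, ⟨s, hs', s.2⟩, fun e => hs3 (congrArg Subtype.val e)⟩
  obtain ⟨⟨a, ha, ha1⟩, ⟨b, hb, hb1⟩, hab⟩ := (Finite.one_lt_card_iff_nontrivial.1
    (hcard ▸ Finite.one_lt_card_iff_nontrivial.2 h1)).exists_pair_ne
  have aa : a * a = 1 := by rw [← pow_two, ← ha, pow_orderOf_eq_one]
  have bb : b * b = 1 := by rw [← pow_two, ← hb, pow_orderOf_eq_one]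
  have ainv : a⁻¹ = a := inv_eq_of_mul_eq_one_right aa
  have binv : b⁻¹ = b := inv_eq_of_mul_eq_one_right bb
  have hk1 : a * b ≠ 1 := fun e => hab (Subtype.ext (by
    change a = b
    rw [← binv]; exact eq_inv_of_mul_eq_one_left e))
  have hkM : a * b ∈ M := by
    have := QuotientGroup.eq.1 ((show ((a : G) : G ⧸ M) = g by simpa using ha1).trans
      (show ((b : G) : G ⧸ M) = g by simpa using hb1).symm)
    rwa [ainv] at this
  have haM : a ∉ M := fun e => hne (by
    rw [← ha1]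
    exact QuotientGroup.eq.2 (by simpa using e))
  have hinv : a * (a * b) * a⁻¹ = (a * b)⁻¹ := by
    rw [← mul_assoc, aa, one_mul, mul_inv_rev, binv]
  have hodd : Odd (orderOf (a * b)) := by
    refine Odd.of_dvd_nat (hM.2.2 a haM) (orderOf_dvd_natCard _ ⟨hkM, (a * b)⁻¹, M.inv_mem hkM, ?_⟩)
    have := congrArg Inv.inv hinv
    rw [inv_inv] at this
    change a * (a * b)⁻¹ * a⁻¹ = a * b
    calc a * (a * b)⁻¹ * a⁻¹ = (a * (a * b) * a⁻¹)⁻¹ := by group
      _ = a * b := this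
  obtain ⟨r, hr, hrd⟩ := Nat.exists_prime_and_dvd (orderOf_eq_one_iff.not.2 hk1)
  have hy := orderOf_pow_orderOf_div (orderOf_pos (a * b)).ne' hrd
  have hr2 : r ≠ 2 := by rintro rfl; exact hodd.not_two_dvd_nat hrd
  have hrπ := h.tc.not_mem_of_inverts h.two aa hr hr2 hy (by rw [← conj_pow, hinv, inv_pow])
  obtain ⟨O, _, hO1, -, hO3⟩ := (h.sub _ hM.1).exists_normal
  have h3 : (⟨_, M.pow_mem hkM (orderOf (a * b) / r)⟩ : M) ∈ O := (hO3 _).2 (by
    rw [← Subgroup.orderOf_coe, hy]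
    intro p hp hd
    rwa [(Nat.prime_dvd_prime_iff_eq hp hr).1 hd])
  have h4 : O ≤ oddCore M := H3.le_pPrimeCore (Nat.coprime_two_right.2 (Nat.odd_iff.2 (by
    by_contra hc
    exact hO1 2 Nat.prime_two (by omega) h.two)))
  have h5 := S1221.result M hM (mem_map_of_mem M.subtype (h4 h3))
  have h6 : oddCore G = ⊥ := by
    rcases (pPrimeCore_normal 2 G).eq_bot_or_eq_top with e | e
    · exact e
    · have := H3.le_pPrimeCore_iff.1 (e.ge : (⊤ : Subgroup G) ≤ pPrimeCore 2 G)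
      rw [card_top] at this
      exact absurd (Nat.coprime_two_right.1 this) (Nat.not_odd_iff_even.2
        (even_iff_two_dvd.2 (even_card h.nonab)))
  rw [h6, mem_bot] at h5
  have h7 : (a * b) ^ (orderOf (a * b) / r) = 1 := h5
  rw [h7, orderOf_one] at hy
  exact hr.one_lt.ne hy

theorem not_j (h : Min π G) (hJ : H8.GD.JType G) : False := by
  have := h.simple
  have : Fact (Nat.Prime 2) := ⟨Nat.prime_two⟩
  obtain ⟨t, ht⟩ := exists_prime_orderOf_dvd_card' 2 (even_card h.nonab)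
  obtain ⟨E, hE, -, L, _, f, hf, hker, hL⟩ := hJ.cent t ht
  have hinj : Function.Injective f := by
    rw [← MonoidHom.ker_eq_bot_iff, hker, bot_subgroupOf]
  have e := MulEquiv.ofBijective f ⟨hinj, hf⟩
  obtain ⟨hs, hna⟩ : IsSimpleGroup L ∧ ¬ IsMulCommutative L := by
    rcases hL with hL | hL
    · exact ⟨hL.1.simple, hL.1.nonab⟩
    · exact ⟨hL.simple, hL.nonab⟩
  have := e.isSimpleGroup
  refine false_of_simple_closed (G := E) (fun hc => hna ⟨⟨fun a b => ?_⟩⟩) h.two (h.tc.subgroup E)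
    (h.sub E fun he => ?_)
  · obtain ⟨a, rfl⟩ := hf a
    obtain ⟨b, rfl⟩ := hf b
    rw [← map_mul, ← map_mul, hc.is_comm.comm]
  · have h1 : t ∈ center G := mem_center_iff.2 fun g =>
      mem_centralizer_singleton_iff.1 (hE.1 (he ▸ mem_top g))
    rcases (inferInstance : (center G).Normal).eq_bot_or_eq_top with e | e
    · rw [e, mem_bot] at h1
      rw [h1, orderOf_one] at ht
      omega
    · exact h.nonab ⟨⟨fun a b => (mem_center_iff.1 (e ▸ mem_top b) a)⟩⟩

theorem exists_prime (h : Min π G) (P : Sylow 2 G) (hP : IsMulCommutative (P : Subgroup G)) :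
    ∃ r : ℕ, r.Prime ∧ r ≠ 2 ∧ r ∈ π ∧ r ∣ Nat.card G := by
  have := h.simple
  have : Fact (Nat.Prime 2) := ⟨Nat.prime_two⟩
  have h1 : (centralizer ((P : Subgroup G) : Set G)).relIndex
      (normalizer ((P : Subgroup G) : Set G)) ≠ 1 := by
    intro e
    have hc := MonoidHom.ker_transferSylow_isComplement' P (relIndex_eq_one.1 e)
    rcases (inferInstance : (MonoidHom.transferSylow P (relIndex_eq_one.1 e)).ker.Normal).eq_bot_or_eq_top
      with e | e
    · rw [e, isComplement'_bot_left] at hc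
      have : IsPGroup 2 G := (hc ▸ P.isPGroup' : IsPGroup 2 (⊤ : Subgroup G)).of_equiv topEquiv
      have := this.isNilpotent
      exact not_solvable h.nonab inferInstance
    · rw [e, isComplement'_top_left] at hc
      exact P.ne_bot_of_dvd_card (even_card h.nonab) hc
  obtain ⟨r, hr, hd⟩ := Nat.exists_prime_and_dvd h1
  have h2 := h.hom.relIndex (P : Subgroup G) (by rw [compl_compl]; exact h.isPiNum_two P.isPGroup')
  rw [compl_compl] at h2
  refine ⟨r, hr, ?_, h2 r hr hd, hd.trans ((relIndex_dvd_card _ _).trans (card_subgroup_dvd_card _))⟩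
  rintro rfl
  exact P.not_dvd_index (hd.trans ((relIndex_dvd_of_le_left _ (le_centralizer _)).trans
    (relIndex_dvd_index_of_le le_normalizer)))

open H29 in
theorem not_v (h : Min π G) (hV : H8.GD.VType G) : False := by
  have : Fact (Nat.Prime 2) := ⟨Nat.prime_two⟩
  obtain ⟨P⟩ : Nonempty (Sylow 2 G) := inferInstance
  obtain ⟨r, hr, hr2, hrπ, hrd⟩ := h.exists_prime P
    (IsPGroup.isMulCommutative_of_card_eq_prime_sq (p := 2) (hV.four _ (H67.syl_top P)))
  obtain ⟨F, _, _, hq, hq3, ⟨e⟩⟩ := hV.iso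
  let ι : G →* PGL(2, F) := pslp.comp e.toMonoidHom
  have hι : Function.Injective ι := pslp_injective.comp e.injective
  have hL : ∀ g ∈ Lsub F, ∃ x, ι x = g := fun g hg => by
    obtain ⟨x, rfl⟩ := exists_pslp_eq hg
    exact ⟨e.symm x, by simp [ι]⟩
  have tor : ∀ {T D : Subgroup PGL(2, F)}, IsTorus T D → ∀ {y : G} {s : ℕ}, ι y ∈ T → s.Prime →
      s ≠ 2 → orderOf y = s → s ∉ π := by
    intro T D hT y s hy hs hs2 hys
    obtain ⟨w, hw, hw', hwL⟩ := hT.exists_not_mem_L
    obtain ⟨w, rfl⟩ := hL w hwL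
    refine h.tc.not_mem_of_inverts h.two (t := w) (hι ?_) hs hs2 hys (hι ?_)
    · rw [map_mul, map_one]; exact hT.invol hw hw'
    · rw [map_mul, map_mul, map_inv, map_inv]; exact hT.conj_eq_inv hw hw' hy
  have := Fact.mk hr
  obtain ⟨y, hy⟩ := exists_prime_orderOf_dvd_card' r hrd
  have hy1 : ι y ≠ 1 := fun e => by
    rw [hι (e.trans (map_one ι).symm), orderOf_one] at hy
    exact hr.one_lt.ne hy
  rcases mem_uni_or_mem_torus (ι y) with ⟨x, hx⟩ | ⟨-, T, D, hT, hyT⟩
  swap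
  · exact tor hT hyT hr hr2 hy hrπ
  have hrF : (r : F) = 0 :=
    ((uni_pow_eq_one_iff hx r).1 (by rw [← map_pow, ← hy, pow_orderOf_eq_one, map_one])).resolve_left
      hy1
  have hU : IsPGroup r ((uni x).comap ι) := by
    rintro ⟨g, hg⟩
    refine ⟨1, Subtype.ext (hι ?_)⟩
    simpa using (uni_pow_eq_one_iff hg r).2 (Or.inr hrF)
  obtain ⟨k, hk⟩ := IsPGroup.iff_card.1 hU
  have hUπ : IsPiNum π (Nat.card ((uni x).comap ι)) := fun p hp hd => by
    rw [hk] at hd
    rwa [(Nat.prime_dvd_prime_iff_eq hp hr).1 (hp.dvd_of_dvd_pow hd)]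
  obtain ⟨x', hx'⟩ : ∃ x' : P1 F, x ≠ x' := by
    by_cases h0 : x = inf
    · exact ⟨pt 0, h0 ▸ (pt_ne_inf 0).symm⟩
    · exact ⟨inf, h0⟩
  obtain ⟨T, D, hT, hT1, -⟩ := exists_isSplitTorus hx'
  have hT' : IsTorus T D := Or.inl hT
  have hc := hT'.card_inf_L
  rw [hT.card, Nat.card_eq_fintype_card] at hc
  have hc1 : Nat.card ↥(T ⊓ Lsub F) ≠ 1 := by
    intro e
    rw [e, mul_one] at hc
    have := Nat.gcd_le_left (m := 2) (Fintype.card F - 1) two_pos
    omega
  obtain ⟨s, hs, hsd⟩ := Nat.exists_prime_and_dvd hc1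
  have := Fact.mk hs
  have := finite_PGL2 (F := F)
  obtain ⟨g, hg⟩ := exists_prime_orderOf_dvd_card' s hsd
  obtain ⟨z, hz⟩ := hL g g.2.2
  have hzs : orderOf z = s := by rw [← orderOf_injective ι hι, hz, Subgroup.orderOf_coe, hg]
  have hzT : ι z ∈ T := hz ▸ g.2.1
  have hzN : z ∈ normalizer (((uni x).comap ι : Subgroup G) : Set G) := by
    refine H67.mem_normalizer_of_cj_le (H67.cj_le_iff.2 fun a ha => ?_)
    rw [mem_comap, map_mul, map_mul, map_inv]
    exact conj_mem_uni_of_fix ((hT1 _).1 hzT).1 ha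
  have hzC : z ∉ centralizer (((uni x).comap ι : Subgroup G) : Set G) := by
    intro hc
    have h1 := congrArg ι (hc y hx)
    rw [map_mul, map_mul] at h1
    refine hT'.not_mem_uni hzT (fun e => ?_) x (mem_uni_of_commute hx hy1 h1.symm)
    rw [hι (e.trans (map_one ι).symm), orderOf_one] at hzs
    exact hs.one_lt.ne hzs
  by_cases hs2 : s = 2
  · refine hzC (h.tc.cent h.two hUπ (by rw [hk]; exact (hr.odd_of_ne_two hr2).pow) ?_ hzN)
    rw [← pow_two, ← hs2, ← hzs, pow_orderOf_eq_one]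
  · refine hzC (h.hom' hUπ (fun p hp hd => ?_) hzN)
    rw [hzs] at hd
    rw [(Nat.prime_dvd_prime_iff_eq hp hs).1 hd]
    exact tor hT' hzT hs hs2 hzs

theorem not_gtype (h : Min π G) : ¬ H8.GD.GType G := by
  rintro (hG | hG | hG)
  · obtain ⟨M, hM⟩ := hG.se
    exact h.not_se hM
  · exact h.not_v hG
  · exact h.not_j hG

end Min

end Cfsg.Agent.H13.PH
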