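import Cfsg.Agent.Lead.PcDefs
import Cfsg.Agent.H3.Frattini

/-! Project PL, piece Nil. -/

set_option autoImplicit false

namespace Cfsg.Agent.H13.PlNil

open Subgroup Cfsg.Agent.Lead.Pc
open scoped commutatorElement

universe u

theorem sq_le {G : Type u} [Group G] (T : Subgroup G) : Sq T ≤ T := by
  refine (closure_le _).2 ?_
  rintro x ⟨w, hw, rfl⟩
  exact mul_mem hw hw

theorem comm_le {G : Type u} [Group G] (T : Subgroup G) : ⁅Sq T, T⁆ ≤ Sq T := by
  refine commutator_le.2 fun a ha b hb => ?_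
  have ha' := sq_le T ha
  have e : ⁅a, b⁆ = (a * a) * ((a⁻¹ * b) * (a⁻¹ * b)) * (b⁻¹ * b⁻¹) := by
    rw [commutatorElement_def]; group
  rw [e]
  exact mul_mem (mul_mem (subset_closure ⟨a, ha', rfl⟩)
    (subset_closure ⟨_, mul_mem (inv_mem ha') hb, rfl⟩)) (subset_closure ⟨_, inv_mem hb, rfl⟩)

theorem nil : NilStmt.{u} := by
  intro G _ _ T hT h
  have : Fact (Nat.Prime 2) := ⟨Nat.prime_two⟩
  have hF : IsPGroup 2 (Sq T) := hT.to_le (sq_le T)
  have h1 : Sq (Sq T) ≤ (frattini (Sq T)).map (Sq T).subtype := by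
    refine (closure_le _).2 ?_
    rintro x ⟨w, hw, rfl⟩
    rw [← pow_two]
    exact Cfsg.Agent.H3.pow_mem_map_frattini hF hw
  have h2 : ⁅Sq T, T⁆ = Sq T := Cfsg.Agent.H3.eq_of_sup_map_frattini_eq
    (le_antisymm (sup_le (comm_le T) (map_subtype_le _)) (h.trans (sup_le_sup_left h1 _)))
  have h3 : ∀ n, Sq T ≤ T.lowerCentralSeries n := fun n => by
    induction n with
    | zero => exact sq_le T
    | succ n ih =>
      rw [Subgroup.lowerCentralSeries_succ]
      exact h2.ge.trans (commutator_mono ih le_rfl)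
  obtain ⟨n, hn⟩ := (isNilpotent_iff_lowerCentralSeries T).1 hT.isNilpotent
  exact le_bot_iff.1 (hn ▸ h3 n)

end Cfsg.Agent.H13.PlNil
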