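import Cfsg.Agent.H1.SpD
import Cfsg.Agent.H1.MlAll

/-!
# Uniqueness of central extensions of fusion systems up to a central automorphism
-/

set_option autoImplicit false

namespace Cfsg.Agent.H13.SpUq

open Subgroup H83 H1.ML H97 H98 H98.ML

universe u v

theorem exists_iso (key : KeyStmt.{v}) {G B : Type v} [Group G] [AddCommGroup B] {p : ℕ}
    {T : Subgroup G} {E : FusionSystem T} {j : Multiplicative B →* G} [Finite G] [Fact p.Prime]
    (c : Cx p T j.range E) (inj : Function.Injective j) :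
    ∃ α β : G → G, FsIso E (groupFusionSystem T) α β ∧ (∀ s, α s * s⁻¹ ∈ j.range) ∧
      ∀ a ∈ j.range, α a = a := by
  obtain ⟨χ, hχ, H⟩ := exists_chi key c inj
  have hm : ∀ b, ∀ s ∈ T, J j b * s ∈ T := fun b s hs => mul_mem (c.le (J_mem b)) hs
  have hc : ∀ b, ∀ s ∈ T, ev (J j b * s) χ = ev s χ := fun b s hs => by
    rw [hχ.1 _ (c.le (J_mem b)) s hs, hχ.2 _ (J_mem b), zero_add]
  let α : G → G := fun s => J j (-ev s χ) * s
  let β : G → G := fun s => J j (ev s χ) * s
  have gi : GIso T T α β :=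
    ⟨fun x hx y hy => by
      simp only [α]
      rw [hχ.1 x hx y hy, neg_add, J_add, mul_assoc (J j (-ev x χ)) x, ← mul_assoc x,
        c.cen _ (J_mem (-ev y χ)) x]
      simp only [mul_assoc],
    fun x hx => hm _ x hx, fun x hx => hm _ x hx,
    fun x hx => by simp only [α, β]; rw [hc _ x hx, J_neg, mul_inv_cancel_left],
    fun x hx => by simp only [α, β]; rw [hc _ x hx, J_neg, inv_mul_cancel_left]⟩
  have fi := gi.fsIso_push E
  have ia : ∀ {P : Subgroup G}, j.range ≤ P → P ≤ T → img P α = P := fun {P} hA hP =>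
    eq_of_le_of_card_ge (img_le_iff.2 fun x hx => mul_mem (hA (J_mem _)) hx) (gi.card_img hP).ge
  have ib : ∀ {P : Subgroup G}, j.range ≤ P → ∀ x ∈ P, β x ∈ P := fun hA x hx =>
    mul_mem (hA (J_mem _)) hx
  have ea : ∀ g x, x ∈ T → g * x * g⁻¹ ∈ T →
      α (J j (ev (g * x * g⁻¹) χ - ev x χ) * (g * x * g⁻¹)) = g * α x * g⁻¹ := fun g x _ h => by
    simp only [α]
    rw [hc _ _ h, ← mul_assoc (J j _), ← J_add, ← mul_assoc g, c.cen _ (J_mem _) g,
      neg_add_eq_sub, sub_sub_cancel_left]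
    simp only [mul_assoc]
  have agree : ∀ (P : Subgroup G) (f : G → G), j.range ≤ P → Cen p j.range P →
      (Mor (gi.push E) P f ↔ Mor (groupFusionSystem T) P f) := fun P f hA hC => by
    refine ⟨fun hf => ?_, fun hf => ?_⟩
    · have hP := hf.le
      have h0 := fi.mor_of_img hP ((ia hA hP).symm ▸ hf)
      obtain ⟨g, hg⟩ := c.h1 P _ hA h0
      have hT : ∀ x ∈ P, g * x * g⁻¹ ∈ T := fun x hx => by
        simpa using mul_mem (inv_mem (c.le (hg x hx))) (h0.mem hx)
      have hφ := H P g hC hP hT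
      obtain ⟨ψ, hψ, i1, -, i3, -⟩ := hφ.inv
      have k : ∀ x ∈ P, ∃ a ∈ j.range, β (f (α x)) =
          J j (ev (g * (a * x) * g⁻¹) χ - ev (a * x) χ) * (g * (a * x) * g⁻¹) := fun x hx => by
        obtain ⟨a, ha, e⟩ := split (hg x hx)
        refine ⟨_, mul_mem ha (inv_mem (J_mem (ev (g * x * g⁻¹) χ - ev x χ))), ?_⟩
        rw [c.map_left hA hφ (mul_mem ha (inv_mem (J_mem _))) hx, e, mul_assoc a,
          inv_mul_cancel_left]
      have m : ∀ x ∈ P, β (f (α x)) ∈ img P _ := fun x hx => by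
        obtain ⟨a, ha, e⟩ := k x hx
        rw [e]; exact hφ.mem_img.2 ⟨_, mul_mem (hA ha) hx, rfl⟩
      obtain ⟨w, hw, e⟩ := c.inner hA hC (h0.comp hψ m) fun x hx => by
        obtain ⟨a, ha, e⟩ := k x hx
        rw [e, i1 _ (mul_mem (hA ha) hx), mul_inv_cancel_right]; exact ha
      refine mor_group_iff.2 ⟨hP, fun x hx => hf.mem hx, g * α w, fun y hy => ?_⟩
      have hx := ib hA y hy
      have hwx := mul_mem (mul_mem hw hx) (inv_mem hw)
      have := i3 _ (m _ hx)
      rw [e _ hx] at this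
      have := congrArg α this
      rw [ea _ _ (hP hwx) (hT _ hwx), gi.hom.map_conj (hP hw) (hP hx), gi.right _ (hP hy),
        gi.right _ (hf.mem hy)] at this
      rw [← this]; group
    · obtain ⟨hP, hT, g, e⟩ := mor_group_iff.1 hf
      have hT' : ∀ x ∈ P, g * x * g⁻¹ ∈ T := fun x hx => e x hx ▸ hT x hx
      have := fi.mor _ _ (H P g hC hP hT')
      rw [ia hA hP] at this
      refine this.congr fun y hy => ?_
      rw [ea _ _ (hP (ib hA y hy)) (hT' _ (ib hA y hy)), gi.right _ (hP hy), e y hy]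
  have e : gi.push E = groupFusionSystem T := by
    have h1 : gi.push E ≤ groupFusionSystem T := by
      refine H96.alperin_le c.syl.isPGroup (fi.isSaturated c.sat) fun P hP γ hγ => ?_
      have hT : P ≤ T := hP.elim (fun h => h.le) fun h => h.1.1
      have : j.range ≤ P ∧ Cen p j.range P := by
        rcases hP with rfl | hP
        · exact c.ess (.inl rfl)
        · have h := c.ess (.inr (fi.symm.isEssential hP))
          rwa [← ia h.1 (gi.symm.img_le hT), gi.symm.img_img hT] at h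
      exact mem_autGroup_of_mor ((agree P _ this.1 this.2).1 (mor_of_mem_autGroup hT hγ))
    have h2 : groupFusionSystem T ≤ gi.push E := by
      refine H96.alperin_le c.syl.isPGroup c.group.sat fun P hP γ hγ => ?_
      have hT : P ≤ T := hP.elim (fun h => h.le) fun h => h.1.1
      have := c.group.ess hP
      exact mem_autGroup_of_mor ((agree P _ this.1 this.2).2 (mor_of_mem_autGroup hT hγ))
    exact fs_ext_mor fun P f => ⟨le_iff.1 h1 P f, le_iff.1 h2 P f⟩
  exact ⟨α, β, e ▸ fi, fun s => by simp only [α]; rw [mul_inv_cancel_right]; exact J_mem _,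
    fun a ha => by simp only [α]; rw [hχ.2 a ha, neg_zero, J_zero, one_mul]⟩

theorem uq : H1.SP.UqStmt.{u} := by
  intro S G _ _ _ _ p _ F hF N hN ι inj hT hZ h1 h2
  let θ : G → S := Function.invFun ι
  have l : ∀ x, θ (ι x) = x := Function.leftInverse_invFun inj
  have gi : GIso ⊤ ι.range ι θ := ⟨fun x _ y _ => map_mul ι x y, fun x _ => ⟨x, rfl⟩, fun _ _ => trivial,
    fun x _ => l x, fun _ hy => Function.invFun_eq hy⟩
  have fi := gi.fsIso_push F
  have eA : ∀ P : Subgroup S, img P ι = P.map ι := fun P => by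
    ext y
    exact gi.mem_img le_top
  have hc := isCentral_iff.1 (fi.isCentral hN)
  rw [← eA] at hZ h1 h2
  let j : Multiplicative (ZM (img N ι)) →* G := MonoidHom.mk' (fun z => zv z.toAdd) fun _ _ => rfl
  have ej : j.range = img N ι := by
    ext a
    exact ⟨fun ⟨z, e⟩ => e ▸ (zv_mem z.toAdd).1, fun ha =>
      ⟨.ofAdd (zk a ⟨ha, fun h _ => mem_center_iff.1 (hZ ha) h⟩), rfl⟩⟩
  have le : ∀ {P : Subgroup G}, img N ι ≤ P → N ≤ img P θ := fun h =>
    gi.img_img hN.1 ▸ img_mono θ h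
  have c : Cx p ι.range j.range (gi.push F) := ej.symm ▸
    { syl := hT
      sat := fi.isSaturated hF
      le := hc.1
      cen := fun a ha => mem_center_iff.1 (hZ ha)
      fix := fun P f hf a ha hP => by
        obtain ⟨g, -, e, e'⟩ := hc.2 P f hf
        rw [← e a hP, e' a ha]
      h1 := fun P f hP hf => by
        obtain ⟨g, hg⟩ := h1 _ _ (le hP) (fi.mor' P f hf)
        refine ⟨g, fun y hy => ?_⟩
        have := hg (θ y) (mem_img_of_mem θ hy)
        rwa [gi.right _ (hf.le hy), gi.right _ (hf.mem hy)] at this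
      h2 := fun P g hP hPT hg => by
        obtain ⟨φ, hφ, e⟩ := h2 _ g (le hP) fun x hx => hg _ (gi.symm.symm_mem hPT hx)
        have h0 := fi.mor _ _ hφ
        rw [gi.symm.img_img hPT] at h0
        refine ⟨_, h0, fun y hy => ?_⟩
        have := e (θ y) (mem_img_of_mem θ hy)
        rwa [gi.right _ (hPT hy)] at this }
  obtain ⟨α, β, fi', a1, a2⟩ := exists_iso key_all c fun _ _ e => zv_inj e
  rw [ej] at a1 a2
  have ft := fi.trans fi'
  have gs := (gi.trans fi'.g).trans gi.symm
  have r : ∀ x, ι (θ (α (ι x))) = α (ι x) := fun x => gi.right _ (ft.g.mem x trivial)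
  refine ⟨⟨⟨fun x => θ (α (ι x)), fun x => θ (β (ι x)), fun x => gs.left x trivial,
    fun x => gs.right x trivial⟩, fun x y => gs.hom x trivial y trivial⟩, fun x => ?_, fun a ha => ?_,
    fun P f => ?_⟩
  · refine (gi.apply_mem_img_iff le_top trivial).1 ?_
    change ι (x⁻¹ * θ (α (ι x))) ∈ _
    rw [map_mul, r, map_inv, ← inv_mul_cancel_right (α (ι x)) (ι x),
      ← mem_center_iff.1 (hZ (a1 _)), inv_mul_cancel_left]
    exact a1 _
  · change θ (α (ι a)) = a
    rw [a2 _ (mem_img_of_mem ι ha), l]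
  · change _ ↔ ∃ g, ∀ x ∈ P, ι (θ (α (ι (f x)))) = g * ι (θ (α (ι x))) * g⁻¹
    simp only [r]
    refine ⟨fun h => ?_, fun ⟨g, hg⟩ => ?_⟩
    · obtain ⟨-, -, g, hg⟩ := mor_group_iff.1 (ft.mor P f h)
      exact ⟨g, fun x hx => by
        rw [← hg _ (mem_img_of_mem (fun x => α (ι x)) hx), ft.g.left x trivial]⟩
    · refine (ft.mor_iff le_top (f' := fun y => g * y * g⁻¹) (fun _ _ => trivial)
        fun x hx => (hg x hx).symm).1 (mor_group_iff.2 ⟨ft.g.img_le le_top, fun y hy => ?_, g,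
          fun _ _ => rfl⟩)
      obtain ⟨x, hx, rfl⟩ := (ft.g.mem_img le_top).1 hy
      rw [← hg x hx]
      exact ft.g.mem _ trivial

end Cfsg.Agent.H13.SpUq
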