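import Cfsg.Agent.H56.ZCKit

/-!
Elements normalising a solvable block: the facts `Kt4`.
-/

set_option autoImplicit false

namespace Cfsg.Agent.H13.ZcKt4

open Subgroup Cfsg.Agent.H56.FS Cfsg.Agent.H56.ZC
open scoped commutatorElement

universe u

variable {G : Type u} [Group G] {p : ℕ} {D : Set (Subgroup G)}

theorem mem_n {X : Subgroup G} {t x : G} (ht : t ∈ normalizer (LL D X : Set G))
    (hx : x ∈ RR D X) : x⁻¹ * (t * x * t⁻¹) ∈ RR D X :=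
  mul_mem (inv_mem hx) ((mem_normalizer_iff.1 (norm_RR X ht) x).1 hx)

theorem t1 (k : Kt1 D) {X : Subgroup G} (hX : Sv D X) {t : G}
    (ht : t ∈ normalizer (LL D X : Set G)) {x : G} (hx : x ∈ RR D X) {y : G} (hy : y ∈ RR D X)
    (he : ⁅t, y⁆ ∈ ZZ D X) : ⁅x⁻¹ * (t * x * t⁻¹), y⁆ = ⁅t, ⁅x, y⁆⁆ := by
  have hn := mem_n ht hx
  have hc := k.cm X hX _ hn y hy
  obtain ⟨n, en⟩ : ∃ n, n = x⁻¹ * (t * x * t⁻¹) := ⟨_, rfl⟩
  rw [← en] at hn hc ⊢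
  obtain ⟨e, ee⟩ : ∃ e, e = ⁅t, y⁆ := ⟨_, rfl⟩
  rw [← ee] at he
  have e1 : t * x * t⁻¹ = x * n := by rw [en]; group
  have e2 : t * y * t⁻¹ = e * y := by rw [ee, commutatorElement_def]; group
  have c1 : (x * n) * e = e * (x * n) := ZZ_comm he (RR_le X (mul_mem hx hn))
  have c2 : x * ⁅n, y⁆ = ⁅n, y⁆ * x := ZZ_comm hc (RR_le X hx)
  have c3 : (x * n * y * (x * n)⁻¹ * y⁻¹) * e = e * (x * n * y * (x * n)⁻¹ * y⁻¹) :=
    ZZ_comm he (RR_le X (mul_mem (mul_mem (mul_mem (mul_mem hx hn) hy)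
      (inv_mem (mul_mem hx hn))) (inv_mem hy)))
  have h1 : t * ⁅x, y⁆ * t⁻¹ = ⁅n, y⁆ * ⁅x, y⁆ := by
    calc t * ⁅x, y⁆ * t⁻¹
        = (t * x * t⁻¹) * (t * y * t⁻¹) * (t * x * t⁻¹)⁻¹ * (t * y * t⁻¹)⁻¹ := by
          rw [commutatorElement_def]; group
      _ = ((x * n) * e) * y * (x * n)⁻¹ * y⁻¹ * e⁻¹ := by rw [e1, e2]; group
      _ = (e * (x * n * y * (x * n)⁻¹ * y⁻¹)) * e⁻¹ := by rw [c1]; group
      _ = (x * ⁅n, y⁆) * (y * x⁻¹ * y⁻¹) := by rw [← c3, commutatorElement_def]; group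
      _ = ⁅n, y⁆ * ⁅x, y⁆ := by rw [c2, commutatorElement_def x y]; group
  rw [commutatorElement_def t, h1]
  group

theorem t2 [Finite G] (h : Cn p D) {X : Subgroup G} (hX : Sv D X) {A : Subgroup G} (hA : A ∈ D)
    (hAX : A ≤ X) {t : G} (hAt : A ≤ Ce t) :
    LL D X ≤ Ce t ↔ ∀ x ∈ RR D X, x⁻¹ * (t * x * t⁻¹) ∈ ZZ D X := by
  constructor
  · intro hL x hx
    have : x⁻¹ * (t * x * t⁻¹) = 1 := by
      rw [← mem_Ce.1 (hL (RR_le X hx))]; group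
    rw [this]
    exact one_mem _
  · intro hn
    refine LL_le_of fun B hB hBX => ?_
    obtain ⟨x, hx, rfl⟩ := h.toCl2.conj_pt hX hA hAX hB hBX
    have e1 : cj (x⁻¹ * (t * x * t⁻¹)) A = A :=
      cj_of_cent fun a ha => ZZ_comm (hn x hx) (le_LL hA hAX ha)
    have e2 : cj t A = A := cj_of_cent (le_Ce_iff.1 hAt)
    have e3 : cj t (cj x A) = cj x A := by
      calc cj t (cj x A) = cj (x * (x⁻¹ * (t * x * t⁻¹)) * t) A := by
            rw [cj_cj, show x * (x⁻¹ * (t * x * t⁻¹)) * t = t * x by group]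
        _ = cj x A := by rw [← cj_cj, ← cj_cj, e2, e1]
    exact le_Ce_iff.2 (h.eps _ hB (cj_eq_iff.1 e3))

theorem Ce_sq {t : G} {A : Subgroup G} (h : A ≤ Ce t) : A ≤ Ce (t * t) := fun a ha => by
  have := mem_Ce.1 (h ha)
  rw [mem_Ce, ← mul_assoc, this, mul_assoc, this, mul_assoc]

theorem t0 [Finite G] (h : Cn p D) (k : Kt1 D) {X : Subgroup G} (hX : Sv D X) {A : Subgroup G}
    (hA : A ∈ D) (hAX : A ≤ X) (m : ℕ) : ∀ t : G, t ^ 2 ^ m = 1 → A ≤ Ce t →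
    t ∈ normalizer (LL D X : Set G) → ZZ D X ≤ Ce t → LL D X ≤ Ce t := by
  induction m with
  | zero =>
    intro t ht _ _ _ x _
    rw [pow_zero, pow_one] at ht
    rw [mem_Ce, ht, mul_one, one_mul]
  | succ m ih =>
    intro t ht hAt hn hZ
    have hL : LL D X ≤ Ce (t * t) :=
      ih (t * t) (by rw [← pow_two, ← pow_mul, ← pow_succ', ht]) (Ce_sq hAt) (mul_mem hn hn)
        (Ce_sq hZ)
    refine (t2 h hX hA hAX hAt).2 fun x hx => ?_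
    by_contra hne
    have hnR := mem_n hn hx
    obtain ⟨a, ha, a1, -⟩ := h.toBs2.exists_gen hA
    have haL : a ∈ LL D X := le_LL hA hAX ha
    have hyR : a * (x⁻¹ * (t * x * t⁻¹)) * a⁻¹ ∈ RR D X :=
      (mem_normalizer_iff.1 (LL_le_norm_RR X haL) _).1 hnR
    have c1 : x * (t * t) = t * t * x := mem_Ce.1 (hL (RR_le X hx))
    have c2 : a * t = t * a := mem_Ce.1 (hAt ha)
    have e1 : ⁅t, x⁻¹ * (t * x * t⁻¹)⁆ =
        (x⁻¹ * (t * x * t⁻¹))⁻¹ * (x⁻¹ * (t * x * t⁻¹))⁻¹ := by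
      rw [commutatorElement_def]
      calc t * (x⁻¹ * (t * x * t⁻¹)) * t⁻¹ * (x⁻¹ * (t * x * t⁻¹))⁻¹
          = t * x⁻¹ * t⁻¹ * (t * t * x) * (t * t)⁻¹ * (x⁻¹ * (t * x * t⁻¹))⁻¹ := by group
        _ = _ := by rw [← c1]; group
    have e2 : ⁅t, a * (x⁻¹ * (t * x * t⁻¹)) * a⁻¹⁆ = a * ⁅t, x⁻¹ * (t * x * t⁻¹)⁆ * a⁻¹ := by
      generalize x⁻¹ * (t * x * t⁻¹) = n
      rw [commutatorElement_def, commutatorElement_def]
      calc t * (a * n * a⁻¹) * t⁻¹ * (a * n * a⁻¹)⁻¹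
          = (t * a) * n * (t * a)⁻¹ * (a * n * a⁻¹)⁻¹ := by group
        _ = _ := by rw [← c2]; group
    have hE : ⁅t, a * (x⁻¹ * (t * x * t⁻¹)) * a⁻¹⁆ ∈ ZZ D X := by
      rw [e2, e1]
      exact (mem_normalizer_iff.1 (norm_ZZ X (le_normalizer haL)) _).1
        (k.sq X hX _ (inv_mem hnR))
    refine k.nc X hX A hA hAX a ha a1 _ hnR hne ?_
    rw [t1 k hX hn hx hyR hE, commutatorElement_eq_one_iff_mul_comm]
    exact (mem_Ce.1 (hZ (k.cm X hX x hx _ hyR))).symm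

theorem kt4 : Kt4Stmt.{u} := fun _ _ _ _ _ h k =>
  { t0 := fun _ hX _ hA hAX t ⟨m, hm⟩ => t0 h k hX hA hAX m t hm
    t1 := fun _ hX _ ht _ hx _ hy he => t1 k hX ht hx hy he
    t2 := fun _ hX _ hA hAX _ hAt _ => t2 h hX hA hAX hAt }

end Cfsg.Agent.H13.ZcKt4
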